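/-
Lifts of unipotent subgroups to central extensions: root groups separated by torus elements.
-/
import Mathlib

set_option autoImplicit false
set_option linter.unusedSectionVars false

namespace CfsgLib.Known.RootLift

open Subgroup

universe u v w

/-- The commutator. -/
def cm {Δ : Type*} [Group Δ] (x y : Δ) : Δ := x * y * x⁻¹ * y⁻¹

theorem cm_symm {Δ : Type*} [Group Δ] (x y : Δ) : cm y x = (cm x y)⁻¹ := by
  simp only [cm]; group

theorem map_cm {Δ Δ' : Type*} [Group Δ] [Group Δ'] (f : Δ →* Δ') (x y : Δ) :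
    f (cm x y) = cm (f x) (f y) := by simp [cm]

theorem conj_eq_cm_mul {Δ : Type*} [Group Δ] (x y : Δ) : x * y * x⁻¹ = cm x y * y := by
  simp only [cm]; group

theorem cm_eq_one {Δ : Type*} [Group Δ] {x y : Δ} : cm x y = 1 ↔ x * y = y * x := by
  rw [cm, mul_inv_eq_one, mul_inv_eq_iff_eq_mul]

/-! ### Filtrations by heights -/

section Layer

variable {Δ : Type*} [Group Δ] {K : Type v} [Field K] [Finite K] {N : ℕ} (ht : Fin N → ℕ)
  (M : Fin N → AddSubgroup K) (Y : Fin N → K → Δ)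

/-- The subgroup generated by some of the classes. -/
def part (P : Fin N → Prop) : Subgroup Δ :=
  closure {g | ∃ i, P i ∧ ∃ t ∈ M i, g = Y i t}

/-- The subgroup generated by the elements of height at least `m`. -/
abbrev lay (m : ℕ) : Subgroup Δ := part M Y (fun i => m ≤ ht i)

variable {ht M Y}

theorem mem_part {P : Fin N → Prop} {i : Fin N} (h : P i) {t : K} (t_mem : t ∈ M i) :
    Y i t ∈ part M Y P :=
  subset_closure ⟨i, h, t, t_mem, rfl⟩

theorem part_mono {P Q : Fin N → Prop} (h : ∀ i, P i → Q i) : part M Y P ≤ part M Y Q :=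
  closure_mono fun _ ⟨i, hi, t, ht', e⟩ => ⟨i, h i hi, t, ht', e⟩

theorem lay_anti {m m' : ℕ} (h : m ≤ m') : lay ht M Y m' ≤ lay ht M Y m :=
  part_mono fun _ hi => h.trans hi

theorem lay_eq_bot {m : ℕ} (h : ∀ i, ht i < m) : lay ht M Y m = ⊥ := by
  rw [lay, part, closure_eq_bot_iff]
  rintro g ⟨i, hi, -⟩
  exact absurd hi (not_le.2 (h i))

theorem part_norm {P : Fin N → Prop} {g : Δ}
    (h : ∀ k, P k → ∀ u ∈ M k, g * Y k u * g⁻¹ ∈ part M Y P)
    {x : Δ} (hx : x ∈ part M Y P) : g * x * g⁻¹ ∈ part M Y P := by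
  have hle : part M Y P ≤ (part M Y P).comap (MulAut.conj g).toMonoidHom :=
    (closure_le _).2 fun y ⟨k, hk, u, hu, e⟩ => by subst e; exact h k hk u hu
  exact hle hx

variable (hadd : ∀ i, ∀ t ∈ M i, ∀ u ∈ M i, Y i (t + u) = Y i t * Y i u)

include hadd in
theorem Y_zero (i : Fin N) : Y i 0 = 1 := by
  have := hadd i 0 (zero_mem _) 0 (zero_mem _)
  rwa [add_zero, left_eq_mul] at this

include hadd in
theorem Y_neg (i : Fin N) {t : K} (ht' : t ∈ M i) : Y i (-t) = (Y i t)⁻¹ :=
  eq_inv_of_mul_eq_one_left (by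
    rw [← hadd i _ (neg_mem ht') t ht', neg_add_cancel, Y_zero hadd])

include hadd in
/-- The elements of height at least `m₀` are products along the classes. -/
theorem card_lay [Finite Δ] (hpos : ∀ i, 0 < ht i) {m₀ : ℕ}
    (hrel : ∀ i j, m₀ ≤ ht i → m₀ ≤ ht j → ∀ t ∈ M i, ∀ u ∈ M j,
      cm (Y i t) (Y j u) ∈ lay ht M Y (ht i + ht j)) {m : ℕ} (hm : m₀ ≤ m) :
    Nat.card (lay ht M Y m₀) ≤ Nat.card (lay ht M Y m) *
      ∏ i ∈ Finset.univ.filter (fun i => m₀ ≤ ht i ∧ ht i < m), Nat.card (M i) := by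
  classical
  induction m, hm using Nat.le_induction with
  | base =>
    rw [Finset.filter_false_of_mem (fun i _ => by omega), Finset.prod_empty, mul_one]
  | succ m hm ih =>
    have hsplit : Finset.univ.filter (fun i => m₀ ≤ ht i ∧ ht i < m + 1) =
        Finset.univ.filter (fun i => m₀ ≤ ht i ∧ ht i < m) ∪
          Finset.univ.filter (fun i => ht i = m) := by
      ext i; simp only [Finset.mem_filter, Finset.mem_univ, true_and, Finset.mem_union]; omega
    rw [hsplit, Finset.prod_union (Finset.disjoint_filter.2 fun i _ h h' => by omega),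
      mul_left_comm]
    refine ih.trans ?_
    rw [mul_comm (∏ i ∈ Finset.univ.filter (fun i => m₀ ≤ ht i ∧ ht i < m), Nat.card (M i))]
    refine Nat.mul_le_mul_right _ ?_
    -- add the classes of height `m` one by one
    suffices ∀ T : Finset (Fin N), (∀ i ∈ T, ht i = m) →
        Nat.card (part M Y (fun i => m + 1 ≤ ht i ∨ i ∈ T)) ≤
          Nat.card (lay ht M Y (m + 1)) * ∏ i ∈ T, Nat.card (M i) by
      refine (Subgroup.card_le_of_le (part_mono fun i hi => ?_)).trans
        (this (Finset.univ.filter (fun i => ht i = m)) fun i hi => (Finset.mem_filter.1 hi).2)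
      simp only [Finset.mem_filter, Finset.mem_univ, true_and]
      omega
    intro T
    induction T using Finset.induction_on with
    | empty =>
      intro _
      simp only [Finset.notMem_empty, or_false, Finset.prod_empty, mul_one, le_refl]
    | insert i T hiT ihT =>
      intro hT
      have hi : ht i = m := hT i (Finset.mem_insert_self i T)
      set C := part M Y (fun k => m + 1 ≤ ht k ∨ k ∈ T) with hC
      let R : Subgroup Δ :=
        { carrier := Y i '' (M i : Set K)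
          one_mem' := ⟨0, zero_mem _, Y_zero hadd i⟩
          mul_mem' := by
            rintro _ _ ⟨a, ha, rfl⟩ ⟨b, hb, rfl⟩
            exact ⟨a + b, add_mem ha hb, hadd i a ha b hb⟩
          inv_mem' := by
            rintro _ ⟨a, ha, rfl⟩
            exact ⟨-a, neg_mem ha, Y_neg hadd i ha⟩ }
      have hconj : ∀ a ∈ R, ∀ x ∈ C, a * x * a⁻¹ ∈ C := by
        rintro _ ⟨t, ht', rfl⟩ x hx
        refine part_norm (fun k hk u hu => ?_) hx
        have hk' : m ≤ ht k := by
          rcases hk with h | h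
          · omega
          · exact (hT k (Finset.mem_insert_of_mem h)).ge
        rw [conj_eq_cm_mul]
        refine mul_mem (part_mono (fun j hj => Or.inl ?_)
          (hrel i k (by omega) (by omega) t ht' u hu)) (mem_part hk hu)
        have := hpos i; have := hpos k
        omega
      have hR : R ≤ Subgroup.normalizer (C : Set Δ) := fun a ha =>
        Subgroup.mem_normalizer_iff.2 fun x => ⟨hconj a ha x, fun hx => by
          have := hconj _ (inv_mem ha) _ hx
          rwa [show a⁻¹ * (a * x * a⁻¹) * a⁻¹⁻¹ = x by group] at this⟩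
      have hRcard : Nat.card R ≤ Nat.card (M i) :=
        Nat.card_le_card_of_surjective (fun t : M i => (⟨Y i t, t, t.2, rfl⟩ : R))
          (by rintro ⟨_, t, ht', rfl⟩; exact ⟨⟨t, ht'⟩, rfl⟩)
      have hle : part M Y (fun k => m + 1 ≤ ht k ∨ k ∈ insert i T) ≤ C ⊔ R := by
        refine (closure_le _).2 fun g ⟨k, hk, t, ht', e⟩ => ?_
        subst e
        by_cases hki : k = i
        · subst hki
          exact mem_sup_right ⟨t, ht', rfl⟩
        · exact mem_sup_left (mem_part (by simpa [hki] using hk) ht')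
      refine (Subgroup.card_le_of_le hle).trans ?_
      rw [← SetLike.coe_sort_coe, Subgroup.coe_mul_of_right_le_normalizer_left _ _ hR]
      refine Set.natCard_mul_le.trans ?_
      rw [Finset.prod_insert hiT, mul_left_comm, mul_comm (Nat.card (M i))]
      exact Nat.mul_le_mul (ihT fun k hk => hT k (Finset.mem_insert_of_mem hk)) hRcard

end Layer

/-! ### The lifting theorem -/

/-- Root groups with torus elements acting on them by scalars. -/
structure Sys (G : Type u) [Group G] (K : Type v) [Field K] where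
  N : ℕ
  ht : Fin N → ℕ
  M : Fin N → AddSubgroup K
  X : Fin N → K → G
  W : Type w
  tor : W → G
  chr : W → Fin N → K
  ht_pos : ∀ i, 0 < ht i
  add : ∀ i, ∀ t ∈ M i, ∀ u ∈ M i, X i (t + u) = X i t * X i u
  tor_comm : ∀ a b, tor a * tor b = tor b * tor a
  chr_mem : ∀ a i, ∀ t ∈ M i, chr a i * t ∈ M i
  act : ∀ a i, ∀ t ∈ M i, tor a * X i t * (tor a)⁻¹ = X i (chr a i * t)
  rel : ∀ i j, ∀ t ∈ M i, ∀ u ∈ M j, cm (X i t) (X j u) ∈ lay ht M X (ht i + ht j)
  move : ∀ i, ∃ a, chr a i ≠ 1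

namespace Sys

variable {G : Type u} [Group G] {K : Type v} [Field K] (S : Sys.{u, v, w} G K)

/-- Two classes commute. -/
def Com (i j : Fin S.N) : Prop :=
  ∀ t ∈ S.M i, ∀ u ∈ S.M j, S.X i t * S.X j u = S.X j u * S.X i t

/-- A torus element fixes one class and moves the other. -/
def Sep (i j : Fin S.N) : Prop :=
  ∃ a, (S.chr a i = 1 ∧ S.chr a j ≠ 1) ∨ (S.chr a j = 1 ∧ S.chr a i ≠ 1)

/-- The second class consists of products of elements commuting with the first which are fixed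
by a torus element moving the first. -/
def Div (i j : Fin S.N) : Prop :=
  S.Com i j ∧ ∀ u ∈ S.M j, S.X j u ∈ closure {g : G |
    (∀ t ∈ S.M i, g * S.X i t = S.X i t * g) ∧
      ∃ a, S.chr a i ≠ 1 ∧ S.tor a * g * (S.tor a)⁻¹ = g}

/-- The unipotent group. -/
def U : Subgroup G := lay S.ht S.M S.X 0

variable {S}

theorem com_symm {i j : Fin S.N} (h : S.Com i j) : S.Com j i :=
  fun t ht' u hu => (h u hu t ht').symm

theorem com_self (i : Fin S.N) : S.Com i i := fun t ht' u hu => by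
  rw [← S.add i t ht' u hu, ← S.add i u hu t ht', add_comm]

theorem sep_symm {i j : Fin S.N} : S.Sep i j → S.Sep j i := fun ⟨a, h⟩ => ⟨a, h.symm⟩

variable [Finite K]

/-- Every element of a moved class is a difference. -/
theorem exists_diff {a : S.W} {i : Fin S.N} (ha : S.chr a i ≠ 1) {t : K} (ht' : t ∈ S.M i) :
    ∃ v ∈ S.M i, S.chr a i * v = t + v := by
  let f : S.M i → S.M i := fun v => ⟨S.chr a i * v - v, sub_mem (S.chr_mem a i _ v.2) v.2⟩
  have hf : Function.Injective f := fun v w e => by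
    have e' := congrArg Subtype.val e
    simp only [f] at e'
    refine Subtype.ext (mul_left_cancel₀ (sub_ne_zero.2 ha) ?_)
    linear_combination e'
  obtain ⟨v, hv⟩ := Finite.surjective_of_injective hf ⟨t, ht'⟩
  exact ⟨v, v.2, sub_eq_iff_eq_add.1 (congrArg Subtype.val hv)⟩

variable {Γ : Type*} [Group Γ] {σ : Γ →* G} (hc : σ.ker ≤ center Γ)

include hc in
theorem conj_ker {z : Γ} (hz : z ∈ σ.ker) (g : Γ) : g * z * g⁻¹ = z := by
  rw [mem_center_iff.1 (hc hz) g, mul_inv_cancel_right]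

include hc in
theorem cm_left {z : Γ} (hz : z ∈ σ.ker) (x y : Γ) : cm (z * x) y = cm x y := by
  have h := mem_center_iff.1 (hc hz)
  calc cm (z * x) y = z * (x * y * x⁻¹) * z⁻¹ * y⁻¹ := by simp only [cm]; group
    _ = (x * y * x⁻¹) * z * z⁻¹ * y⁻¹ := by rw [← h (x * y * x⁻¹)]
    _ = cm x y := by simp only [cm]; group

include hc in
theorem cm_congr {x x' y y' : Γ} (ex : σ x = σ x') (ey : σ y = σ y') : cm x y = cm x' y' := by
  have hx : x' * x⁻¹ ∈ σ.ker := by rw [MonoidHom.mem_ker, map_mul, map_inv, ex, mul_inv_cancel]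
  have hy : y' * y⁻¹ ∈ σ.ker := by rw [MonoidHom.mem_ker, map_mul, map_inv, ey, mul_inv_cancel]
  calc cm x y = cm (x' * x⁻¹ * x) y := (cm_left hc hx x y).symm
    _ = cm x' y := by rw [inv_mul_cancel_right]
    _ = (cm y x')⁻¹ := cm_symm y x'
    _ = (cm (y' * y⁻¹ * y) x')⁻¹ := by rw [cm_left hc hy]
    _ = cm x' y' := by rw [inv_mul_cancel_right, ← cm_symm]

theorem cm_mul_right (x y z : Γ) : cm x (y * z) = cm x y * (y * cm x z * y⁻¹) := by
  simp only [cm]; group

theorem conj_cm (g x y : Γ) : g * cm x y * g⁻¹ = cm (g * x * g⁻¹) (g * y * g⁻¹) := by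
  simp only [cm]; group

variable (L : G → Γ) (hL : ∀ g, σ (L g) = g)

include hc hL in
theorem cm_eq_of_sep {a : S.W} {j : Fin S.N} (ha : S.chr a j ≠ 1) {g : G}
    (hfix : S.tor a * g * (S.tor a)⁻¹ = g)
    (hcom : ∀ u ∈ S.M j, g * S.X j u = S.X j u * g) {u : K} (hu : u ∈ S.M j) :
    cm (L g) (L (S.X j u)) = 1 := by
  obtain ⟨v, hv, e⟩ := exists_diff ha hu
  have hker : ∀ w ∈ S.M j, cm (L g) (L (S.X j w)) ∈ σ.ker := fun w hw => by
    rw [MonoidHom.mem_ker, map_cm, hL, hL, cm_eq_one]; exact hcom w hw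
  have h1 : cm (L g) (L (S.X j (S.chr a j * v))) = cm (L g) (L (S.X j v)) := by
    rw [← conj_ker hc (hker v hv) (L (S.tor a)), conj_cm]
    exact cm_congr hc (by rw [map_mul, map_mul, map_inv, hL, hL, hfix])
      (by rw [map_mul, map_mul, map_inv, hL, hL, hL, S.act a j v hv])
  rw [e, cm_congr hc (x' := L g) (y := L (S.X j (u + v))) (y' := L (S.X j u) * L (S.X j v)) rfl
    (by rw [map_mul, hL, hL, hL, S.add j u hu v hv]), cm_mul_right,
    conj_ker hc (hker v hv)] at h1
  exact mul_eq_right.1 h1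

include hc hL in
theorem cm_lift_sep {i j : Fin S.N} (hcom : S.Com i j) (hs : S.Sep i j) {t u : K}
    (ht' : t ∈ S.M i) (hu : u ∈ S.M j) : cm (L (S.X i t)) (L (S.X j u)) = 1 := by
  obtain ⟨a, ⟨h1, h2⟩ | ⟨h1, h2⟩⟩ := hs
  · exact cm_eq_of_sep hc L hL h2 (by rw [S.act a i t ht', h1, one_mul])
      (fun w hw => hcom t ht' w hw) hu
  · rw [cm_symm, inv_eq_one]
    exact cm_eq_of_sep hc L hL h2 (by rw [S.act a j u hu, h1, one_mul])
      (fun w hw => (hcom w hw u hu).symm) ht'

include hc hL in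
theorem cm_lift_div {i j : Fin S.N} (hd : S.Div i j) {t u : K}
    (ht' : t ∈ S.M i) (hu : u ∈ S.M j) : cm (L (S.X i t)) (L (S.X j u)) = 1 := by
  have hle : closure {g : G | (∀ t ∈ S.M i, g * S.X i t = S.X i t * g) ∧
      ∃ a, S.chr a i ≠ 1 ∧ S.tor a * g * (S.tor a)⁻¹ = g} ≤
      (centralizer {L (S.X i t)}).map σ := by
    refine (closure_le _).2 fun g ⟨hg, a, ha, hfix⟩ => ⟨L g, ?_, hL g⟩
    rw [SetLike.mem_coe, mem_centralizer_singleton_iff]
    exact cm_eq_one.1 (cm_eq_of_sep hc L hL ha hfix hg ht')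
  obtain ⟨y, hy, e⟩ := hle (hd.2 u hu)
  rw [cm_congr hc (x' := L (S.X i t)) (y' := y) rfl (by rw [hL, e]), cm_eq_one]
  exact (mem_centralizer_singleton_iff.1 hy).symm

variable (hpair : ∀ i j, S.Sep i j ∨ S.Div i j ∨ S.Div j i)

include hc hL hpair in
theorem cm_lift_com {i j : Fin S.N} (hcom : S.Com i j) {t u : K}
    (ht' : t ∈ S.M i) (hu : u ∈ S.M j) : cm (L (S.X i t)) (L (S.X j u)) = 1 := by
  rcases hpair i j with h | h | h
  · exact cm_lift_sep hc L hL hcom h ht' hu
  · exact cm_lift_div hc L hL h ht' hu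
  · rw [cm_symm, inv_eq_one]; exact cm_lift_div hc L hL h hu ht'

include hc hL hpair in
/-- Lifts of the classes on which the torus elements still act by scalars. -/
theorem exists_lifts : ∃ l : Fin S.N → K → Γ, (∀ i, ∀ t ∈ S.M i, σ (l i t) = S.X i t) ∧
    (∀ i, ∀ t ∈ S.M i, ∀ u ∈ S.M i, l i (t + u) = l i t * l i u) ∧
    ∀ a i, ∀ t ∈ S.M i, L (S.tor a) * l i t * (L (S.tor a))⁻¹ = l i (S.chr a i * t) := by
  choose w hw using S.move
  refine ⟨fun i t => cm (L (S.tor (w i))) (L (S.X i (t / (S.chr (w i) i - 1)))), ?_, ?_, ?_⟩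
  all_goals
    have hdiv : ∀ i, ∀ t ∈ S.M i, t / (S.chr (w i) i - 1) ∈ S.M i ∧
        S.chr (w i) i * (t / (S.chr (w i) i - 1)) = t + t / (S.chr (w i) i - 1) := by
      intro i t ht'
      obtain ⟨v, hv, e⟩ := exists_diff (hw i) ht'
      have : t / (S.chr (w i) i - 1) = v := by
        rw [div_eq_iff (sub_ne_zero.2 (hw i))]; linear_combination -e
      rw [this]; exact ⟨hv, e⟩
    have hσ' : ∀ i, ∀ t ∈ S.M i,
        σ (cm (L (S.tor (w i))) (L (S.X i (t / (S.chr (w i) i - 1))))) = S.X i t := by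
      intro i t ht'
      obtain ⟨hv, e⟩ := hdiv i t ht'
      rw [map_cm, hL, hL, cm, S.act (w i) i _ hv, e, S.add i t ht' _ hv, mul_inv_cancel_right]
  · exact hσ'
  · intro i t ht' u hu
    obtain ⟨hv, -⟩ := hdiv i t ht'
    obtain ⟨hv', -⟩ := hdiv i u hu
    dsimp only
    rw [cm_congr hc (x' := L (S.tor (w i))) (y' := L (S.X i (t / (S.chr (w i) i - 1))) *
      L (S.X i (u / (S.chr (w i) i - 1)))) rfl
      (by rw [map_mul, hL, hL, add_div, S.add i _ hv _ hv', hL]), cm_mul_right]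
    congr 1
    rw [mul_inv_eq_iff_eq_mul, ← cm_eq_one]
    have := cm_lift_com hc L hL hpair (com_self i) hv hu
    rw [← this]
    exact cm_congr hc rfl (by rw [hσ' i u hu, hL])
  · intro a i t ht'
    obtain ⟨hv, -⟩ := hdiv i t ht'
    dsimp only
    rw [conj_cm]
    refine cm_congr hc ?_ ?_
    · rw [map_mul, map_mul, map_inv, hL, hL, S.tor_comm, mul_inv_cancel_right]
    · rw [map_mul, map_mul, map_inv, hL, hL, hL, S.act a i _ hv, mul_div_assoc]

include hc in
/-- The lifts have the commutators of the classes. -/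
theorem lift_rel (hpair : ∀ i j, S.Sep i j ∨ S.Div i j ∨ S.Div j i)
    (hL : ∀ g, σ (L g) = g) {l : Fin S.N → K → Γ}
    (hl : ∀ i, ∀ t ∈ S.M i, σ (l i t) = S.X i t)
    (hadd : ∀ i, ∀ t ∈ S.M i, ∀ u ∈ S.M i, l i (t + u) = l i t * l i u)
    (heq : ∀ a i, ∀ t ∈ S.M i, L (S.tor a) * l i t * (L (S.tor a))⁻¹ = l i (S.chr a i * t))
    (i j : Fin S.N) : ∀ t ∈ S.M i, ∀ u ∈ S.M j,
      cm (l i t) (l j u) ∈ lay S.ht S.M l (S.ht i + S.ht j) := by
  set H := Finset.univ.sup S.ht with hH
  suffices ∀ d s, s + d = 2 * H + 1 → ∀ i j, s ≤ S.ht i + S.ht j → ∀ t ∈ S.M i, ∀ u ∈ S.M j,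
      cm (l i t) (l j u) ∈ lay S.ht S.M l (S.ht i + S.ht j) from
    this (2 * H + 1) 0 (zero_add _) i j (Nat.zero_le _)
  intro d
  induction d with
  | zero =>
    intro s hs i j hij
    have h1 : S.ht i ≤ H := Finset.le_sup (Finset.mem_univ i)
    have h2 : S.ht j ≤ H := Finset.le_sup (Finset.mem_univ j)
    omega
  | succ d ih =>
    intro s hs i j hij
    rcases Nat.lt_or_eq_of_le hij with hlt | he
    · exact ih (s + 1) (by omega) i j hlt
    have P : ∀ i j, s + 1 ≤ S.ht i + S.ht j → ∀ t ∈ S.M i, ∀ u ∈ S.M j,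
        cm (l i t) (l j u) ∈ lay S.ht S.M l (S.ht i + S.ht j) := ih (s + 1) (by omega)
    rw [← he]
    set B := lay S.ht S.M l s with hB
    -- the lifts and the torus normalise
    have hnorm : ∀ k, ∀ u ∈ S.M k, ∀ x ∈ B, l k u * x * (l k u)⁻¹ ∈ B := by
      intro k u hu x hx
      refine part_norm (fun k' hk' v hv => ?_) hx
      rw [conj_eq_cm_mul]
      have := S.ht_pos k
      exact mul_mem (lay_anti (by omega) (P k k' (by omega) u hu v hv)) (mem_part hk' hv)
    have hnormT : ∀ a, ∀ x ∈ B, L (S.tor a) * x * (L (S.tor a))⁻¹ ∈ B := fun a x hx =>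
      part_norm (fun k hk v hv => by rw [heq a k v hv]; exact mem_part hk (S.chr_mem a k v hv)) hx
    have hsur : lay S.ht S.M S.X s ≤ B.map σ := (closure_le _).2 fun g ⟨k, hk, t, ht', e⟩ =>
      ⟨l k t, mem_part hk ht', e ▸ hl k t ht'⟩
    -- a class fixed by a torus element moving the other
    have key : ∀ i j, S.ht i + S.ht j = s → ∀ a, S.chr a i = 1 → S.chr a j ≠ 1 →
        ∀ t ∈ S.M i, ∀ u ∈ S.M j, cm (l i t) (l j u) ∈ B := by
      intro i j hs' a h1 h2 t ht' u hu
      obtain ⟨v, hv, e⟩ := exists_diff h2 hu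
      obtain ⟨b, hb, eb⟩ := hsur (hs' ▸ S.rel i j t ht' v hv)
      set z := cm (l i t) (l j v) * b⁻¹ with hz
      have hzk : z ∈ σ.ker := by
        rw [MonoidHom.mem_ker, hz, map_mul, map_inv, map_cm, hl i t ht', hl j v hv, eb,
          mul_inv_cancel]
      have h3 : L (S.tor a) * cm (l i t) (l j v) * (L (S.tor a))⁻¹ =
          cm (l i t) (l j u) * (l j u * cm (l i t) (l j v) * (l j u)⁻¹) := by
        rw [conj_cm, heq a i t ht', heq a j v hv, h1, one_mul, e, hadd j u hu v hv, cm_mul_right]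
      have h4 : cm (l i t) (l j v) = z * b := by rw [hz, inv_mul_cancel_right]
      rw [h4] at h3
      have hzc := mem_center_iff.1 (hc hzk)
      have h5 : cm (l i t) (l j u) = (L (S.tor a) * b * (L (S.tor a))⁻¹) *
          (l j u * b * (l j u)⁻¹)⁻¹ := by
        have e1 : ∀ g : Γ, g * (z * b) * g⁻¹ = z * (g * b * g⁻¹) := fun g => by
          rw [← mul_assoc g z b, hzc g]; group
        rw [e1, e1, ← mul_assoc (cm (l i t) (l j u)) z, hzc, mul_assoc z] at h3
        exact eq_mul_inv_of_mul_eq (mul_left_cancel h3).symm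
      rw [h5]
      exact mul_mem (hnormT a b hb) (inv_mem (hnorm j u hu _ hb))
    intro t ht' u hu
    have hcom : S.Com i j → cm (l i t) (l j u) ∈ B := fun h => by
      rw [cm_congr hc (x' := L (S.X i t)) (y' := L (S.X j u)) (by rw [hl i t ht', hL])
        (by rw [hl j u hu, hL]), cm_lift_com hc L hL hpair h ht' hu]
      exact one_mem _
    rcases hpair i j with ⟨a, ⟨h1, h2⟩ | ⟨h1, h2⟩⟩ | h | h
    · exact key i j he.symm a h1 h2 t ht' u hu
    · rw [cm_symm]
      exact inv_mem (key j i (by omega) a h1 h2 u hu t ht')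
    · exact hcom h.1
    · exact hcom (com_symm h.1)

include hc hpair in
/-- The unipotent group lifts to the extension. -/
theorem exists_split [Finite Γ] (hσ : Function.Surjective σ)
    (hcard : ∏ i, Nat.card (S.M i) ≤ Nat.card S.U) :
    ∃ B : Subgroup Γ, (∀ b ∈ B, σ b = 1 → b = 1) ∧ S.U ≤ B.map σ := by
  classical
  choose L hL using hσ
  obtain ⟨l, hl, hadd, heq⟩ := exists_lifts hc L hL hpair
  set B := lay S.ht S.M l 0
  have hsur : S.U ≤ B.map σ := (closure_le _).2 fun g ⟨k, hk, t, ht', e⟩ =>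
    ⟨l k t, mem_part hk ht', e ▸ hl k t ht'⟩
  refine ⟨B, ?_, hsur⟩
  set H := Finset.univ.sup S.ht + 1 with hH
  have hlt : ∀ i, S.ht i < H := fun i => Nat.lt_succ_of_le (Finset.le_sup (Finset.mem_univ i))
  have h1 := card_lay (ht := S.ht) hadd S.ht_pos (m₀ := 0)
    (fun i j _ _ => lift_rel hc L hpair hL hl hadd heq i j) (Nat.zero_le H)
  rw [lay_eq_bot hlt, Subgroup.card_bot, one_mul,
    Finset.filter_true_of_mem fun i _ => ⟨Nat.zero_le _, hlt i⟩] at h1
  let f : B → B.map σ := fun b => ⟨σ b, b, b.2, rfl⟩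
  have hf : Function.Surjective f := by
    rintro ⟨_, b, hb, rfl⟩; exact ⟨⟨b, hb⟩, rfl⟩
  have : Finite (B.map σ) := Finite.of_surjective f hf
  have hbij := hf.bijective_of_nat_card_le ((h1.trans hcard).trans (Subgroup.card_le_of_le hsur))
  intro b hb e
  exact congrArg Subtype.val
    (hbij.1 (a₁ := ⟨b, hb⟩) (a₂ := 1) (Subtype.ext (by simp [f, e])))

end Sys

end CfsgLib.Known.RootLift
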