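/-
Lifts of unipotent subgroups to central extensions: classes in a linear order, each of two layers.
-/
import Cfsg.Agent.Lib.Known.RootLift.Engine
import Cfsg.Agent.Lib.Recognition.Suzuki.Multiplier

set_option autoImplicit false
set_option linter.unusedSectionVars false

namespace CfsgLib.Known.RootLift.Chain

open Subgroup CfsgLib.Known.RootLift

universe u v w

/-- The commutators of elements of two generated subgroups lie in a subgroup normalised by both. -/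
theorem cm_closure_mem {Δ : Type*} [Group Δ] {S T : Set Δ} {I : Subgroup Δ}
    (hS : ∀ g ∈ S, ∀ x ∈ I, g * x * g⁻¹ ∈ I ∧ g⁻¹ * x * g ∈ I)
    (hT : ∀ g ∈ T, ∀ x ∈ I, g * x * g⁻¹ ∈ I ∧ g⁻¹ * x * g ∈ I)
    (h : ∀ g ∈ S, ∀ k ∈ T, cm g k ∈ I) {x y : Δ} (hx : x ∈ closure S) (hy : y ∈ closure T) :
    cm x y ∈ I := by
  have norm : ∀ R : Set Δ, (∀ g ∈ R, ∀ x ∈ I, g * x * g⁻¹ ∈ I ∧ g⁻¹ * x * g ∈ I) →
      ∀ g ∈ closure R, ∀ x ∈ I, g * x * g⁻¹ ∈ I ∧ g⁻¹ * x * g ∈ I := by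
    intro R hR g hg
    induction hg using Subgroup.closure_induction with
    | mem g hg => exact hR g hg
    | one => exact fun x hx => ⟨by simpa using hx, by simpa using hx⟩
    | mul a b _ _ ha hb =>
      refine fun x hx => ⟨?_, ?_⟩
      · rw [show a * b * x * (a * b)⁻¹ = a * (b * x * b⁻¹) * a⁻¹ by group]
        exact (ha _ (hb x hx).1).1
      · rw [show (a * b)⁻¹ * x * (a * b) = b⁻¹ * (a⁻¹ * x * a) * b by group]
        exact (hb _ (ha x hx).2).2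
    | inv a _ ha => exact fun x hx => ⟨by simpa using (ha x hx).2, by simpa using (ha x hx).1⟩
  have h1 : ∀ g ∈ S, cm g y ∈ I := by
    intro g hg
    induction hy using Subgroup.closure_induction with
    | mem k hk => exact h g hg k hk
    | one => simp [cm]
    | mul a b ha _ iha ihb =>
      rw [show cm g (a * b) = cm g a * (a * cm g b * a⁻¹) by simp only [cm]; group]
      exact mul_mem iha (norm T hT a ha _ ihb).1
    | inv a ha iha =>
      rw [show cm g a⁻¹ = a⁻¹ * (cm g a)⁻¹ * a by simp only [cm]; group]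
      exact (norm T hT a ha _ (inv_mem iha)).2
  induction hx using Subgroup.closure_induction with
  | mem g hg => exact h1 g hg
  | one => simp [cm]
  | mul a b ha _ iha ihb =>
    rw [show cm (a * b) y = a * cm b y * a⁻¹ * cm a y by simp only [cm]; group]
    exact mul_mem (norm S hS a ha _ ihb).1 iha
  | inv a ha iha =>
    rw [show cm a⁻¹ y = a⁻¹ * (cm a y)⁻¹ * a by simp only [cm]; group]
    exact (norm S hS a ha _ (inv_mem iha)).2

variable {G : Type u} [Group G] {Γ : Type w} [Group Γ] {σ : Γ →* G} (hc : σ.ker ≤ center Γ)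
  (L : G → Γ) (hL : ∀ g, σ (L g) = g)

include hc hL in
/-- Elements separated by a torus element commute in the extension. -/
theorem cm_of_fix [Finite G] {g a : G} {Y : Subgroup G} (hag : a * g * a⁻¹ = g)
    (hY : ∀ y ∈ Y, a * y * a⁻¹ ∈ Y) (hfp : ∀ y ∈ Y, a * y * a⁻¹ = y → y = 1)
    (hcom : ∀ y ∈ Y, g * y = y * g) {y : G} (hy : y ∈ Y) : cm (L g) (L y) = 1 := by
  let f : Y → Y := fun v => ⟨a * v * a⁻¹ * v.1⁻¹, mul_mem (hY v v.2) (inv_mem v.2)⟩
  have hf : Function.Injective f := fun v w e => by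
    have e' : a * v * a⁻¹ * v.1⁻¹ = a * w * a⁻¹ * w.1⁻¹ := congrArg Subtype.val e
    refine Subtype.ext (inv_mul_eq_one.1 (hfp _ (mul_mem (inv_mem v.2) w.2) ?_))
    calc a * (v.1⁻¹ * w) * a⁻¹ = (a * v * a⁻¹)⁻¹ * (a * w * a⁻¹ * w.1⁻¹) * w := by group
      _ = (a * v * a⁻¹)⁻¹ * (a * v * a⁻¹ * v.1⁻¹) * w := by rw [e']
      _ = v.1⁻¹ * w := by group
  obtain ⟨⟨v, hv⟩, e⟩ := Finite.surjective_of_injective hf ⟨y, hy⟩
  have e' : a * v * a⁻¹ = y * v := by
    rw [← show a * v * a⁻¹ * v⁻¹ = y from congrArg Subtype.val e, inv_mul_cancel_right]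
  have hker : cm (L g) (L v) ∈ σ.ker := by
    rw [MonoidHom.mem_ker, map_cm, hL, hL, cm_eq_one]; exact hcom v hv
  have h1 : cm (L g) (L (a * v * a⁻¹)) = cm (L g) (L v) := by
    rw [← Sys.conj_ker hc hker (L a), Sys.conj_cm]
    exact Sys.cm_congr hc (by rw [map_mul, map_mul, map_inv, hL, hL, hag])
      (by rw [map_mul, map_mul, map_inv, hL, hL, hL])
  rw [e', Sys.cm_congr hc (x' := L g) (y := L (y * v)) (y' := L y * L v) rfl
    (by rw [map_mul, hL, hL, hL]), Sys.cm_mul_right, Sys.conj_ker hc hker] at h1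
  exact mul_eq_right.1 h1

section ClassLift

variable {K : Type v} [Field K]

/-- A class of two layers with torus elements acting on the quotient by all scalars. -/
structure Layers (G : Type u) [Group G] (K : Type v) [Field K] where
  X : Subgroup G
  Z : Subgroup G
  x : K → G
  T : Set G
  le : Z ≤ X
  mem : ∀ t, x t ∈ X
  cov : ∀ g ∈ X, ∃ t, (x t)⁻¹ * g ∈ Z
  inj : ∀ t, x t ∈ Z → t = 0
  add : ∀ t u, (x (t + u))⁻¹ * (x t * x u) ∈ Z
  comm : ∀ g ∈ X, ∀ h ∈ X, cm g h ∈ Z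
  tor_comm : ∀ a ∈ T, ∀ b ∈ T, a * b = b * a
  normX : ∀ a ∈ T, ∀ g ∈ X, a * g * a⁻¹ ∈ X
  normZ : ∀ a ∈ T, ∀ g ∈ Z, a * g * a⁻¹ ∈ Z
  scal : ∀ c : K, c ≠ 0 → ∃ a ∈ T, ∀ t, (x (c * t))⁻¹ * (a * x t * a⁻¹) ∈ Z

variable (S : Layers G K)

/-- A lift of the lower layer. -/
structure LowLift (S : Layers G K) (σ : Γ →* G) (L : G → Γ) (W : Subgroup Γ) : Prop where
  inj : ∀ w ∈ W, σ w = 1 → w = 1
  map : W.map σ = S.Z
  comm : ∀ g ∈ S.X, ∀ w ∈ W, L g * w = w * L g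
  norm : ∀ a ∈ S.T, ∀ w ∈ W, L a * w * (L a)⁻¹ ∈ W

theorem Layers.x_zero : S.x 0 ∈ S.Z := by
  have := S.add 0 0
  rwa [add_zero, inv_mul_cancel_left] at this

variable {W : Subgroup Γ}

include hc hL in
theorem decomp (hW : LowLift S σ L W) {y : Γ} (hy : σ y ∈ S.Z) : ∃ z ∈ σ.ker, ∃ w ∈ W, y = z * w := by
  rw [← hW.map] at hy
  obtain ⟨w, hw, e⟩ := hy
  exact ⟨y * w⁻¹, by rw [MonoidHom.mem_ker, map_mul, map_inv, e, mul_inv_cancel], w, hw,
    by rw [inv_mul_cancel_right]⟩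

include hc hL in
theorem comm_pre (hW : LowLift S σ L W) {y y' : Γ} (hy : σ y ∈ S.X) (hy' : σ y' ∈ S.Z) :
    y * y' = y' * y := by
  obtain ⟨z, hz, w, hw, rfl⟩ := decomp hc L hL S hW hy'
  have hz' := mem_center_iff.1 (hc hz)
  have hk : y * (L (σ y))⁻¹ ∈ σ.ker := by
    rw [MonoidHom.mem_ker, map_mul, map_inv, hL, mul_inv_cancel]
  have hk' := mem_center_iff.1 (hc hk)
  have e : y * w = w * y := by
    calc y * w = (y * (L (σ y))⁻¹) * (L (σ y) * w) := by group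
      _ = (y * (L (σ y))⁻¹) * w * L (σ y) := by rw [hW.comm _ hy w hw, ← mul_assoc]
      _ = w * (y * (L (σ y))⁻¹) * L (σ y) := by rw [hk' w]
      _ = w * y := by group
  rw [← mul_assoc, hz' y, mul_assoc, e, ← mul_assoc]

variable [Finite K] [CharP K 2]

include hc hL in
/-- Commutators of the lifts of a class lie in the lift of the lower layer. -/
theorem cm_mem (hne : ∃ l : K, l ≠ 0 ∧ 1 + l ≠ 0 ∧ l * l + l + 1 ≠ 0) (hW : LowLift S σ L W)
    {y y' : Γ} (hy : σ y ∈ S.X) (hy' : σ y' ∈ S.X) : cm y y' ∈ W := by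
  classical
  have hcz : ∀ y y' : Γ, σ y ∈ S.X → σ y' ∈ S.X → σ (cm y y') ∈ S.Z := fun y y' h h' => by
    rw [map_cm]; exact S.comm _ h _ h'
  have hml : ∀ a b c : Γ, σ a ∈ S.X → σ b ∈ S.X → σ c ∈ S.X →
      cm (a * b) c = cm b c * cm a c := fun a b c ha hb hc' => by
    rw [show cm (a * b) c = a * cm b c * a⁻¹ * cm a c by simp only [cm]; group,
      comm_pre hc L hL S hW ha (hcz b c hb hc'), mul_inv_cancel_right]
  have hmr : ∀ a b c : Γ, σ a ∈ S.X → σ b ∈ S.X → σ c ∈ S.X →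
      cm a (b * c) = cm a b * cm a c := fun a b c ha hb hc' => by
    rw [Sys.cm_mul_right, comm_pre hc L hL S hW hb (hcz a c ha hc'), mul_inv_cancel_right]
  have hzero : ∀ a b : Γ, σ a ∈ S.X → σ b ∈ S.Z → cm a b = 1 ∧ cm b a = 1 := fun a b ha hb =>
    ⟨cm_eq_one.2 (comm_pre hc L hL S hW ha hb), cm_eq_one.2 (comm_pre hc L hL S hW ha hb).symm⟩
  have hdec : ∀ t u, ∃ z : σ.ker, (z : Γ)⁻¹ * cm (L (S.x t)) (L (S.x u)) ∈ W := fun t u => by
    obtain ⟨z, hz, w, hw, e⟩ := decomp hc L hL S hW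
      (hcz _ _ (by rw [hL]; exact S.mem t) (by rw [hL]; exact S.mem u))
    exact ⟨⟨z, hz⟩, by rw [e, inv_mul_cancel_left]; exact hw⟩
  choose β hβ using hdec
  have huni : ∀ (c : Γ) (z z' : σ.ker), (z : Γ)⁻¹ * c ∈ W → (z' : Γ)⁻¹ * c ∈ W → z = z' := by
    intro c z z' h h'
    have h1 := mul_mem h (inv_mem h')
    rw [show (z : Γ)⁻¹ * c * ((z' : Γ)⁻¹ * c)⁻¹ = (z : Γ)⁻¹ * z' by group] at h1
    refine Subtype.ext (inv_mul_eq_one.1 (hW.inj _ h1 ?_))
    rw [map_mul, map_inv, MonoidHom.mem_ker.1 z.2, MonoidHom.mem_ker.1 z'.2, inv_one, one_mul]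
  -- replacing a representative modulo the lower layer
  have hrep : ∀ g ∈ S.X, ∀ t, (S.x t)⁻¹ * g ∈ S.Z → ∀ c : Γ, σ c ∈ S.X →
      cm (L g) c = cm (L (S.x t)) c ∧ cm c (L g) = cm c (L (S.x t)) := by
    intro g hg t ht c hc'
    have h1 : σ (L g) = σ (L (S.x t) * L ((S.x t)⁻¹ * g)) := by
      rw [map_mul, hL, hL, hL, mul_inv_cancel_left]
    constructor
    · rw [Sys.cm_congr hc h1 rfl, hml _ _ _ (by rw [hL]; exact S.mem t)
        (by rw [hL]; exact S.le ht) hc', (hzero c (L ((S.x t)⁻¹ * g)) hc' (by rw [hL]; exact ht)).2,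
        one_mul]
    · rw [Sys.cm_congr hc (x' := c) rfl h1, hmr _ _ _ hc' (by rw [hL]; exact S.mem t)
        (by rw [hL]; exact S.le ht), (hzero c (L ((S.x t)⁻¹ * g)) hc' (by rw [hL]; exact ht)).1,
        mul_one]
  have hmem : ∀ t, σ (L (S.x t)) ∈ S.X := fun t => by rw [hL]; exact S.mem t
  have hxx : ∀ t u, σ (L (S.x t) * L (S.x u)) = σ (L (S.x t * S.x u)) := fun t u => by
    rw [map_mul, hL, hL, hL]
  have hβ1 : ∀ t u, β t u = 1 := by
    obtain ⟨l, l1, l2, l3⟩ := hne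
    refine CfsgLib.Recognition.SzMult.pairing_eq_one β (fun x x' y => ?_) (fun x y y' => ?_) id
      (fun _ h => h) (fun r x y hr => ?_) ⟨l, l1, l2, fun h => l3 ?_⟩
    · refine huni _ _ _ (hβ (x + x') y) ?_
      rw [← (hrep _ (mul_mem (S.mem x) (S.mem x')) _ (S.add x x') _ (hmem y)).1,
        Sys.cm_congr hc (y' := L (S.x y)) (hxx x x').symm rfl, hml _ _ _ (hmem x) (hmem x') (hmem y)]
      have hz := mem_center_iff.1 (hc (β x y).2)
      rw [show ((β x y * β x' y : σ.ker) : Γ)⁻¹ * (cm (L (S.x x')) (L (S.x y)) *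
        cm (L (S.x x)) (L (S.x y))) = ((β x' y : Γ)⁻¹ * ((β x y : Γ)⁻¹ *
          cm (L (S.x x')) (L (S.x y)))) * cm (L (S.x x)) (L (S.x y)) by
          rw [Subgroup.coe_mul]; group]
      have hz' := mem_center_iff.1 (inv_mem (hc (β x y).2))
      rw [← hz' (cm (L (S.x x')) (L (S.x y))), ← mul_assoc, mul_assoc]
      exact mul_mem (hβ x' y) (hβ x y)
    · refine huni _ _ _ (hβ x (y + y')) ?_
      rw [← (hrep _ (mul_mem (S.mem y) (S.mem y')) _ (S.add y y') _ (hmem x)).2,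
        Sys.cm_congr hc (x' := L (S.x x)) rfl (hxx y y').symm, hmr _ _ _ (hmem x) (hmem y) (hmem y')]
      rw [show ((β x y * β x y' : σ.ker) : Γ)⁻¹ * (cm (L (S.x x)) (L (S.x y)) *
        cm (L (S.x x)) (L (S.x y'))) = (β x y' : Γ)⁻¹ * ((β x y : Γ)⁻¹ *
          cm (L (S.x x)) (L (S.x y))) * cm (L (S.x x)) (L (S.x y')) by
          rw [Subgroup.coe_mul]; group]
      have hz' := mem_center_iff.1 (inv_mem (hc (β x y').2))
      rw [← hz' ((β x y : Γ)⁻¹ * cm (L (S.x x)) (L (S.x y))), mul_assoc]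
      exact mul_mem (hβ x y) (hβ x y')
    · obtain ⟨a, ha, e⟩ := S.scal r hr
      refine huni _ _ _ (hβ (r * x) (id r * y)) ?_
      have hta : ∀ t, σ (L a * L (S.x t) * (L a)⁻¹) = σ (L (a * S.x t * a⁻¹)) := fun t => by
        simp only [map_mul, map_inv, hL]
      rw [id, ← (hrep _ (S.normX a ha _ (S.mem x)) _ (e x) _ (hmem _)).1,
        ← (hrep _ (S.normX a ha _ (S.mem y)) _ (e y) _ (by rw [hL]; exact S.normX a ha _ (S.mem x))).2,
        Sys.cm_congr hc (hta x).symm (hta y).symm, ← Sys.conj_cm]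
      have := hW.norm a ha _ (hβ x y)
      rwa [← mul_assoc, mem_center_iff.1 (inv_mem (hc (β x y).2)) (L a), mul_assoc (_⁻¹) (L a),
        mul_assoc (_⁻¹)] at this
    · simp only [id, inv_one] at h
      field_simp at h
      linear_combination h - l * (CharTwo.two_eq_zero : (2 : K) = 0)
  obtain ⟨t, ht⟩ := S.cov _ hy
  obtain ⟨u, hu⟩ := S.cov _ hy'
  rw [Sys.cm_congr hc (hL (σ y)).symm (hL (σ y')).symm, (hrep _ hy t ht _ (by rwa [hL])).1,
    (hrep _ hy' u hu _ (hmem t)).2]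
  simpa [hβ1] using hβ t u

include hc hL in
/-- The class lifts. -/
theorem exists_lift (hne : ∃ l : K, l ≠ 0 ∧ 1 + l ≠ 0 ∧ l * l + l + 1 ≠ 0)
    (hW : LowLift S σ L W) :
    ∃ V : Subgroup Γ, W ≤ V ∧ (∀ v ∈ V, σ v = 1 → v = 1) ∧ V.map σ = S.X ∧
      ∀ a ∈ S.T, ∀ v ∈ V, L a * v * (L a)⁻¹ ∈ V := by
  classical
  have hcm := fun {y y' : Γ} => cm_mem hc L hL S hne hW (y := y) (y' := y')
  obtain ⟨l, l1, l2, -⟩ := hne
  obtain ⟨a, ha, hscal⟩ := S.scal l l1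
  set A := L a
  have hWX : ∀ w ∈ W, σ w ∈ S.X := fun w hw => S.le (hW.map ▸ mem_map_of_mem σ hw)
  have hcX : ∀ y, σ y ∈ S.X → σ (cm A y) ∈ S.X := fun y hy => by
    rw [map_cm, hL]
    exact mul_mem (S.normX a ha _ hy) (inv_mem hy)
  have hwc : ∀ y, σ y ∈ S.X → ∀ w ∈ W, y * w = w * y := fun y hy w hw =>
    comm_pre hc L hL S hW hy (hW.map ▸ mem_map_of_mem σ hw)
  have hadd : ∀ y y', σ y ∈ S.X → σ y' ∈ S.X →
      (cm A y * cm A y')⁻¹ * cm A (y * y') ∈ W := by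
    intro y y' hy hy'
    rw [Sys.cm_mul_right, show (cm A y * cm A y')⁻¹ * (cm A y * (y * cm A y' * y⁻¹)) =
      cm (cm A y')⁻¹ y by simp only [cm]; group]
    exact hcm (by rw [map_inv]; exact inv_mem (hcX y' hy')) hy
  let V : Subgroup Γ :=
    { carrier := {v | ∃ y, σ y ∈ S.X ∧ ∃ w ∈ W, v = cm A y * w}
      one_mem' := ⟨1, by simp, 1, one_mem _, by simp [cm]⟩
      mul_mem' := by
        rintro _ _ ⟨y, hy, w, hw, rfl⟩ ⟨y', hy', w', hw', rfl⟩
        refine ⟨y * y', by rw [map_mul]; exact mul_mem hy hy',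
          ((cm A y * cm A y')⁻¹ * cm A (y * y'))⁻¹ * (w * w'),
          mul_mem (inv_mem (hadd y y' hy hy')) (mul_mem hw hw'), ?_⟩
        rw [show cm A y * w * (cm A y' * w') = cm A y * (w * cm A y') * w' by group,
          ← hwc _ (hcX y' hy') w hw]
        group
      inv_mem' := by
        rintro _ ⟨y, hy, w, hw, rfl⟩
        refine ⟨y⁻¹, by rw [map_inv]; exact inv_mem hy,
          ((cm A y * cm A y⁻¹)⁻¹ * cm A (y * y⁻¹)) * w⁻¹,
          mul_mem (hadd y y⁻¹ hy (by rw [map_inv]; exact inv_mem hy)) (inv_mem hw), ?_⟩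
        rw [mul_inv_cancel y, show cm A 1 = 1 by simp [cm], mul_one, mul_inv_rev, mul_inv_rev,
          ← hwc _ (by rw [map_inv]; exact inv_mem (hcX y hy)) _ (inv_mem hw)]
        group }
  -- the action of the chosen element modulo the lower layer
  have hact : ∀ t, (S.x ((1 + l) * t))⁻¹ * (a * S.x t * a⁻¹ * (S.x t)⁻¹) ∈ S.Z := by
    intro t
    have h0 : (S.x t)⁻¹ * (S.x t)⁻¹ ∈ S.Z := by
      have h := mul_mem (S.x_zero) (S.add t t)
      rw [CharTwo.add_self_eq_zero, mul_inv_cancel_left] at h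
      simpa [mul_inv_rev] using inv_mem h
    obtain ⟨z, hz, e1⟩ : ∃ z ∈ S.Z, a * S.x t * a⁻¹ = S.x (l * t) * z :=
      ⟨_, hscal t, (mul_inv_cancel_left _ _).symm⟩
    obtain ⟨z', hz', e2⟩ : ∃ z ∈ S.Z, S.x (l * t) * S.x t = S.x (l * t + t) * z :=
      ⟨_, S.add _ _, (mul_inv_cancel_left _ _).symm⟩
    have hcen : ∀ g ∈ S.X, ∀ z ∈ S.Z, g * z * g⁻¹ ∈ S.Z := fun g hg z hz => by
      rw [conj_eq_cm_mul]; exact mul_mem (S.comm g hg z (S.le hz)) hz
    rw [e1, show (1 + l) * t = l * t + t by ring,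
      show (S.x (l * t + t))⁻¹ * (S.x (l * t) * z * (S.x t)⁻¹) =
        (S.x (l * t + t))⁻¹ * (S.x (l * t) * S.x t) *
          ((S.x t)⁻¹ * z * ((S.x t)⁻¹)⁻¹ * ((S.x t)⁻¹ * (S.x t)⁻¹)) by group, e2,
      inv_mul_cancel_left]
    exact mul_mem hz' (mul_mem (hcen _ (inv_mem (S.mem t)) z hz) h0)
  have hout : ∀ y, σ y ∈ S.X → ∀ t, (S.x t)⁻¹ * σ y ∈ S.Z →
      (S.x ((1 + l) * t))⁻¹ * σ (cm A y) ∈ S.Z := by
    intro y hy t ht
    rw [map_cm, hL]
    obtain ⟨z, hz, e⟩ : ∃ z ∈ S.Z, σ y = S.x t * z := ⟨_, ht, by group⟩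
    have hcz : ∀ z' ∈ S.Z, S.x t * z' * (S.x t)⁻¹ ∈ S.Z := fun z' hz' => by
      rw [conj_eq_cm_mul]; exact mul_mem (S.comm _ (S.mem t) z' (S.le hz')) hz'
    rw [e, show (S.x ((1 + l) * t))⁻¹ * cm a (S.x t * z) =
      (S.x ((1 + l) * t))⁻¹ * (a * S.x t * a⁻¹ * (S.x t)⁻¹) *
        (S.x t * (a * z * a⁻¹ * z⁻¹) * (S.x t)⁻¹) by simp only [cm]; group]
    exact mul_mem (hact t) (hcz _ (mul_mem (S.normZ a ha z hz) (inv_mem hz)))
  refine ⟨V, fun w hw => ⟨1, by simp, w, hw, by simp [cm]⟩, ?_, ?_, ?_⟩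
  · rintro _ ⟨y, hy, w, hw, rfl⟩ e
    obtain ⟨t, ht⟩ := S.cov _ hy
    have hwz : σ w ∈ S.Z := hW.map ▸ mem_map_of_mem σ hw
    have h1 : σ (cm A y) ∈ S.Z := by
      rw [map_mul, mul_eq_one_iff_eq_inv] at e
      rw [e]; exact inv_mem hwz
    have h2 := inv_mem (mul_mem (hout y hy t ht) (inv_mem h1))
    rw [mul_inv_cancel_right, inv_inv] at h2
    have ht0 : t = 0 := (mul_eq_zero.1 (S.inj _ h2)).resolve_left l2
    subst ht0
    have hyZ : σ y ∈ S.Z := by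
      have := mul_mem S.x_zero ht
      rwa [mul_inv_cancel_left] at this
    obtain ⟨z, hz, w', hw', rfl⟩ := decomp hc L hL S hW hyZ
    refine hW.inj _ (mul_mem ?_ hw) e
    rw [show cm A (z * w') = cm A z * (z * cm A w' * z⁻¹) from Sys.cm_mul_right A z w',
      cm_eq_one.2 (mem_center_iff.1 (hc hz) A), one_mul, ← mem_center_iff.1 (hc hz),
      mul_inv_cancel_right]
    exact mul_mem (hW.norm a ha w' hw') (inv_mem hw')
  · refine le_antisymm ?_ fun g hg => ?_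
    · rintro _ ⟨_, ⟨y, hy, w, hw, rfl⟩, rfl⟩
      rw [map_mul]
      exact mul_mem (hcX y hy) (hWX w hw)
    · obtain ⟨t, ht⟩ := S.cov g hg
      set y := L (S.x ((1 + l)⁻¹ * t))
      have hy : σ y ∈ S.X := by rw [hL]; exact S.mem _
      have h1 := hout y hy ((1 + l)⁻¹ * t) (by rw [hL, inv_mul_cancel]; exact one_mem _)
      rw [← mul_assoc, mul_inv_cancel₀ l2, one_mul] at h1
      have h2 := mul_mem (inv_mem h1) ht
      rw [show ((S.x t)⁻¹ * σ (cm A y))⁻¹ * ((S.x t)⁻¹ * g) = (σ (cm A y))⁻¹ * g by group,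
        ← hW.map] at h2
      obtain ⟨w, hw, e⟩ := h2
      exact ⟨cm A y * w, ⟨y, hy, w, hw, rfl⟩, by rw [map_mul, e, mul_inv_cancel_left]⟩
  · rintro b hb _ ⟨y, hy, w, hw, rfl⟩
    refine ⟨L b * y * (L b)⁻¹, by rw [map_mul, map_mul, map_inv, hL]; exact S.normX b hb _ hy,
      L b * w * (L b)⁻¹, hW.norm b hb w hw, ?_⟩
    rw [show L b * (cm A y * w) * (L b)⁻¹ = L b * cm A y * (L b)⁻¹ * (L b * w * (L b)⁻¹) by group,
      Sys.conj_cm]
    congr 1
    refine Sys.cm_congr hc ?_ rfl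
    rw [map_mul, map_mul, map_inv, hL, hL, S.tor_comm b hb a ha, mul_inv_cancel_right]

end ClassLift

/-! ### Gluing classes in a linear order -/

/-- Classes of a unipotent group in a linear order. -/
structure Ord (G : Type u) [Group G] where
  N : ℕ
  X : ℕ → Subgroup G
  T : Set G
  rel : ∀ i j, i < j → j < N → ∀ x ∈ X i, ∀ y ∈ X j,
    cm x y ∈ closure {g | ∃ k, i < k ∧ k < j ∧ g ∈ X k}
  sep : ∀ i j, i < j → j < N → ∃ a ∈ T,
    (∀ x ∈ X i, a * x * a⁻¹ = x) ∧ (∀ y ∈ X j, a * y * a⁻¹ = y → y = 1) ∨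
    (∀ y ∈ X j, a * y * a⁻¹ = y) ∧ (∀ x ∈ X i, a * x * a⁻¹ = x → x = 1)

include hc hL in
/-- Lifts of the classes glue to a lift of the group they generate. -/
theorem exists_glue [Finite Γ] (S : Ord G) (V : ℕ → Subgroup Γ)
    (hinj : ∀ k < S.N, ∀ v ∈ V k, σ v = 1 → v = 1) (hmap : ∀ k < S.N, (V k).map σ = S.X k)
    (hnorm : ∀ a ∈ S.T, ∀ k < S.N, ∀ v ∈ V k, L a * v * (L a)⁻¹ ∈ V k)
    (hcard : ∏ k ∈ Finset.range S.N, Nat.card (S.X k) ≤
      Nat.card (closure {g | ∃ k, k < S.N ∧ g ∈ S.X k} : Subgroup G)) :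
    ∃ B : Subgroup Γ, (∀ b ∈ B, σ b = 1 → b = 1) ∧
      closure {g | ∃ k, k < S.N ∧ g ∈ S.X k} ≤ B.map σ := by
  classical
  have hG : Finite G := Finite.of_surjective σ fun g => ⟨L g, hL g⟩
  let BB : ℕ → ℕ → Subgroup Γ := fun i j => closure {v | ∃ k, i < k ∧ k < j ∧ v ∈ V k}
  have hBn : ∀ i j, j ≤ S.N → ∀ g : Γ,
      (∀ k, i < k → k < j → ∀ v ∈ V k, g * v * g⁻¹ ∈ BB i j) → ∀ b ∈ BB i j, g * b * g⁻¹ ∈ BB i j := by
    intro i j _ g h b hb
    have hle : BB i j ≤ (BB i j).comap (MulAut.conj g).toMonoidHom :=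
      (closure_le _).2 fun v ⟨k, h1, h2, hv⟩ => h k h1 h2 v hv
    exact hle hb
  have hXB : ∀ i j, j ≤ S.N → ∀ g ∈ closure {g | ∃ k, i < k ∧ k < j ∧ g ∈ S.X k},
      g ∈ (BB i j).map σ := fun i j hj => (closure_le _).2 fun g ⟨k, h1, h2, hg⟩ => by
    obtain ⟨v, hv, e⟩ : g ∈ (V k).map σ := by rw [hmap k (by omega)]; exact hg
    exact ⟨v, subset_closure ⟨k, h1, h2, hv⟩, e⟩
  have hmono : ∀ i j i' j', i' ≤ i → j ≤ j' → BB i j ≤ BB i' j' := fun i j i' j' h h' =>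
    closure_mono fun v ⟨k, h1, h2, hv⟩ => ⟨k, by omega, by omega, hv⟩
  -- the moving class against the fixed one
  have key : ∀ (B : Subgroup Γ) (P Q : ℕ), P < S.N → Q < S.N → ∀ a ∈ S.T,
      (∀ x ∈ S.X P, a * x * a⁻¹ = x) → (∀ y ∈ S.X Q, a * y * a⁻¹ = y → y = 1) →
      (∀ u ∈ V Q, ∀ b ∈ B, u * b * u⁻¹ ∈ B) → (∀ b ∈ B, L a * b * (L a)⁻¹ ∈ B) →
      (∀ v ∈ V P, ∀ u ∈ V Q, σ (cm v u) ∈ B.map σ) → ∀ v ∈ V P, ∀ u ∈ V Q, cm v u ∈ B := by
    intro B P Q hP hQ a ha hfix hmv hnQ hnT hsur v hv u hu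
    have hX : ∀ k < S.N, ∀ y ∈ V k, σ y ∈ S.X k := fun k hk y hy =>
      hmap k hk ▸ mem_map_of_mem σ hy
    have heq : ∀ k < S.N, ∀ y ∈ V k, ∀ y' ∈ V k, σ y = σ y' → y = y' := fun k hk y hy y' hy' e =>
      inv_mul_eq_one.1 (hinj k hk _ (mul_mem (inv_mem hy) hy')
        (by rw [map_mul, map_inv, e, inv_mul_cancel]))
    have hav : L a * v * (L a)⁻¹ = v := heq P hP _ (hnorm a ha P hP v hv) v hv (by
      rw [map_mul, map_mul, map_inv, hL, hfix _ (hX P hP v hv)])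
    let f : V Q → V Q := fun y => ⟨L a * y * (L a)⁻¹ * y.1⁻¹,
      mul_mem (hnorm a ha Q hQ y y.2) (inv_mem y.2)⟩
    have hf : Function.Injective f := fun y y' e => by
      have e' : L a * y * (L a)⁻¹ * y.1⁻¹ = L a * y' * (L a)⁻¹ * y'.1⁻¹ := congrArg Subtype.val e
      refine Subtype.ext (inv_mul_eq_one.1 (hinj Q hQ _ (mul_mem (inv_mem y.2) y'.2)
        (hmv _ (hX Q hQ _ (mul_mem (inv_mem y.2) y'.2)) ?_)))
      have h2 : L a * (y.1⁻¹ * y') * (L a)⁻¹ = y.1⁻¹ * y' := by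
        calc L a * (y.1⁻¹ * y') * (L a)⁻¹
            = (L a * y * (L a)⁻¹)⁻¹ * (L a * y' * (L a)⁻¹ * y'.1⁻¹) * y' := by group
          _ = (L a * y * (L a)⁻¹)⁻¹ * (L a * y * (L a)⁻¹ * y.1⁻¹) * y' := by rw [e']
          _ = y.1⁻¹ * y' := by group
      have := congrArg σ h2
      rwa [map_mul, map_mul, map_inv, hL] at this
    obtain ⟨⟨y, hy⟩, ey⟩ := Finite.surjective_of_injective hf ⟨u, hu⟩
    have ey' : L a * y * (L a)⁻¹ = u * y := by
      rw [← show L a * y * (L a)⁻¹ * y⁻¹ = u from congrArg Subtype.val ey, inv_mul_cancel_right]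
    obtain ⟨b, hb, eb⟩ := hsur v hv y hy
    set z := cm v y * b⁻¹ with hz
    have hzk : z ∈ σ.ker := by rw [MonoidHom.mem_ker, hz, map_mul, map_inv, ← eb, mul_inv_cancel]
    have hzc := mem_center_iff.1 (hc hzk)
    have h3 : L a * cm v y * (L a)⁻¹ = cm v u * (u * cm v y * u⁻¹) := by
      rw [Sys.conj_cm, hav, ey', Sys.cm_mul_right]
    have h4 : cm v y = z * b := by rw [hz, inv_mul_cancel_right]
    have e1 : ∀ g : Γ, g * (z * b) * g⁻¹ = z * (g * b * g⁻¹) := fun g => by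
      rw [← mul_assoc g z b, hzc g]; group
    rw [h4, e1, e1, ← mul_assoc (cm v u) z, hzc, mul_assoc z] at h3
    rw [eq_mul_inv_of_mul_eq (mul_left_cancel h3).symm]
    exact mul_mem (hnT b hb) (inv_mem (hnQ u hu _ hb))
  have main : ∀ d i j, j = i + d → i < j → j < S.N → ∀ v ∈ V i, ∀ u ∈ V j, cm v u ∈ BB i j := by
    intro d
    induction d using Nat.strong_induction_on with
    | _ d ih =>
      intro i j hd hij hj
      have hVB : ∀ k, i < k → k < j → ∀ w ∈ V k, w ∈ BB i j := fun k h1 h2 w hw =>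
        subset_closure ⟨k, h1, h2, hw⟩
      have hn1 : ∀ v ∈ V i, ∀ b ∈ BB i j, v * b * v⁻¹ ∈ BB i j := fun v hv =>
        hBn i j hj.le v fun k h1 h2 w hw => by
          rw [conj_eq_cm_mul]
          exact mul_mem (hmono i k i j le_rfl h2.le
            (ih (k - i) (by omega) i k (by omega) h1 (by omega) v hv w hw)) (hVB k h1 h2 w hw)
      have hn2 : ∀ u ∈ V j, ∀ b ∈ BB i j, u * b * u⁻¹ ∈ BB i j := fun u hu =>
        hBn i j hj.le u fun k h1 h2 w hw => by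
          rw [conj_eq_cm_mul, cm_symm]
          exact mul_mem (inv_mem (hmono k j i j h1.le le_rfl
            (ih (j - k) (by omega) k j (by omega) h2 hj w hw u hu))) (hVB k h1 h2 w hw)
      have hnT : ∀ a ∈ S.T, ∀ b ∈ BB i j, L a * b * (L a)⁻¹ ∈ BB i j := fun a ha =>
        hBn i j hj.le _ fun k h1 h2 w hw => hVB k h1 h2 _ (hnorm a ha k (by omega) w hw)
      have hsur : ∀ v ∈ V i, ∀ u ∈ V j, σ (cm v u) ∈ (BB i j).map σ := fun v hv u hu => by
        rw [map_cm]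
        exact hXB i j hj.le _ (S.rel i j hij hj _ (hmap i (by omega) ▸ mem_map_of_mem σ hv) _
          (hmap j hj ▸ mem_map_of_mem σ hu))
      intro v hv u hu
      obtain ⟨a, ha, ⟨h1, h2⟩ | ⟨h1, h2⟩⟩ := S.sep i j hij hj
      · exact key _ i j (by omega) hj a ha h1 h2 hn2 (hnT a ha) hsur v hv u hu
      · rw [cm_symm]
        refine inv_mem (key _ j i hj (by omega) a ha h1 h2 hn1 (hnT a ha) ?_ u hu v hv)
        intro u hu v hv
        rw [cm_symm, map_inv]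
        exact inv_mem (hsur v hv u hu)
  -- the product of all classes
  let P : ℕ → Subgroup Γ := fun n => closure {v | ∃ k, k < n ∧ v ∈ V k}
  have hP : ∀ n ≤ S.N, Nat.card (P n) ≤ ∏ k ∈ Finset.range n, Nat.card (S.X k) := by
    intro n
    induction n with
    | zero =>
      intro _
      have h0 : P 0 = ⊥ := closure_eq_bot_iff.2 fun v ⟨k, hk, _⟩ => absurd hk (Nat.not_lt_zero k)
      rw [h0, Subgroup.card_bot, Finset.prod_range_zero]
    | succ n ihn =>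
      intro hn
      have hR : V n ≤ Subgroup.normalizer (P n : Set Γ) := by
        have hconj : ∀ v ∈ V n, ∀ b ∈ P n, v * b * v⁻¹ ∈ P n := by
          intro v hv
          have hle : P n ≤ (P n).comap (MulAut.conj v).toMonoidHom :=
            (closure_le _).2 fun w ⟨k, hk, hw⟩ => by
              show v * w * v⁻¹ ∈ P n
              rw [conj_eq_cm_mul, cm_symm]
              refine mul_mem (inv_mem ?_) (subset_closure ⟨k, hk, hw⟩)
              have hle' : BB k n ≤ P n :=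
                closure_mono fun x ⟨l, _, l2, hx⟩ => ⟨l, l2, hx⟩
              exact hle' (main (n - k) k n (by omega) hk (by omega) w hw v hv)
          exact fun b hb => hle hb
        exact fun v hv => Subgroup.mem_normalizer_iff.2 fun x => ⟨hconj v hv x, fun hx => by
          have := hconj _ (inv_mem hv) _ hx
          rwa [show v⁻¹ * (v * x * v⁻¹) * v⁻¹⁻¹ = x by group] at this⟩
      have hle : P (n + 1) ≤ P n ⊔ V n := (closure_le _).2 fun v ⟨k, hk, hv⟩ => by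
        rcases Nat.lt_succ_iff_lt_or_eq.1 hk with h | rfl
        · exact mem_sup_left (subset_closure ⟨k, h, hv⟩)
        · exact mem_sup_right hv
      refine (Subgroup.card_le_of_le hle).trans ?_
      rw [← SetLike.coe_sort_coe, Subgroup.coe_mul_of_right_le_normalizer_left _ _ hR]
      refine Set.natCard_mul_le.trans ?_
      rw [Finset.prod_range_succ]
      refine Nat.mul_le_mul (ihn (by omega)) ?_
      rw [← hmap n (by omega)]
      refine le_of_eq (Nat.card_congr (Equiv.ofBijective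
        (fun v : V n => (⟨σ v, mem_map_of_mem σ v.2⟩ : (V n).map σ)) ⟨fun v w e => ?_, ?_⟩))
      · have e' : σ v = σ w := congrArg Subtype.val e
        exact Subtype.ext (inv_mul_eq_one.1 (hinj n (by omega) _ (mul_mem (inv_mem v.2) w.2) (by
          rw [map_mul, map_inv, e', inv_mul_cancel])))
      · rintro ⟨_, v, hv, rfl⟩; exact ⟨⟨v, hv⟩, rfl⟩
  set B := P S.N
  have hsur : closure {g | ∃ k, k < S.N ∧ g ∈ S.X k} ≤ B.map σ :=
    (closure_le _).2 fun g ⟨k, hk, hg⟩ => by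
      obtain ⟨v, hv, e⟩ : g ∈ (V k).map σ := by rw [hmap k hk]; exact hg
      exact ⟨v, subset_closure ⟨k, hk, hv⟩, e⟩
  refine ⟨B, ?_, hsur⟩
  let f : B → B.map σ := fun b => ⟨σ b, b, b.2, rfl⟩
  have hf : Function.Surjective f := by
    rintro ⟨_, b, hb, rfl⟩; exact ⟨⟨b, hb⟩, rfl⟩
  have hbij := hf.bijective_of_nat_card_le
    (((hP S.N le_rfl).trans hcard).trans (Subgroup.card_le_of_le hsur))
  intro b hb e
  exact congrArg Subtype.val
    (hbij.1 (a₁ := ⟨b, hb⟩) (a₂ := 1) (Subtype.ext (by simp [f, e])))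

end CfsgLib.Known.RootLift.Chain
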