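/-
Tables for the classes of positive roots of ²E₆ and the torus elements separating them.
-/
import Cfsg.Agent.Lib.Chev.Twist.E6Main

set_option autoImplicit false
set_option maxRecDepth 100000
set_option Elab.async false

namespace CfsgLib.Known.RootLift.E6

open Cfsg.Lie CfsgLib.Chev

/-- Representatives of the classes, by increasing height. -/
def reps : List ℕ :=
  [36, 37, 39, 46, 38, 40, 47, 41, 44, 48, 45, 49, 51, 52, 53, 60, 54, 63, 55, 65, 66, 69, 70, 71]

/-- The representative of a class. -/
def rep (i : Fin 24) : ℕ := reps.getD i.val 0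

/-- The height of a positive root. -/
def htR (r : ℕ) : ℕ :=
  Table.slot 0xb000a0009000800070008000700060006000500040005000400030002000100070006000500050004000300040003000200010004000300020001000300020001000200010001 (r - 36)

/-- The roots of a class. -/
def orb (r : ℕ) : List ℕ := if parE6.rho r = r then [r] else [r, parE6.rho r]

/-- The roots of the classes of height at least `m`. -/
def flatL (m : ℕ) : List ℕ := (reps.filter fun r => decide (m ≤ htR r)).flatMap orb

/-- Symmetric cocharacters of the torus. -/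
def coch : List (List ℤ) :=
  [[0, -1, 0, 0, 0, 0], [-1, 0, -1, -1, -1, -1], [0, -1, -1, -2, -1, 0], [0, 0, 0, -1, 0, 0],
    [-1, -1, -1, -2, -1, -1], [0, 0, -1, -1, -1, 0], [-1, 0, -2, -1, -2, -1]]

/-- The entry of a cocharacter. -/
def cochV (a : Fin 7) (i : ℕ) : ℤ := (coch.getD a.val []).getD i 0

/-- The pairing of a cocharacter and a root. -/
def pairing (a : Fin 7) (r : ℕ) : ℤ :=
  ((List.range 6).map fun i => cochV a i * chevE6.cartan i r).sum

/-- A cocharacter moves `r` and fixes `s`. -/
def witB (r s : ℕ) : Bool :=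
  decide (∃ a : Fin 7, (pairing a r = 1 ∨ pairing a r = -1) ∧ pairing a s = 0)

/-- A representative of a class of roots. -/
def validB (r : ℕ) : Bool :=
  decide (r < 72) && decide (parE6.rho r < 72) && parE6.rho (parE6.rho r) == r &&
    parE6.eps r * parE6.eps (parE6.rho r) == 1 && parE6.commB chevE6 r (parE6.rho r) &&
    (decide (36 ≤ r) == decide (36 ≤ parE6.rho r))

/-- Two classes commute. -/
def comB (r s : ℕ) : Bool :=
  (orb r).all fun a => (orb s).all fun b => parE6.commB chevE6 a b

/-- The commutator of the root `p` and `s` is the root `j` alone. -/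
def termB (p s j : ℕ) : Bool :=
  p != s && p != chevE6.neg s &&
    match chevE6.commTerms s p with
    | [(k, N, a, b)] => k == j && a == 1 && b == 1 && (N == 1 || N == -1)
    | _ => false

/-- The data writing the class of `j` by commutators of classes fixed by elements moving `i`. -/
def divs : List (ℕ × ℕ × ℕ × ℕ) :=
  [(0, 0, 4, 68), (1, 1, 10, 62), (2, 2, 9, 64), (2, 8, 10, 67), (2, 15, 21, 68), (2, 23, 48, 68),
   (3, 3, 12, 62), (3, 14, 14, 67), (3, 19, 29, 68), (3, 21, 37, 68), (4, 4, 7, 66), (5, 5, 10, 64),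
   (6, 6, 12, 64), (6, 12, 13, 67), (6, 17, 28, 68), (6, 22, 40, 68), (7, 7, 9, 66), (8, 2, 9, 64),
   (8, 8, 10, 67), (8, 15, 21, 68), (8, 23, 48, 68), (9, 9, 13, 64), (10, 10, 10, 68),
   (11, 11, 12, 66), (12, 6, 12, 64), (12, 12, 13, 67), (12, 17, 28, 68), (12, 22, 40, 68),
   (13, 13, 13, 68), (14, 3, 12, 62), (14, 14, 14, 67), (14, 19, 29, 68), (14, 21, 37, 68),
   (15, 2, 9, 64), (15, 8, 10, 67), (15, 15, 21, 68), (15, 23, 49, 67), (16, 16, 14, 68),
   (17, 6, 12, 64), (17, 12, 13, 67), (17, 17, 28, 68), (17, 22, 41, 67), (18, 18, 15, 66),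
   (19, 3, 12, 62), (19, 14, 14, 67), (19, 19, 29, 68), (19, 21, 38, 67), (20, 20, 38, 64),
   (21, 3, 13, 61), (21, 14, 15, 64), (21, 19, 36, 64), (21, 21, 37, 68), (22, 6, 14, 61),
   (22, 12, 15, 62), (22, 17, 36, 62), (22, 22, 40, 68), (23, 2, 14, 58), (23, 8, 15, 59),
   (23, 15, 36, 59), (23, 23, 48, 68)]

/-- The check on one entry. -/
def divB (c d p s : ℕ) : Bool :=
  validB p && validB s && parE6.rho p != p && parE6.rho s != s && comB c d && comB c p &&
    comB c s && witB c p && witB c s && termB p s d &&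
    termB (parE6.rho p) (parE6.rho s) (parE6.rho d) &&
    parE6.commB chevE6 p (parE6.rho s) && parE6.commB chevE6 (parE6.rho p) s &&
    parE6.commB chevE6 s (parE6.rho d) && parE6.commB chevE6 p (parE6.rho d)

/-- The check on a pair of classes. -/
def pairB (i j : ℕ) : Bool :=
  witB (reps.getD i 0) (reps.getD j 0) || witB (reps.getD j 0) (reps.getD i 0) ||
    divs.any fun e => e.1 == i && e.2.1 == j &&
      divB (reps.getD i 0) (reps.getD j 0) e.2.2.1 e.2.2.2

theorem reps_valid : ∀ i : Fin 24, validB (rep i) = true ∧ 36 ≤ rep i ∧ 0 < htR (rep i) ∧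
    htR (rep i) < 12 ∧ htR (parE6.rho (rep i)) = htR (rep i) ∧ coordB chevE6 (orb (rep i)) = true ∧
    ∃ a : Fin 7, pairing a (rep i) = 1 ∨ pairing a (rep i) = -1 := by
  decide +kernel

theorem pairing_rho : ∀ a : Fin 7, ∀ r : Fin 72,
    pairing a (parE6.rho r.val) = pairing a r.val := by
  decide +kernel

theorem coch_symm : ∀ a : Fin 7, cochV a 4 = cochV a 2 ∧ cochV a 5 = cochV a 0 := by
  decide +kernel

theorem pairs_ok : ∀ i j : Fin 24, pairB i.val j.val = true := by
  decide +kernel

theorem flat_coord : ∀ m : Fin 24, coordB chevE6 (flatL m.val) = true := by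
  decide +kernel

theorem flat_mem : ∀ r : Fin 72, ∀ m : Fin 24, 36 ≤ r.val →
    (r.val ∈ flatL m.val ↔ m.val ≤ htR r.val) := by
  decide +kernel

theorem terms_height : ∀ r s : Fin 72, 36 ≤ r.val → 36 ≤ s.val →
    ∀ c ∈ chevE6.commTerms r.val s.val, 36 ≤ c.1 ∧ c.1 < 72 ∧ htR r.val + htR s.val ≤ htR c.1 := by
  decide +kernel

theorem singles_count : ((List.finRange 24).map fun i =>
    if parE6.rho (rep i) = rep i then 1 else 2).sum = 36 := by
  decide +kernel

end CfsgLib.Known.RootLift.E6
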