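/-
The classes of positive roots of ²E₆ and the lifting of the unipotent subgroup to central extensions.
-/
import Cfsg.Agent.Lib.Known.RootLift.Engine
import Cfsg.Agent.Lib.Known.RootLift.E6Data
import Cfsg.Agent.Lib.Known.TwAutSys

set_option autoImplicit false
set_option maxRecDepth 20000
set_option maxHeartbeats 1000000
set_option linter.unusedSectionVars false

namespace CfsgLib.Known.RootLift.E6

open Cfsg.Lie CfsgLib.Chev

universe v

variable {K : Type v} [Field K] [Fintype K] {q : ℕ} (C : TwE6.Ctx K q)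
include C



/-- The element of a class. -/
noncomputable def elt (r : ℕ) (t : K) : GL chevE6.Idx K :=
  if parE6.rho r = r then xU chevE6 r t
  else xU chevE6 r t * xU chevE6 (parE6.rho r) (parE6.coef C.f r t)

/-- The parameters of a class. -/
def par (r : ℕ) : AddSubgroup K where
  carrier := {t | parE6.rho r = r → (parE6.eps r : K) * C.f t = t}
  zero_mem' := fun _ => by simp
  add_mem' := fun {a b} ha hb h => by rw [map_add, mul_add, ha h, hb h]
  neg_mem' := fun {a} ha h => by rw [map_neg, mul_neg, ha h]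

theorem coef_eq (r : ℕ) (t : K) : parE6.coef C.f r t = (parE6.eps r : K) * C.f t := by
  simp [TwPar.coef, show parE6.lam r = 1 from rfl]

theorem valid {r : ℕ} (h : validB r = true) : r < 72 ∧ parE6.rho r < 72 ∧
    parE6.rho (parE6.rho r) = r ∧ parE6.eps r * parE6.eps (parE6.rho r) = 1 ∧
    parE6.commB chevE6 r (parE6.rho r) = true ∧ (36 ≤ r ↔ 36 ≤ parE6.rho r) := by
  simp only [validB, Bool.and_eq_true, decide_eq_true_eq, beq_iff_eq] at h
  obtain ⟨⟨⟨⟨⟨h1, h2⟩, h3⟩, h4⟩, h5⟩, h6⟩ := h
  exact ⟨h1, h2, h3, h4, h5, decide_eq_decide.1 h6⟩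

theorem img {r : ℕ} (hr : r < 72) (t : K) :
    Img C.σ (xU chevE6 r t) (xU chevE6 (parE6.rho r) ((parE6.eps r : K) * C.f t)) := by
  rw [← coef_eq C]; exact C.sig.img_xU hr t

theorem elt_fixed {r : ℕ} (h : validB r = true) {t : K} (ht : t ∈ par C r) :
    elt C r t ∈ fixS C.σ := by
  obtain ⟨h1, h2, h3, h4, h5, -⟩ := valid C h
  rw [mem_fixS, elt]
  by_cases e : parE6.rho r = r
  · rw [if_pos e]
    have h6 := img C h1 t
    rwa [e, ht e] at h6
  · rw [if_neg e, coef_eq]
    have h6 := (img C h1 t).mul (img C h2 ((parE6.eps r : K) * C.f t))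
    rw [h3, map_mul, map_intCast, C.pow_two] at h6
    rw [show ((parE6.eps (parE6.rho r) : K)) * ((parE6.eps r : K) * t) =
      ((parE6.eps r * parE6.eps (parE6.rho r) : ℤ) : K) * t by push_cast; ring, h4, Int.cast_one,
      one_mul] at h6
    rwa [← (C.sig.commute_xU h1 h2 h5 _ _).eq] at h6

theorem mem_rootClosure_elt {r : ℕ} (h : validB r = true) (t : K) {P : ℕ → Prop} (hr : P r)
    (hr' : P (parE6.rho r)) : elt C r t ∈ rootClosure chevE6 K P := by
  obtain ⟨h1, h2, -⟩ := valid C h
  rw [elt]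
  split
  · exact xU_mem_rootClosure h1 hr _
  · exact mul_mem (xU_mem_rootClosure h1 hr _) (xU_mem_rootClosure h2 hr' _)

theorem neg_le : fixS C.σ ⊓ rootClosure chevE6 K (· < 36) ≤ twistedE6 K q := by
  rintro g ⟨hg, h⟩
  set n := C.sys.nLong
  have hn := C.sys.nLong_mem
  have hinv := DataE6.facts.permAct_inv C.sys.nLong_monomial C.sys.nLong_perm
  have h1 := DataE6.facts.conj_rootClosure hinv (Q := (36 ≤ ·)) (fun r hr => by
    by_contra hc
    set s := (sW chevE6 C.sys.l0)⁻¹ r with hs
    have h2 := C.sys.l0_long (DataE6.facts.negFin s)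
      ((DataE6.facts.negFin_pos _).2 (show s.val < chevE6.nroots / 2 from not_le.1 hc))
    rw [DataE6.facts.sW_neg, hs, Equiv.Perm.coe_inv, Equiv.apply_symm_apply] at h2
    have h3 := (DataE6.facts.negFin_pos r).2 (show r.val < chevE6.nroots / 2 from hr)
    omega) h
  rw [inv_inv] at h1
  have h4 : n⁻¹ * g * n ∈ twistedE6 K q := C.sys.posU_le
    ⟨show n⁻¹ * g * n ∈ fixS C.σ from
      mul_mem (mul_mem (inv_mem (C.sys.le_fix hn)) hg) (C.sys.le_fix hn), h1⟩
  have := mul_mem (mul_mem hn h4) (inv_mem hn)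
  rwa [show n * (n⁻¹ * g * n) * n⁻¹ = g by group] at this

theorem elt_mem {r : ℕ} (h : validB r = true) {t : K} (ht : t ∈ par C r) :
    elt C r t ∈ twistedE6 K q := by
  obtain ⟨h1, h2, -, -, -, h6⟩ := valid C h
  by_cases hp : 36 ≤ r
  · exact C.sys.posU_le ⟨elt_fixed C h ht,
      mem_rootClosure_elt C h t (show chevE6.nroots / 2 ≤ r from hp) (h6.1 hp)⟩
  · exact neg_le C ⟨elt_fixed C h ht, mem_rootClosure_elt C h t (P := (· < 36)) (not_le.1 hp)
      (not_le.1 fun h7 => hp (h6.2 h7))⟩

/-- The element of a class in the group. -/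
noncomputable def eltG (r : ℕ) (t : K) : ↥(twistedE6 K q) :=
  haveI := Classical.propDecidable (elt C r t ∈ twistedE6 K q)
  if h : elt C r t ∈ twistedE6 K q then ⟨_, h⟩ else 1

theorem eltG_val {r : ℕ} (h : validB r = true) {t : K} (ht : t ∈ par C r) :
    (eltG C r t : GL chevE6.Idx K) = elt C r t := by
  rw [eltG, dif_pos (elt_mem C h ht)]

theorem elt_add {r : ℕ} (h : validB r = true) (t u : K) :
    elt C r (t + u) = elt C r t * elt C r u := by
  obtain ⟨h1, h2, -, -, h5, -⟩ := valid C h
  rw [elt, elt, elt]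
  split
  · rw [DataE6.facts.xU_add h1]
  · rw [← DataE6.facts.xU_add h1, coef_eq, map_add, mul_add, ← DataE6.facts.xU_add h2, coef_eq, coef_eq]
    calc _ = xU chevE6 r t * (xU chevE6 r u * xU chevE6 (parE6.rho r)
            ((parE6.eps r : K) * C.f t)) * xU chevE6 (parE6.rho r) ((parE6.eps r : K) * C.f u) := by
          group
      _ = _ := by rw [(C.sig.commute_xU h1 h2 h5 _ _).eq]; group

/-! ### Torus elements -/

/-- The torus element of a cocharacter. -/
noncomputable def torE (a : Kˣ) (k : Fin 7) : GL chevE6.Idx K :=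
  hT chevE6 fun i => a ^ cochV k i

theorem torE_mem {a : Kˣ} (ha : C.fu a = a) (k : Fin 7) : torE a k ∈ twistedE6 K q := by
  have h : torE a k ∈ C.par.range := by
    have := C.mem_range (a ^ cochV k 0) (a ^ cochV k 2) (b := a ^ cochV k 1) (d := a ^ cochV k 3)
      (by rw [map_zpow, ha]) (by rw [map_zpow, ha])
    rw [map_zpow, map_zpow, ha] at this
    convert this using 1
    refine DataE6.facts.hT_congr fun i hi => ?_
    obtain ⟨h4, h5⟩ := coch_symm k
    have : i < 6 := hi
    interval_cases i <;> simp [TwE6.six, h4, h5]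
  exact (C.range_le h).2

theorem torE_conj (a : Kˣ) (k : Fin 7) {r : ℕ} (hr : r < 72) (t : K) :
    torE a k * xU chevE6 r t * (torE a k)⁻¹ =
      xU chevE6 r (((a ^ pairing k r : Kˣ) : K) * t) := by
  rw [torE, DataE6.facts.hT_conj_xU _ hr]
  have key : (∏ i ∈ Finset.range chevE6.rank, (a ^ cochV k i) ^ chevE6.cartan i r) =
      a ^ pairing k r := by
    rw [show chevE6.rank = 6 from rfl, pairing]
    simp only [← zpow_mul, Finset.prod_range_succ, Finset.prod_range_zero, List.range_succ,
      List.range_zero, List.nil_append, List.cons_append, List.map_cons, List.map_nil,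
      List.sum_cons, List.sum_nil, ← zpow_add, one_mul]
    congr 1
    ring
  rw [key]

theorem torE_elt {a : Kˣ} (ha : C.fu a = a) (k : Fin 7) {r : ℕ} (h : validB r = true) (t : K) :
    torE a k * elt C r t * (torE a k)⁻¹ = elt C r (((a ^ pairing k r : Kˣ) : K) * t) := by
  obtain ⟨h1, h2, -⟩ := valid C h
  have hf : C.f (((a ^ pairing k r : Kˣ) : K)) = ((a ^ pairing k r : Kˣ) : K) :=
    congrArg Units.val (show C.fu (a ^ pairing k r) = a ^ pairing k r by rw [map_zpow, ha])
  rw [elt, elt]
  split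
  · exact torE_conj C a k h1 t
  · rw [coef_eq, coef_eq, map_mul, hf,
      show ∀ g x y : GL chevE6.Idx K, g * (x * y) * g⁻¹ = (g * x * g⁻¹) * (g * y * g⁻¹) from
        fun g x y => by group,
      torE_conj C a k h1, torE_conj C a k h2, pairing_rho k ⟨r, h1⟩, mul_left_comm]

theorem par_smul {a : Kˣ} (ha : C.fu a = a) (n : ℤ) {r : ℕ} {t : K} (ht : t ∈ par C r) :
    ((a ^ n : Kˣ) : K) * t ∈ par C r := fun e => by
  rw [map_mul, show C.f ((a ^ n : Kˣ) : K) = ((a ^ n : Kˣ) : K) from
    congrArg Units.val (show C.fu (a ^ n) = a ^ n by rw [map_zpow, ha]), mul_left_comm, ht e]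

/-! ### Commutators of root elements -/

theorem cm_xU {p s : ℕ} (hp : p < 72) (hs : s < 72) (hne : p ≠ s) (hneg : p ≠ chevE6.neg s)
    (a b : K) : cm (xU chevE6 p a) (xU chevE6 s b) = wU chevE6 (cwR chevE6 s p (-b) (-a)) := by
  have h := DataE6.facts.xU_comm C.sig.hC hs hp hne hneg (-b) (-a)
  rw [cm, DataE6.facts.xU_inv hp, DataE6.facts.xU_inv hs, mul_assoc, h]
  calc xU chevE6 p a * xU chevE6 s b *
        (xU chevE6 s (-b) * xU chevE6 p (-a) * wU chevE6 (cwR chevE6 s p (-b) (-a)))
      = xU chevE6 p a * (xU chevE6 s b * xU chevE6 s (-b)) * xU chevE6 p (-a) *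
          wU chevE6 (cwR chevE6 s p (-b) (-a)) := by group
    _ = _ := by
      rw [DataE6.facts.xU_add hs, add_neg_cancel, DataE6.facts.xU_zero hs, mul_one, DataE6.facts.xU_add hp, add_neg_cancel,
        DataE6.facts.xU_zero hp, one_mul]

theorem cm_single {p s j : ℕ} (hp : p < 72) (hs : s < 72) (h : termB p s j = true) :
    ∃ N : K, (N = 1 ∨ N = -1) ∧ ∀ a b : K,
      cm (xU chevE6 p a) (xU chevE6 s b) = xU chevE6 j (N * (a * b)) := by
  simp only [termB, Bool.and_eq_true, bne_iff_ne] at h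
  obtain ⟨⟨h1, h2⟩, h3⟩ := h
  split at h3
  · rename_i k N x y hk
    simp only [Bool.and_eq_true, beq_iff_eq, Bool.or_eq_true] at h3
    obtain ⟨⟨⟨e1, e2⟩, e3⟩, hN⟩ := h3
    subst e1 e2 e3
    refine ⟨-(N : K), by rcases hN with e | e <;> simp [e], fun a b => ?_⟩
    rw [cm_xU C hp hs h1 h2, cwR, hk]
    simp only [List.map_cons, List.map_nil, wU, List.prod_cons, List.prod_nil, mul_one, pow_one]
    congr 1
    ring
  · exact absurd h3 (by simp)

theorem commute_elt {r s : ℕ} (hr : validB r = true) (hs : validB s = true)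
    (h : comB r s = true) (t u : K) : Commute (elt C r t) (elt C s u) := by
  obtain ⟨r1, r2, -⟩ := valid C hr
  obtain ⟨s1, s2, -⟩ := valid C hs
  have key : ∀ a ∈ orb r, ∀ b ∈ orb s, ∀ x y : K,
      a < 72 → b < 72 → Commute (xU chevE6 a x) (xU chevE6 b y) := fun a ha b hb x y l1 l2 =>
    C.sig.commute_xU l1 l2
      (List.all_eq_true.1 (List.all_eq_true.1 h a ha) b hb) x y
  rw [elt, elt]
  unfold orb at key
  split <;> split <;> rename_i e e' <;> simp only [e, e', if_true, if_false] at key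
  · exact key _ (by simp) _ (by simp) _ _ r1 s1
  · exact (key _ (by simp) _ (by simp) _ _ r1 s1).mul_right (key _ (by simp) _ (by simp) _ _ r1 s2)
  · exact (key _ (by simp) _ (by simp) _ _ r1 s1).mul_left (key _ (by simp) _ (by simp) _ _ r2 s1)
  · exact ((key _ (by simp) _ (by simp) _ _ r1 s1).mul_right
      (key _ (by simp) _ (by simp) _ _ r1 s2)).mul_left
      ((key _ (by simp) _ (by simp) _ _ r2 s1).mul_right (key _ (by simp) _ (by simp) _ _ r2 s2))

theorem card_twist_le (e : K) : Nat.card {t : K // C.f t = e * t} ≤ q := by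
  classical
  let P : Polynomial K := Polynomial.X ^ q - Polynomial.C e * Polynomial.X
  have hq := C.q_gt
  have hdeg : P.natDegree = q := by
    rw [Polynomial.natDegree_sub_eq_left_of_natDegree_lt, Polynomial.natDegree_X_pow]
    rw [Polynomial.natDegree_X_pow]
    exact lt_of_le_of_lt ((Polynomial.natDegree_C_mul_le e _).trans Polynomial.natDegree_X_le) hq
  have hP : P ≠ 0 := fun h => by rw [h, Polynomial.natDegree_zero] at hdeg; omega
  rw [Nat.card_eq_fintype_card, Fintype.card_subtype]
  refine le_trans ?_ (hdeg ▸ Polynomial.card_roots' P)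
  refine le_trans (Finset.card_le_card ?_) (Multiset.toFinset_card_le _)
  intro t ht
  rw [Finset.mem_filter] at ht
  rw [Multiset.mem_toFinset, Polynomial.mem_roots hP]
  simp only [P, Polynomial.IsRoot.def, Polynomial.eval_sub, Polynomial.eval_pow, Polynomial.eval_X,
    Polynomial.eval_mul, Polynomial.eval_C]
  rw [← C.hf, ht.2, sub_self]

theorem eps_sq {r : ℕ} (hr : r < 72) : (parE6.eps r : K) * (parE6.eps r : K) = 1 := by
  rcases parE6_ok.eps_pm r hr with h | h <;> simp [h]

theorem card_par_le {r : ℕ} (hr : r < 72) :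
    Nat.card (par C r) ≤ if parE6.rho r = r then q else q ^ 2 := by
  split
  · rename_i e
    refine le_trans (Nat.card_le_card_of_injective
      (fun t : par C r => (⟨t.1, ?_⟩ : {t : K // C.f t = (parE6.eps r : K) * t}))
      (fun a b h => Subtype.ext (congrArg Subtype.val h :))) (card_twist_le C _)
    have := t.2 e
    calc C.f t.1 = ((parE6.eps r : K) * (parE6.eps r : K)) * C.f t.1 := by
          rw [eps_sq C hr, one_mul]
      _ = _ := by rw [mul_assoc, this]
  · rw [← C.card, ← Nat.card_eq_fintype_card]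
    exact Nat.card_le_card_of_injective _ Subtype.val_injective

/-- A fixed element of the roots of one class is an element of the class. -/
theorem fix_pair {r : ℕ} (h : validB r = true) (hco : coordB chevE6 (orb r) = true)
    (hne : parE6.rho r ≠ r) {x y : K}
    (hfix : xU chevE6 r x * xU chevE6 (parE6.rho r) y ∈ fixS C.σ) :
    xU chevE6 r x * xU chevE6 (parE6.rho r) y = elt C r x := by
  obtain ⟨h1, h2, h3, h4, h5, -⟩ := valid C h
  have h6 := (img C h1 x).mul (img C h2 y)
  rw [h3, ← (C.sig.commute_xU h1 h2 h5 _ _).eq] at h6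
  rw [orb, if_neg hne] at hco
  have e := h6.unique (mem_fixS.1 hfix)
  have := DataE6.facts.coords_unique C.sig.hC hco
    (ts := [(parE6.eps (parE6.rho r) : K) * C.f y, (parE6.eps r : K) * C.f x]) (ts' := [x, y])
    rfl rfl (by simpa [wU] using e)
  rw [elt, if_neg hne, coef_eq, (List.cons.inj (List.cons.inj this).2).1]

theorem fix_single {r : ℕ} (h : validB r = true) (hco : coordB chevE6 (orb r) = true)
    (he : parE6.rho r = r) {x : K} (hfix : xU chevE6 r x ∈ fixS C.σ) : x ∈ par C r := by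
  obtain ⟨h1, -⟩ := valid C h
  have h6 := img C h1 x
  rw [he] at h6
  rw [orb, if_pos he] at hco
  have := DataE6.facts.coords_unique C.sig.hC hco (ts := [(parE6.eps r : K) * C.f x]) (ts' := [x]) rfl rfl
    (by simpa [wU] using h6.unique (mem_fixS.1 hfix))
  exact fun _ => (List.cons.inj this).1

/-- Fixed words along classes are products of class elements. -/
theorem word_classes (H : Subgroup (GL chevE6.Idx K)) :
    ∀ cs : List ℕ, (∀ r ∈ cs, validB r = true ∧ ∀ t ∈ par C r, elt C r t ∈ H) →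
      ∀ ts : List K, ts.length = (cs.flatMap orb).length →
        ∃ ts' : List K, ts'.length = ts.length ∧
          Img C.σ (wU chevE6 ((cs.flatMap orb).zip ts)) (wU chevE6 ((cs.flatMap orb).zip ts')) ∧
          (ts' = ts → wU chevE6 ((cs.flatMap orb).zip ts) ∈ H)
  | [], _, ts, hts => ⟨ts, rfl, by simpa [wU] using Img.one (σ := C.σ),
      fun _ => by simpa [wU] using one_mem H⟩
  | r :: cs, h, ts, hts => by
    obtain ⟨hv, hH⟩ := h r List.mem_cons_self
    obtain ⟨h1, h2, h3, h4, h5, -⟩ := valid C hv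
    have ih := word_classes H cs fun s hs => h s (List.mem_cons_of_mem _ hs)
    by_cases e : parE6.rho r = r
    · have ho : orb r = [r] := if_pos e
      cases ts with
      | nil => simp [ho] at hts
      | cons x ts =>
        obtain ⟨ts', hl, hi, hm⟩ := ih ts (by simpa [ho] using hts)
        refine ⟨(parE6.eps r : K) * C.f x :: ts', by simp [hl], ?_, fun ee => ?_⟩
        · simp only [List.flatMap_cons, ho, List.singleton_append, List.zip_cons_cons, wU_cons]
          have := img C h1 x
          rw [e] at this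
          exact this.mul hi
        · obtain ⟨e1, e2⟩ := List.cons.inj ee
          simp only [List.flatMap_cons, ho, List.singleton_append, List.zip_cons_cons, wU_cons]
          refine mul_mem ?_ (hm e2)
          have := hH x fun _ => e1
          rwa [elt, if_pos e] at this
    · have ho : orb r = [r, parE6.rho r] := if_neg e
      rcases ts with _ | ⟨x, _ | ⟨y, ts⟩⟩
      · simp [ho] at hts
      · simp [ho] at hts
      · obtain ⟨ts', hl, hi, hm⟩ := ih ts (by simpa [ho] using hts)
        refine ⟨(parE6.eps (parE6.rho r) : K) * C.f y :: (parE6.eps r : K) * C.f x :: ts',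
          by simp [hl], ?_, fun ee => ?_⟩
        · simp only [List.flatMap_cons, ho, List.cons_append, List.nil_append, List.zip_cons_cons,
            wU_cons]
          have := (img C h1 x).mul (img C h2 y)
          rw [h3, ← (C.sig.commute_xU h1 h2 h5 _ _).eq] at this
          rw [← mul_assoc, ← mul_assoc]
          exact this.mul hi
        · obtain ⟨e1, ee'⟩ := List.cons.inj ee
          obtain ⟨e2, e3⟩ := List.cons.inj ee'
          simp only [List.flatMap_cons, ho, List.cons_append, List.nil_append, List.zip_cons_cons,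
            wU_cons]
          rw [← mul_assoc]
          refine mul_mem ?_ (hm e3)
          have := hH x fun he => absurd he e
          rwa [elt, if_neg e, coef_eq, e2] at this

/-- A positive root element normalises the roots above a height. -/
theorem conj_high {m : ℕ} {g : GL chevE6.Idx K} (hg : g ∈ rootClosure chevE6 K (36 ≤ ·))
    {x : GL chevE6.Idx K} (hx : x ∈ rootClosure chevE6 K (fun c => 36 ≤ c ∧ m ≤ htR c)) :
    g * x * g⁻¹ ∈ rootClosure chevE6 K (fun c => 36 ≤ c ∧ m ≤ htR c) := by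
  refine (Subgroup.mem_normalizer_iff.1 (DataE6.facts.le_normalizer_rootClosure C.sig.hC (Q := (36 ≤ ·))
    (P := fun c => 36 ≤ c ∧ m ≤ htR c) (fun i hi hi' j hj hj' => ⟨fun e => ?_, fun _ c hc => ?_⟩)
    hg) x).1 hx
  · have := (DataE6.facts.neg_lt_half hi).1 (e ▸ (show chevE6.nroots / 2 ≤ j from hj'.1))
    have h7 : chevE6.nroots / 2 = 36 := rfl
    omega
  · obtain ⟨a1, a2, a3⟩ := terms_height ⟨i, hi⟩ ⟨j, hj⟩ hi' hj'.1 c hc
    exact ⟨a1, le_trans hj'.2 (le_trans (Nat.le_add_left _ _) a3)⟩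

theorem cm_high {p s : ℕ} (hp : p < 72) (hs : s < 72) (hp' : 36 ≤ p) (hs' : 36 ≤ s) {m : ℕ}
    (hm : m ≤ htR p + htR s) (a b : K) :
    cm (xU chevE6 p a) (xU chevE6 s b) ∈
      rootClosure chevE6 K (fun c => 36 ≤ c ∧ m ≤ htR c) := by
  by_cases e : p = s
  · subst e
    rw [cm_eq_one.2 (by rw [DataE6.facts.xU_add hp, DataE6.facts.xU_add hp, add_comm])]
    exact one_mem _
  rw [cm_xU C hp hs e (fun h => by
    have := (DataE6.facts.neg_lt_half hs).1 (h ▸ (show chevE6.nroots / 2 ≤ p from hp'))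
    have h7 : chevE6.nroots / 2 = 36 := rfl
    omega)]
  refine wU_mem fun z hz => ?_
  obtain ⟨c, hc, rfl⟩ := List.mem_map.1 hz
  obtain ⟨a1, a2, a3⟩ := terms_height ⟨s, hs⟩ ⟨p, hp⟩ hs' hp' c hc
  exact xU_mem_rootClosure (P := fun c => 36 ≤ c ∧ m ≤ htR c) a2
    ⟨a1, le_trans hm (by simpa [add_comm] using a3)⟩ _

theorem cm_elt {r s : ℕ} (hr : validB r = true) (hs : validB s = true) (hr' : 36 ≤ r)
    (hs' : 36 ≤ s) (er : htR (parE6.rho r) = htR r) (es : htR (parE6.rho s) = htR s) (t u : K) :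
    cm (elt C r t) (elt C s u) ∈
      rootClosure chevE6 K (fun c => 36 ≤ c ∧ htR r + htR s ≤ htR c) := by
  obtain ⟨r1, r2, -, -, -, r6⟩ := valid C hr
  obtain ⟨s1, s2, -, -, -, s6⟩ := valid C hs
  have hpos : ∀ {z : ℕ}, z < 72 → 36 ≤ z → ∀ v : K, xU chevE6 z v ∈
      rootClosure chevE6 K (36 ≤ ·) := fun hz hz' v => xU_mem_rootClosure hz hz' v
  have hL : ∀ a ∈ ({r, parE6.rho r} : Set ℕ), ∀ v : K,
      cm (xU chevE6 a v) (elt C s u) ∈
        rootClosure chevE6 K (fun c => 36 ≤ c ∧ htR r + htR s ≤ htR c) := by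
    intro a ha v
    obtain ⟨a1, a2, a3⟩ : a < 72 ∧ 36 ≤ a ∧ htR a = htR r := by
      rcases ha with rfl | rfl
      exacts [⟨r1, hr', rfl⟩, ⟨r2, r6.1 hr', er⟩]
    rw [elt]
    split
    · exact cm_high C a1 s1 a2 hs' (by omega) _ _
    · rw [Sys.cm_mul_right]
      exact mul_mem (cm_high C a1 s1 a2 hs' (by omega) _ _)
        (conj_high C (hpos s1 hs' _) (cm_high C a1 s2 a2 (s6.1 hs') (by omega) _ _))
  nth_rewrite 1 [elt]
  split
  · exact hL _ (by simp) _
  · rw [show ∀ x y z : GL chevE6.Idx K, cm (x * y) z = x * cm y z * x⁻¹ * cm x z from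
      fun x y z => by simp only [cm]; group]
    exact mul_mem (conj_high C (hpos r1 hr' _) (hL _ (by simp) _)) (hL _ (by simp) _)

end CfsgLib.Known.RootLift.E6
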