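/-
Central extensions of ²E₆(q), q ≥ 3: the unipotent subgroup splits.
-/
import Cfsg.Agent.Lib.Known.RootLift.E6Unip

set_option autoImplicit false
set_option maxRecDepth 20000
set_option maxHeartbeats 1000000
set_option linter.unusedSectionVars false

namespace CfsgLib.Known.RootLift.E6

open Cfsg.Lie CfsgLib.Chev

universe v

variable {K : Type v} [Field K] [Fintype K] {q : ℕ} (C : TwE6.Ctx K q)
include C

theorem rep_valid (i : Fin 24) : validB (rep i) = true := (reps_valid i).1

theorem rep_lt (i : Fin 24) : rep i < 72 := (valid C (rep_valid C i)).1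

theorem exists_moving (hq2 : q ≠ 2) : ∃ a : Kˣ, C.fu a = a ∧ (a : K) ≠ 1 := by
  classical
  by_contra h
  push Not at h
  have : Subsingleton {t : Kˣ // t ^ (q - 1) = 1} := ⟨fun s t => by
    have key : ∀ s : {t : Kˣ // t ^ (q - 1) = 1}, (s.1 : Kˣ) = 1 := fun s =>
      Units.ext (h s.1 ((C.fu_fix_iff _).2 (by rw [MonoidHom.mem_ker, powMonoidHom_apply]; exact s.2)))
    exact Subtype.ext ((key s).trans (key t).symm)⟩
  have h1 : Nat.card {t : Kˣ // t ^ (q - 1) = 1} ≤ 1 := Finite.card_le_one_iff_subsingleton.2 this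
  rw [card_units_fix C.card] at h1
  have := C.q_gt
  omega

theorem zpow_ne_one {a : Kˣ} (ha : (a : K) ≠ 1) {n : ℤ} (hn : n = 1 ∨ n = -1) :
    ((a ^ n : Kˣ) : K) ≠ 1 := by
  rcases hn with rfl | rfl
  · simpa using ha
  · intro h
    apply ha
    rw [zpow_neg_one] at h
    have : a⁻¹ = 1 := Units.ext h
    rw [inv_eq_one] at this
    rw [this, Units.val_one]

theorem flat_eq (m : ℕ) (hm : m < 24) {r : ℕ} (hr : r < 72) :
    (36 ≤ r ∧ m ≤ htR r) ↔ r ∈ flatL m := by
  refine ⟨fun h => (flat_mem ⟨r, hr⟩ ⟨m, hm⟩ h.1).2 h.2, fun h => ?_⟩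
  have h1 : 36 ≤ r := (Facts.coord_lt (flat_coord ⟨m, hm⟩) r h).2
  exact ⟨h1, (flat_mem ⟨r, hr⟩ ⟨m, hm⟩ h1).1 h⟩

/-- Fixed elements of the roots of height at least `m` are products of class elements. -/
theorem fix_high {m : ℕ} (hm : m < 24) {g : ↥(twistedE6 K q)}
    (hg : (g : GL chevE6.Idx K) ∈ rootClosure chevE6 K (fun c => 36 ≤ c ∧ m ≤ htR c)) :
    g ∈ lay (fun i => htR (rep i)) (fun i => par C (rep i)) (fun i t => eltG C (rep i) t) m := by
  set P := lay (fun i => htR (rep i)) (fun i => par C (rep i)) (fun i t => eltG C (rep i) t) m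
  rw [rootClosure_congr fun r hr => flat_eq C m hm hr] at hg
  obtain ⟨ts, hts, e⟩ := DataE6.facts.exists_coords C.sig.hC (flat_coord ⟨m, hm⟩) _ hg
  obtain ⟨ts', hl, hi, hH⟩ := word_classes C (P.map (twistedE6 K q).subtype)
    (reps.filter fun r => decide (m ≤ htR r)) (fun r hr => by
      rw [List.mem_filter, decide_eq_true_eq] at hr
      obtain ⟨k, hk, rfl⟩ := List.getElem_of_mem hr.1
      have hrep : rep ⟨k, hk⟩ = reps[k] := by simp [rep, List.getD_eq_getElem?_getD, hk]
      refine ⟨hrep ▸ rep_valid C ⟨k, hk⟩, fun t ht => ?_⟩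
      rw [← hrep] at ht hr ⊢
      exact ⟨eltG C (rep ⟨k, hk⟩) t, mem_part hr.2 ht, eltG_val C (rep_valid C ⟨k, hk⟩) ht⟩)
    ts hts
  have h2 := mem_fixS.1 (C.sys.le_fix g.2)
  rw [e] at h2
  have h3 := DataE6.facts.coords_unique C.sig.hC (flat_coord ⟨m, hm⟩) (ts := ts') (ts' := ts)
    (hl.trans hts) hts (hi.unique h2)
  obtain ⟨y, hy, ey⟩ := hH h3
  have : y = g := Subtype.ext (ey.trans e.symm)
  exact this ▸ hy

/-- The classes of positive roots with the torus elements. -/
noncomputable def sys (a : Kˣ) (ha : C.fu a = a) (ha1 : (a : K) ≠ 1) :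
    Sys.{v, v, 0} ↥(twistedE6 K q) K where
  N := 24
  ht i := htR (rep i)
  M i := par C (rep i)
  X i t := eltG C (rep i) t
  W := Fin 7
  tor k := ⟨torE a k, torE_mem C ha k⟩
  chr k i := ((a ^ pairing k (rep i) : Kˣ) : K)
  ht_pos i := (reps_valid i).2.2.1
  add i t ht' u hu := Subtype.ext (by
    rw [Subgroup.coe_mul, eltG_val C (rep_valid C i) (add_mem ht' hu),
      eltG_val C (rep_valid C i) ht', eltG_val C (rep_valid C i) hu, elt_add C (rep_valid C i)])
  tor_comm k l := Subtype.ext (by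
    show torE a k * torE a l = torE a l * torE a k
    rw [torE, torE, ← DataE6.facts.hT_mul, ← DataE6.facts.hT_mul]
    exact DataE6.facts.hT_congr fun i _ => mul_comm _ _)
  chr_mem k i t ht' := par_smul C ha _ ht'
  act k i t ht' := Subtype.ext (by
    rw [Subgroup.coe_mul, Subgroup.coe_mul, Subgroup.coe_inv, eltG_val C (rep_valid C i) ht',
      eltG_val C (rep_valid C i) (par_smul C ha _ ht'), torE_elt C ha k (rep_valid C i)])
  rel i j t ht' u hu := by
    obtain ⟨hi, hi', -, hiH, hie, -⟩ := reps_valid i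
    obtain ⟨hj, hj', -, hjH, hje, -⟩ := reps_valid j
    refine fix_high C (by omega) ?_
    show (eltG C (rep i) t * eltG C (rep j) u * (eltG C (rep i) t)⁻¹ *
      (eltG C (rep j) u)⁻¹ : ↥(twistedE6 K q)).1 ∈ _
    rw [Subgroup.coe_mul, Subgroup.coe_mul, Subgroup.coe_mul, Subgroup.coe_inv, Subgroup.coe_inv,
      eltG_val C hi ht', eltG_val C hj hu]
    exact cm_elt C hi hj hi' hj' hie hje t u
  move i := by
    obtain ⟨k, hk⟩ := (reps_valid i).2.2.2.2.2.2
    exact ⟨k, zpow_ne_one C ha1 hk⟩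

theorem wit {a : Kˣ} (ha : C.fu a = a) (ha1 : (a : K) ≠ 1) {r s : ℕ} (hs : validB s = true)
    (h : witB r s = true) : ∃ k : Fin 7, ((a ^ pairing k r : Kˣ) : K) ≠ 1 ∧
      ((a ^ pairing k s : Kˣ) : K) = 1 ∧
      ∀ t, torE a k * elt C s t * (torE a k)⁻¹ = elt C s t := by
  simp only [witB, decide_eq_true_eq] at h
  obtain ⟨k, h1, h2⟩ := h
  refine ⟨k, zpow_ne_one C ha1 h1, by rw [h2, zpow_zero, Units.val_one], fun t => ?_⟩
  rw [torE_elt C ha k hs, h2, zpow_zero, Units.val_one, one_mul]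

/-- The class of `d` consists of commutators of two classes. -/
theorem div_eq {p s d : ℕ} (hp : validB p = true) (hs : validB s = true)
    (hpne : parE6.rho p ≠ p) (hsne : parE6.rho s ≠ s) (hj : validB d = true)
    (hjco : coordB chevE6 (orb d) = true) (hT : termB p s d = true)
    (hT' : termB (parE6.rho p) (parE6.rho s) (parE6.rho d) = true)
    (c1 : parE6.commB chevE6 p (parE6.rho s) = true) (c2 : parE6.commB chevE6 (parE6.rho p) s = true)
    (c3 : parE6.commB chevE6 s (parE6.rho d) = true) (c4 : parE6.commB chevE6 p (parE6.rho d) = true)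
    {u : K} (hu : u ∈ par C d) : ∃ b : K, cm (elt C p 1) (elt C s b) = elt C d u := by
  obtain ⟨p1, p2, -⟩ := valid C hp
  obtain ⟨s1, s2, -⟩ := valid C hs
  obtain ⟨j1, j2, -⟩ := valid C hj
  have hparp : ∀ t : K, t ∈ par C p := fun t e => absurd e hpne
  have hpars : ∀ t : K, t ∈ par C s := fun t e => absurd e hsne
  obtain ⟨N, hN, eN⟩ := cm_single C p1 s1 hT
  obtain ⟨N', hN', eN'⟩ := cm_single C p2 s2 hT'
  have hkey : ∀ b : K, cm (elt C p 1) (elt C s b) =
      xU chevE6 d (N * (1 * b)) * xU chevE6 (parE6.rho d)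
        (N' * (parE6.coef C.f p 1 * parE6.coef C.f s b)) := by
    intro b
    set x := xU chevE6 p (1 : K)
    set x' := xU chevE6 (parE6.rho p) (parE6.coef C.f p 1)
    set y := xU chevE6 s b
    set y' := xU chevE6 (parE6.rho s) (parE6.coef C.f s b)
    have e1 : cm x y' = 1 := cm_eq_one.2 (C.sig.commute_xU p1 s2 c1 _ _).eq
    have e2 : cm x' y = 1 := cm_eq_one.2 (C.sig.commute_xU p2 s1 c2 _ _).eq
    rw [elt, elt, if_neg hpne, if_neg hsne]
    show cm (x * x') (y * y') = _
    have e3 : cm (x * x') (y * y') = x * (cm x' y * (y * cm x' y' * y⁻¹)) * x⁻¹ *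
        (cm x y * (y * cm x y' * y⁻¹)) := by simp only [cm]; group
    rw [e3, e1, e2, mul_one, mul_inv_cancel, mul_one, one_mul, eN, eN',
      (C.sig.commute_xU s1 j2 c3 _ _).eq, mul_inv_cancel_right,
      (C.sig.commute_xU p1 j2 c4 _ _).eq, mul_inv_cancel_right,
      ← (C.sig.commute_xU j1 j2 (valid C hj).2.2.2.2.1 _ _).eq]
  have hmem : ∀ b : K, cm (elt C p 1) (elt C s b) ∈ fixS C.σ := fun b => by
    have h1 := elt_fixed C hp (hparp 1)
    have h2 := elt_fixed C hs (hpars b)
    exact mul_mem (mul_mem (mul_mem h1 h2) (inv_mem h1)) (inv_mem h2)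
  by_cases he : parE6.rho d = d
  · let T : K →+ par C d := AddMonoidHom.mk'
      (fun b => ⟨N * (1 * b) + N' * (parE6.coef C.f p 1 * parE6.coef C.f s b), by
        refine fix_single C hj hjco he ?_
        have := hmem b
        rwa [hkey, he, DataE6.facts.xU_add j1] at this⟩)
      fun b b' => Subtype.ext (by
        show _ = _ + _
        simp only [coef_eq, map_add]; ring)
    have hker : Nat.card T.ker ≤ q := by
      refine le_trans (Nat.card_le_card_of_injective (fun b : T.ker =>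
        (⟨b.1, ?_⟩ : {t : K // C.f t =
          -(N * N' * (parE6.eps p : K) * (parE6.eps s : K)) * t}))
        (fun a b h => Subtype.ext (congrArg Subtype.val h :))) (card_twist_le C _)
      have h0 : N * (1 * b.1) + N' * (parE6.coef C.f p 1 * parE6.coef C.f s b.1) = 0 :=
        congrArg Subtype.val b.2
      simp only [coef_eq, map_one] at h0
      have hN2 : N' * N' = 1 := by rcases hN' with e | e <;> simp [e]
      calc C.f b.1 = (N' * N') * ((parE6.eps p : K) * (parE6.eps p : K)) *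
            ((parE6.eps s : K) * (parE6.eps s : K)) * C.f b.1 := by
            rw [hN2, eps_sq C p1, eps_sq C s1, one_mul, one_mul, one_mul]
        _ = _ := by
            linear_combination (N' * (parE6.eps p : K) * (parE6.eps s : K)) * h0
    have h1 : Nat.card T.ker * Nat.card T.range = Nat.card K := by
      rw [← AddSubgroup.index_ker, AddSubgroup.card_mul_index]
    have h2 : Nat.card T.range = Nat.card (par C d) := by
      refine le_antisymm (Nat.card_le_card_of_injective _ Subtype.val_injective) ?_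
      have h3 := card_par_le C j1
      rw [if_pos he] at h3
      refine h3.trans ?_
      rw [Nat.card_eq_fintype_card (α := K), C.card, sq] at h1
      by_contra hlt
      have := Nat.mul_le_mul_right (Nat.card T.range) hker
      rw [h1] at this
      have := Nat.le_of_mul_le_mul_left this (by have := C.q_gt; omega)
      omega
    obtain ⟨⟨_, b, rfl⟩, hb⟩ := ((Nat.bijective_iff_injective_and_card
      (Subtype.val : T.range → par C d)).2 ⟨Subtype.val_injective, h2⟩).2 ⟨u, hu⟩
    have hb' : N * (1 * b) + N' * (parE6.coef C.f p 1 * parE6.coef C.f s b) = u :=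
      congrArg Subtype.val hb
    refine ⟨b, ?_⟩
    rw [hkey, he, DataE6.facts.xU_add j1, elt, if_pos he, hb']
  · have hN2 : N * N = 1 := by rcases hN with e | e <;> simp [e]
    refine ⟨N * u, ?_⟩
    rw [hkey, show N * (1 * (N * u)) = u by rw [one_mul, ← mul_assoc, hN2, one_mul]]
    refine fix_pair C hj hjco he ?_
    have := hmem (N * u)
    rwa [hkey, show N * (1 * (N * u)) = u by rw [one_mul, ← mul_assoc, hN2, one_mul]] at this

theorem sys_pair {a : Kˣ} (ha : C.fu a = a) (ha1 : (a : K) ≠ 1) (i j : Fin 24) :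
    (sys C a ha ha1).Sep i j ∨ (sys C a ha ha1).Div i j ∨ (sys C a ha ha1).Div j i := by
  have h := pairs_ok i j
  simp only [pairB, Bool.or_eq_true, List.any_eq_true, Bool.and_eq_true, beq_iff_eq] at h
  rcases h with (h | h) | ⟨e, -, ⟨-, -⟩, h⟩
  · obtain ⟨k, h1, h2, -⟩ := wit C ha ha1 (rep_valid C j) (show witB (rep i) (rep j) = true from h)
    exact Or.inl ⟨k, Or.inr ⟨h2, h1⟩⟩
  · obtain ⟨k, h1, h2, -⟩ := wit C ha ha1 (rep_valid C i) (show witB (rep j) (rep i) = true from h)
    exact Or.inl ⟨k, Or.inl ⟨h2, h1⟩⟩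
  refine Or.inr (Or.inl ?_)
  generalize e.2.2.1 = p at h
  generalize e.2.2.2 = s at h
  change divB (rep i) (rep j) p s = true at h
  simp only [divB, Bool.and_eq_true, bne_iff_ne] at h
  obtain ⟨⟨⟨⟨⟨⟨⟨⟨⟨⟨⟨⟨⟨⟨hp, hs⟩, hpne⟩, hsne⟩, hcd⟩, hcp⟩, hcs⟩, hwp⟩, hws⟩, hT⟩, hT'⟩,
    c1⟩, c2⟩, c3⟩, c4⟩ := h
  obtain ⟨p1, p2, -⟩ := valid C hp
  obtain ⟨s1, s2, -⟩ := valid C hs
  have hi := rep_valid C i
  obtain ⟨hj, -, -, -, -, hjco, -⟩ := reps_valid j
  obtain ⟨j1, j2, -⟩ := valid C hj
  set d := rep j with hd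
  have hparp : ∀ t : K, t ∈ par C p := fun t e => absurd e hpne
  have hpars : ∀ t : K, t ∈ par C s := fun t e => absurd e hsne
  have hcom : (sys C a ha ha1).Com i j := fun t ht' u hu => Subtype.ext (by
    show (eltG C (rep i) t * eltG C d u : ↥(twistedE6 K q)).1 =
      (eltG C d u * eltG C (rep i) t : ↥(twistedE6 K q)).1
    rw [Subgroup.coe_mul, Subgroup.coe_mul, eltG_val C hi ht', eltG_val C hj hu]
    exact (commute_elt C hi hj hcd t u).eq)
  refine ⟨hcom, fun u hu => ?_⟩
  have hsurj := div_eq C hp hs hpne hsne hj hjco hT hT' c1 c2 c3 c4 hu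
  obtain ⟨b, hb⟩ := hsurj
  have hg : ∀ r : ℕ, ∀ hr : validB r = true, r = p ∨ r = s → ∀ t : K, ∀ ht' : t ∈ par C r,
      eltG C r t ∈ Subgroup.closure {g : ↥(twistedE6 K q) |
        (∀ t ∈ (sys C a ha ha1).M i, g * (sys C a ha ha1).X i t = (sys C a ha ha1).X i t * g) ∧
          ∃ k, (sys C a ha ha1).chr k i ≠ 1 ∧
            (sys C a ha ha1).tor k * g * ((sys C a ha ha1).tor k)⁻¹ = g} := by
    intro r hr hrps t ht'
    obtain ⟨k, k1, -, k3⟩ := wit C ha ha1 hr (r := rep i) (by rcases hrps with rfl | rfl <;> assumption)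
    refine Subgroup.subset_closure ⟨fun w hw => Subtype.ext ?_, k, k1, Subtype.ext ?_⟩
    · show (eltG C r t * eltG C (rep i) w : ↥(twistedE6 K q)).1 =
        (eltG C (rep i) w * eltG C r t : ↥(twistedE6 K q)).1
      rw [Subgroup.coe_mul, Subgroup.coe_mul, eltG_val C hr ht', eltG_val C hi hw]
      exact ((commute_elt C hi hr (by rcases hrps with rfl | rfl <;> assumption) w t).eq).symm
    · show torE a k * (eltG C r t : GL chevE6.Idx K) * (torE a k)⁻¹ = _
      rw [eltG_val C hr ht']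
      exact k3 t
  have hfin : eltG C d u = cm (eltG C p 1) (eltG C s b) := Subtype.ext (by
    rw [eltG_val C hj hu, ← hb]
    simp only [cm, Subgroup.coe_mul, Subgroup.coe_inv, eltG_val C hp (hparp 1),
      eltG_val C hs (hpars b)])
  show eltG C d u ∈ _
  rw [hfin]
  exact mul_mem (mul_mem (mul_mem (hg p hp (Or.inl rfl) 1 (hparp 1)) (hg s hs (Or.inr rfl) b (hpars b)))
    (inv_mem (hg p hp (Or.inl rfl) 1 (hparp 1)))) (inv_mem (hg s hs (Or.inr rfl) b (hpars b)))

/-- The unipotent subgroup lifts to every finite central extension. -/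
theorem exists_split (hq2 : q ≠ 2) {Γ : Type*} [Group Γ] [Finite Γ] (π : Γ →* ↥(twistedE6 K q))
    (hπ : Function.Surjective π) (hc : π.ker ≤ Subgroup.center Γ) :
    ∃ B : Subgroup Γ, (∀ b ∈ B, π b = 1 → b = 1) ∧
      (rootClosure chevE6 K (36 ≤ ·)).subgroupOf (twistedE6 K q) ≤ B.map π := by
  obtain ⟨a, ha, ha1⟩ := exists_moving C hq2
  have hle : (rootClosure chevE6 K (36 ≤ ·)).subgroupOf (twistedE6 K q) ≤
      (sys C a ha ha1).U := fun g hg => fix_high C (m := 0) (by norm_num)
        (rootClosure_mono (fun r _ h => ⟨h, Nat.zero_le _⟩) (Subgroup.mem_subgroupOf.1 hg))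
  obtain ⟨B, hB, hU⟩ := Sys.exists_split (S := sys C a ha ha1) hc
    (fun i j => sys_pair C ha ha1 i j) hπ (by
      refine le_trans ?_ (Subgroup.card_le_of_le hle)
      have hU : Nat.card ↥((rootClosure chevE6 K (36 ≤ ·)).subgroupOf (twistedE6 K q)) = q ^ 36 := by
        rw [← C.card_posU, DataE6.facts.posUnipotent_eq, ← Subgroup.inf_subgroupOf_right]
        exact Nat.card_congr (Subgroup.subgroupOfEquivOfLe inf_le_right).toEquiv
      rw [hU]
      calc ∏ i : Fin 24, Nat.card (par C (rep i))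
          ≤ ∏ i : Fin 24, q ^ (if parE6.rho (rep i) = rep i then 1 else 2) :=
            Finset.prod_le_prod' fun i _ => (card_par_le C (rep_lt C i)).trans_eq (by
              split <;> simp)
        _ = q ^ 36 := by
            rw [Finset.prod_pow_eq_pow_sum]
            congr 1)
  exact ⟨B, hB, hle.trans hU⟩

end CfsgLib.Known.RootLift.E6
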