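/-
The split Tits system of a twisted group: root groups of the orbits and rank one groups.
-/
import Cfsg.Agent.Lib.Known.TwAutSys
import Cfsg.Agent.Lib.Known.SplitLift.Assembly
import Cfsg.Agent.Lib.Chev.Twist.D4Torus.Emb

set_option autoImplicit false
set_option maxHeartbeats 1000000
set_option linter.unusedSectionVars false

namespace CfsgLib.Known.RootLift

open Cfsg.Lie CfsgLib.Chev CfsgLib.Known.SplitLift
open CfsgLib.Chev.TwD4.Torus (loM)
open Cfsg.Agent.S2426 (root root_val)
open scoped MatrixGroups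

universe v w

variable {D : ChevalleyDatum} {co : ℕ → ℕ → ℤ} {K : Type v} [Field K] [Finite K] {P : TwPar}
  {f : K →+* K} {σ : ↥(D.group K) →* GL D.Idx K} {ι : Type} {O : ι → Orb D}
  {G : Subgroup (GL D.Idx K)} (T : TwSys D co P f σ O G)
include T

theorem tw_opp (p : ℕ) [Fact p.Prime] [CharP K p] : Opp T.bnPair p T.uSub T.n0G := by
  have hF := T.sig.hF
  refine ⟨T.split p, T.mem_bnN.2 T.nLong_monomial, fun u hu hB => ?_⟩
  have h1 : T.nLong⁻¹ * (u : GL D.Idx K) * T.nLong ∈ D.borelSubgroup K := T.mem_bnB.1 hB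
  have hinv := hF.permAct_inv T.nLong_monomial T.nLong_perm
  have h2 := hF.conj_rootClosure hinv (Q := (· < D.nroots / 2)) (fun r hr => by
    by_contra hc
    have h3 := T.l0_long _ (not_lt.1 hc)
    rw [Equiv.Perm.coe_inv, Equiv.apply_symm_apply] at h3
    exact absurd hr (not_le.2 h3)) (T.mem_uSub.1 hu)
  rw [inv_inv, ← hF.negUnipotent_eq] at h2
  have : T.nLong⁻¹ * (u : GL D.Idx K) * T.nLong ∈
      D.borelSubgroup K ⊓ D.negUnipotent K := ⟨h1, h2⟩
  rw [hF.borel_inf_neg, Subgroup.mem_bot, mul_assoc, inv_mul_eq_one] at this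
  exact Subtype.ext (mul_eq_right.1 this.symm)

/-- The root group of an orbit. -/
theorem mem_X_tw (p : ℕ) [Fact p.Prime] [CharP K p] (o : ι) {u : ↥G} :
    u ∈ X T.uSub (T.nG o * T.n0G) ↔ (u : GL D.Idx K) ∈ rootClosure D K ((O o).posO co) := by
  have hF := T.sig.hF
  set g : GL D.Idx K := T.nO o * T.nLong with hg
  have hgN : g ∈ D.monomialSubgroup K := mul_mem (T.nO_monomial o) T.nLong_monomial
  have hinv := hF.permAct_inv hgN (hF.permAct_mul (T.nO_perm o) T.nLong_perm)
  rw [mul_inv_rev ((O o).wO), T.wO_inv o] at hinv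
  have hflip : ∀ r : Fin D.nroots, r.val < D.nroots / 2 →
      D.nroots / 2 ≤ ((sW D T.l0)⁻¹ r).val := fun r hr => by
    by_contra hc
    have h1 := T.l0_long (hF.negFin ((sW D T.l0)⁻¹ r)) ((hF.negFin_pos _).2 (not_le.1 hc))
    rw [hF.sW_neg, Equiv.Perm.coe_inv, Equiv.apply_symm_apply] at h1
    exact absurd ((hF.negFin_pos r).2 hr) (not_le.2 h1)
  have hflip' : ∀ r : Fin D.nroots, D.nroots / 2 ≤ r.val →
      ((sW D T.l0)⁻¹ r).val < D.nroots / 2 := fun r hr => by
    by_contra hc
    have h1 := T.l0_long _ (not_lt.1 hc)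
    rw [Equiv.Perm.coe_inv, Equiv.apply_symm_apply] at h1
    exact absurd hr (not_le.2 h1)
  have hpos : ∀ c ∈ rootClosure D K ((O o).posO co),
      g⁻¹ * c * g ∈ rootClosure D K (D.nroots / 2 ≤ ·) := fun c hc => by
    have := hF.conj_rootClosure hinv (Q := (D.nroots / 2 ≤ ·)) (fun r hr => by
      rw [Equiv.Perm.mul_apply]
      exact hflip _ (T.wO_inO o hr.1 hr.2).1) hc
    rwa [inv_inv] at this
  rw [mem_X (tw_opp T p), T.mem_uSub, T.mem_bnB]
  constructor
  · rintro ⟨hu, hB⟩
    obtain ⟨a, -, ha, c, -, hc, e⟩ := T.split_fix o (A := (D.nroots / 2 ≤ ·))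
      (fun r _ h => h)
      (fun i hi hiO j hj hjp _ _ c hc =>
        le_of_lt (lt_of_le_of_lt hiO.1 (hF.commTerms_lt hi hj hiO.1 hjp hc).2.1))
      (fun r hr h => T.sig.ok.rho_pos r hr h) hu (T.le_fix u.2)
    have h1 : g⁻¹ * a * g ∈ rootClosure D K (· < D.nroots / 2) := by
      have := hF.conj_rootClosure hinv (Q := (· < D.nroots / 2)) (fun r hr => by
        rw [Equiv.Perm.mul_apply]
        exact hflip' _ (T.wO_posO o hr.1 hr.2).1) ha
      rwa [inv_inv] at this
    have hB' : g⁻¹ * (u : GL D.Idx K) * g ∈ D.borelSubgroup K := hB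
    have h2 : g⁻¹ * a * g ∈ D.borelSubgroup K := by
      have := mul_mem hB' (inv_mem (hF.pos_le_borel (hpos c hc)))
      rwa [e, show g⁻¹ * (a * c) * g * (g⁻¹ * c * g)⁻¹ = g⁻¹ * a * g by group] at this
    have : g⁻¹ * a * g ∈ D.borelSubgroup K ⊓ D.negUnipotent K := ⟨h2, by
      rw [hF.negUnipotent_eq]; exact h1⟩
    rw [hF.borel_inf_neg, Subgroup.mem_bot, mul_assoc, inv_mul_eq_one] at this
    rw [e, mul_eq_right.1 this.symm, one_mul]
    exact hc
  · intro hu
    exact ⟨rootClosure_mono (fun r _ h => h.1) hu, hF.pos_le_borel (hpos _ hu)⟩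

/-- A homomorphism out of `SL₂` onto the root groups of an orbit. -/
theorem rankOne_tw (p : ℕ) [Fact p.Prime] [CharP K p] (o : ι) {F : Type w} [Field F]
    (φ : SL(2, F) →* ↥G)
    (hup : ∀ c, (φ (upM c) : GL D.Idx K) ∈ rootClosure D K ((O o).posO co))
    (honto : ∀ g : ↥G, (g : GL D.Idx K) ∈ rootClosure D K ((O o).posO co) → ∃ c, φ (upM c) = g)
    (hinj : ∀ c, φ (upM c) = 1 → c = 0)
    (hwN : (φ wM : GL D.Idx K) ∈ D.monomialSubgroup K)
    (hw : PermAct (φ wM : GL D.Idx K) (O o).wO) :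
    RankOne F T.uSub T.n0G (T.nG o) φ := by
  have hF := T.sig.hF
  have rt : ∀ c : F, root (true, c) = upM c := fun c => Subtype.ext (by rw [root_val]; simp [upM])
  have rf : ∀ c : F, root (false, c) = wM * upM (-c) * wM⁻¹ := fun c => by
    refine Subtype.ext ?_
    rw [root_val]
    simp only [Matrix.SpecialLinearGroup.coe_mul, Matrix.SpecialLinearGroup.coe_inv]
    simp [upM, wM, Matrix.adjugate_fin_two]
  -- the Weyl element against the representative
  set s : GL D.Idx K := T.nO o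
  have hd : PermAct (s⁻¹ * (φ wM : GL D.Idx K)) 1 := by
    have := hF.permAct_mul (hF.permAct_inv (T.nO_monomial o) (T.nO_perm o)) hw
    rwa [T.wO_inv o, T.orb.sq o] at this
  have hd' : PermAct ((φ wM : GL D.Idx K)⁻¹ * s) 1 := by
    have := hF.permAct_inv (mul_mem (inv_mem (T.nO_monomial o)) hwN) hd
    rwa [mul_inv_rev, inv_inv, inv_one] at this
  have hX : ∀ {u : ↥G}, u ∈ X T.uSub (T.nG o * T.n0G) ↔
      (u : GL D.Idx K) ∈ rootClosure D K ((O o).posO co) := mem_X_tw T p o
  have hneg : ∀ c, (φ wM * φ (upM c) * (φ wM)⁻¹ : GL D.Idx K) ∈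
      rootClosure D K ((O o).negO co) := fun c =>
    hF.conj_rootClosure hw (fun r hr => T.wO_inO o hr.1 hr.2) (hup c)
  have hcap : ∀ x ∈ rootClosure D K ((O o).posO co), x ∈ rootClosure D K ((O o).negO co) →
      x = 1 := fun x h1 h2 => by
    have : x ∈ D.borelSubgroup K ⊓ D.negUnipotent K := ⟨hF.pos_le_borel
      (rootClosure_mono (fun r _ h => h.1) h1), by
        rw [hF.negUnipotent_eq]; exact rootClosure_mono (fun r _ h => h.1) h2⟩
    rwa [hF.borel_inf_neg, Subgroup.mem_bot] at this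
  have upm : ∀ a b : F, (upM (a + b) : SL(2, F)) = upM a * upM b := fun a b => Subtype.ext (by
    simp only [Matrix.SpecialLinearGroup.coe_mul]
    simp [upM, add_comm])
  have upm0 : (upM (0 : F) : SL(2, F)) = 1 := Subtype.ext (by simp [upM, Matrix.one_fin_two])
  refine ⟨fun c => by rw [rt]; exact hX.2 (hup c), fun x hx => ?_, fun c => ?_, fun x hx => ?_,
    fun g hg => ?_⟩
  · obtain ⟨c, e⟩ := honto x (hX.1 hx)
    exact ⟨c, by rw [rt]; exact e⟩
  · refine ⟨(T.nG o)⁻¹ * φ (root (false, c)) * T.nG o, hX.2 ?_, by group⟩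
    rw [rf, map_mul, map_mul, map_inv]
    simp only [Subgroup.coe_mul, Subgroup.coe_inv]
    show s⁻¹ * ((φ wM : GL D.Idx K) * (φ (upM (-c)) : GL D.Idx K) * (φ wM : GL D.Idx K)⁻¹) * s ∈ _
    rw [show ∀ a b : GL D.Idx K, s⁻¹ * (a * b * a⁻¹) * s = (s⁻¹ * a) * b * (s⁻¹ * a)⁻¹ from
      fun a b => by group]
    exact hF.conj_rootClosure hd (fun r hr => hr) (hup _)
  · have hx' : ((φ wM : GL D.Idx K)⁻¹ * s) * x * ((φ wM : GL D.Idx K)⁻¹ * s)⁻¹ ∈
        rootClosure D K ((O o).posO co) :=
      hF.conj_rootClosure hd' (fun r hr => hr) (hX.1 hx)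
    obtain ⟨c, hc⟩ := honto ((φ wM)⁻¹ * T.nG o * x * ((φ wM)⁻¹ * T.nG o)⁻¹) hx'
    refine ⟨-c, ?_⟩
    rw [rf, neg_neg, map_mul, map_mul, map_inv, hc]
    group
  · by_cases h10 : g 1 0 = 0
    · have hdet := sl2_det g
      rw [h10, mul_zero, sub_zero] at hdet
      have e1 : g * upM 1 = upM (g 0 0 * g 0 0) * g := by
        refine Subtype.ext ?_
        simp only [Matrix.SpecialLinearGroup.coe_mul]
        ext i j
        fin_cases i <;> fin_cases j <;>
          simp [upM, Matrix.mul_apply, Fin.sum_univ_two, h10] <;>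
          linear_combination (-(g 0 0)) * hdet
      have h2 : g 0 0 * g 0 0 + -1 = 0 := hinj _ (by
        have e2 := congrArg φ e1
        rw [map_mul, map_mul, hg, one_mul, mul_one] at e2
        rw [upm, map_mul, ← e2, ← map_mul, ← upm, add_neg_cancel, upm0, map_one])
      have h11 : g 1 1 = g 0 0 := by linear_combination (g 1 1) * (-h2) + (g 0 0) * hdet
      obtain ⟨z, hz⟩ : ∃ z : SL(2, F), z = g * upM (-(g 0 0 * g 0 1)) := ⟨_, rfl⟩
      have hzc : wM * z = z * wM := by
        refine Subtype.ext ?_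
        simp only [hz, Matrix.SpecialLinearGroup.coe_mul]
        ext i j
        fin_cases i <;> fin_cases j <;>
          simp [upM, wM, Matrix.mul_apply, Fin.sum_univ_two, h10, h11] <;>
          first
            | linear_combination (g 0 1) * h2
            | linear_combination (-(g 0 1)) * h2
      have hzv : φ z = φ (upM (-(g 0 0 * g 0 1))) := by rw [hz, map_mul, hg, one_mul]
      have hz1 : φ z = 1 := by
        refine Subtype.ext (hcap _ (hzv ▸ hup _) ?_)
        have : φ z = φ wM * φ (upM (-(g 0 0 * g 0 1))) * (φ wM)⁻¹ := by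
          rw [← hzv, ← map_mul, hzc, map_mul, mul_inv_cancel_right]
        rw [this]
        simp only [Subgroup.coe_mul, Subgroup.coe_inv]
        exact hneg _
      have h3 := hinj _ (hzv ▸ hz1)
      rw [neg_eq_zero, mul_eq_zero] at h3
      have h01 : g 0 1 = 0 := h3.resolve_left fun h => by rw [h, zero_mul] at hdet; exact zero_ne_one hdet
      refine Matrix.SpecialLinearGroup.mem_center_iff.2 ⟨g 0 0, ?_, ?_⟩
      · rw [Fintype.card_fin, sq]; linear_combination h2
      · ext i j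
        fin_cases i <;> fin_cases j <;> simp [Matrix.scalar_apply, h10, h01, h11]
    · exfalso
      obtain ⟨z, hz⟩ : ∃ z : F, z = -(g 0 0) / g 1 0 := ⟨_, rfl⟩
      obtain ⟨g', hg'⟩ : ∃ x : SL(2, F), x = upM z * g * upM (-z) := ⟨_, rfl⟩
      have hφ : φ g' = 1 := by
        rw [hg', map_mul, map_mul, hg, mul_one, ← map_mul, ← upm, add_neg_cancel, upm0, map_one]
      have h00 : g' 0 0 = 0 := by
        simp only [hg', Matrix.SpecialLinearGroup.coe_mul]
        simp [upM, Matrix.mul_apply, Matrix.vecMul, dotProduct, Fin.sum_univ_two]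
        rw [hz, div_mul_cancel₀ _ h10]
        ring
      have hdet := sl2_det g'
      rw [h00, zero_mul, zero_sub] at hdet
      have e1 : g' * upM 1 = root (false, -(g' 1 0 * g' 1 0)) * g' := by
        refine Subtype.ext ?_
        simp only [Matrix.SpecialLinearGroup.coe_mul, root_val]
        ext i j
        fin_cases i <;> fin_cases j <;>
          simp [upM, Matrix.mul_apply, Fin.sum_univ_two, h00] <;>
          linear_combination (-(g' 1 0)) * hdet
      have h1 : φ (upM 1) = 1 := by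
        refine Subtype.ext (hcap _ (hup 1) ?_)
        have e2 := congrArg φ e1
        rw [map_mul, map_mul, hφ, one_mul, mul_one, rf, map_mul, map_mul, map_inv] at e2
        rw [e2]
        simp only [Subgroup.coe_mul, Subgroup.coe_inv]
        exact hneg _
      exact one_ne_zero (hinj 1 h1)

theorem nG_injective : Function.Injective T.nG := fun o o' e => by
  refine T.wO_injective (T.sig.hF.permAct_unique (T.nO_perm o) ?_)
  rw [show T.nO o = T.nO o' from congrArg Subtype.val e]
  exact T.nO_perm o'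

/-- The bound on coprime stem extensions from rank one bounds. -/
theorem card_coprime_tw [Fintype ι] (p : ℕ) [Fact p.Prime] [CharP K p] [Finite ↥G]
    (hG : ∀ N : Subgroup ↥G, N.Normal → T.uSub ≤ N → N = ⊤) (hperf : commutator ↥G = ⊤)
    (b : ι → ℕ)
    (hb : ∀ o, ∀ (E : Type v) [Group E] [Finite E] (π : E →* ↥G), Cov π p →
      Nat.card (tau π T.bnPair p T.uSub T.n0G (T.nG o)) ≤ b o)
    (E : Type v) [Group E] [Finite E] (π : E →* ↥G) (hπ : Cfsg.IsStemExtension π)
    (hco : (Nat.card π.ker).Coprime p) :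
    Nat.card π.ker * Nat.card ↥(T.bnPair.B ⊓ T.bnPair.N) ≤ ∏ o, b o := by
  classical
  haveI : Fintype T.bnPair.S := Fintype.ofFinite _
  let e : ι ≃ T.bnPair.S := Equiv.ofInjective _ (nG_injective T)
  refine (card_coprime_le (tw_opp T p) hG hperf (fun s => b (e.symm s))
    (fun E _ _ π' hc' s => ?_) E π hπ hco).trans_eq (e.symm.prod_comp b)
  have := hb (e.symm s) E π' hc'
  rwa [show T.nG (e.symm s) = (s : ↥G) from congrArg Subtype.val (e.apply_symm_apply s)] at this

end CfsgLib.Known.RootLift
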