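/-
Stem extensions of ²E₆(q), q ≥ 3, have kernels of order at most gcd(3, q + 1).
-/
import Cfsg.Agent.Lib.Known.RootLift.E6Split
import Cfsg.Agent.Lib.Known.RootLift.TwOpp
import Cfsg.Agent.Lib.Chev.Twist.G2Pair
import Cfsg.Agent.Lib.Schur.CoprimeLift

set_option autoImplicit false
set_option maxRecDepth 20000
set_option maxHeartbeats 1000000
set_option linter.unusedSectionVars false

namespace CfsgLib.Known.RootLift.E6

open Cfsg.Lie CfsgLib.Chev CfsgLib.Known.SplitLift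
open CfsgLib.Chev.TwD4.Torus (loM wM_eq)
open scoped MatrixGroups

universe v

variable {K : Type v} [Field K] [Fintype K] {q : ℕ} (C : TwE6.Ctx K q)
include C

/-- The fixed field. -/
def fixK : Subfield K := C.f.eqLocusField (RingHom.id K)

theorem mem_fixK {t : K} : t ∈ fixK C ↔ C.f t = t := Iff.rfl

theorem card_fixK : Nat.card (fixK C) = q := by
  exact (Nat.card_congr (Equiv.subtypeEquivRight fun t => by rw [mem_fixK, C.hf])).trans
    (card_field_fix C.q_gt C.card)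

theorem rankOne_single (p : ℕ) [Fact p.Prime] [CharP K p] (o : Fin TwE6.spec.length) (r : ℕ)
    (i : Fin chevE6.rank) (hr : r ∈ [e6p2, e6p4]) (hword : (TwE6.O o).word = [i])
    (hsimple : chevE6.simple i.val = r) (hco : coordB chevE6 [r] = true)
    (hlist : ∀ x < chevE6.nroots, ((TwE6.O o).posO DataE6.co x ↔ x ∈ [r])) :
    ∃ φ : SL(2, fixK C) →* ↥(twistedE6 K q),
      RankOne (fixK C) C.sys.uSub C.sys.n0G (C.sys.nG o) φ := by
  have hF := DataE6.facts
  obtain ⟨hr', hrp, hrn⟩ := TwE6.single_neg r hr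
  have R := hF.rankOne (F := K) hr'
  let h' : (fixK C)ˣ →* GL chevE6.Idx K :=
    (hF.hHom hr').comp (Units.map ((fixK C).subtype : fixK C →* K))
  have R' : CfsgLib.Chev.RankOne (fun t : fixK C => xU chevE6 r (t : K))
      (fun t : fixK C => xU chevE6 (chevE6.neg r) (t : K)) h' (nU chevE6 r 1) :=
    { x_add := fun s t => by rw [Subfield.coe_add]; exact R.x_add _ _
      y_add := fun s t => by rw [Subfield.coe_add]; exact R.y_add _ _
      hx := fun a t => R.hx (Units.map ((fixK C).subtype : fixK C →* K) a) (t : K)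
      key := fun u => by
        have := R.key (Units.map ((fixK C).subtype : fixK C →* K) u)
        simpa [h'] using this
      nx := fun t => R.nx (t : K)
      sq := by
        rw [R.sq]
        refine congrArg (hF.hHom hr') (Units.ext ?_)
        simp }
  obtain ⟨φ, hmem, hval⟩ := R'.exists_hom
  have hfix : ∀ t : fixK C, (t : K) ^ q = (t : K) := fun t => (C.hf _).symm.trans t.2
  have hG : ∀ g, φ g ∈ twistedE6 K q := fun g => (Subgroup.closure_le _).2 (by
    rintro _ (⟨t, rfl⟩ | ⟨t, rfl⟩)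
    · exact C.one_mem hrp (hfix t)
    · exact C.one_mem hrn (hfix t)) (hmem g)
  have hup : ∀ t : fixK C, φ (upM t) = xU chevE6 r (t : K) := fun t => (hval _ t).1 rfl
  have hwM : φ wM = nW chevE6 K (TwE6.O o).word := by
    rw [wM_eq, map_mul, map_mul, hup, (hval (loM (-1)) (-1)).2 rfl, hword]
    have := R'.key 1
    simp only [Units.val_one, inv_one, map_one, one_mul] at this
    rw [this, nW]
    simp [nS, hsimple]
  refine ⟨φ.codRestrict _ hG, rankOne_tw C.sys p o _ ?_ ?_ ?_ ?_ ?_⟩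
  · intro c
    show φ (upM c) ∈ _
    rw [hup]
    exact xU_mem_rootClosure hr' ((hlist r hr').2 (by simp)) _
  · intro g hg
    obtain ⟨t, ht, e⟩ := C.posO_single (r := r) hrp hco (C.sys.le_fix g.2)
      (rootClosure_mono (fun x hx h => (hlist x hx).1 h) hg)
    refine ⟨⟨t, (mem_fixK C).2 (by rw [C.hf]; exact ht)⟩, Subtype.ext ?_⟩
    show φ (upM _) = _
    rw [hup, e]
    simp [wU]
  · intro c hc
    have h1 : φ (upM c) = 1 := congrArg Subtype.val hc
    rw [hup, ← hF.xU_zero (F := K) hr'] at h1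
    exact Subtype.ext (List.cons.inj
      (hF.coords_unique C.sig.hC hco (ts := [(c : K)]) (ts' := [0]) rfl rfl
        (by simpa [wU] using h1))).1
  · show φ wM ∈ _
    rw [hwM]
    exact hF.nW_mem _
  · show PermAct (φ wM) _
    rw [hwM]
    exact hF.permAct_nW _

theorem rankOne_pair (p : ℕ) [Fact p.Prime] [CharP K p] (o : Fin TwE6.spec.length) (rs : ℕ × ℕ)
    (i j : Fin chevE6.rank) (hrs : rs ∈ [(e6p3, e6p5), (e6p1, e6p6)])
    (hword : (TwE6.O o).word = [i, j]) (hi : chevE6.simple i.val = rs.1)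
    (hj : chevE6.simple j.val = rs.2) (hco : coordB chevE6 [rs.1, rs.2] = true)
    (hlist : ∀ x < chevE6.nroots, ((TwE6.O o).posO DataE6.co x ↔ x ∈ [rs.1, rs.2])) :
    ∃ φ : SL(2, K) →* ↥(twistedE6 K q), RankOne K C.sys.uSub C.sys.n0G (C.sys.nG o) φ := by
  have hF := DataE6.facts
  obtain ⟨-, -, -, h4, hr, hs, hp, hn⟩ := TwE6.pair_cross rs hrs
  obtain ⟨A, B, A', Nn⟩ := C.commute_pair hrs
  have B' := C.sig.commute_xU (hF.neg_lt hs) (hF.neg_lt hr) h4
  obtain ⟨H, R, -⟩ := (hF.rankOne (F := K) hs).exists_prod (hF.rankOne (F := K) hr) C.f A B A' B'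
  obtain ⟨φ, hmem, hval⟩ := R.exists_hom
  have hG : ∀ g, φ g ∈ twistedE6 K q := fun g => (Subgroup.closure_le _).2 (by
    rintro _ (⟨t, rfl⟩ | ⟨t, rfl⟩)
    · show xU chevE6 rs.2 (C.f t) * xU chevE6 rs.1 t ∈ twistedE6 K q
      rw [(A _ _).eq]
      exact C.two_mem hp t
    · show xU chevE6 (chevE6.neg rs.2) (C.f t) * xU chevE6 (chevE6.neg rs.1) t ∈ twistedE6 K q
      rw [(B' _ _).eq]
      exact C.two_mem hn t) (hmem g)
  have hup : ∀ t : K, φ (upM t) = xU chevE6 rs.1 t * xU chevE6 rs.2 (C.f t) := fun t =>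
    ((hval _ t).1 rfl).trans (A _ _).eq
  have hwM : φ wM = nW chevE6 K (TwE6.O o).word := by
    rw [wM_eq, map_mul, map_mul, (hval (upM 1) 1).1 rfl, (hval (loM (-1)) (-1)).2 rfl, hword]
    have := R.key 1
    simp only [Units.val_one, inv_one, map_one, one_mul] at this ⊢
    rw [this, nW, (Nn 1 1).eq]
    simp [nS, hi, hj]
  refine ⟨φ.codRestrict _ hG, rankOne_tw C.sys p o _ ?_ ?_ ?_ ?_ ?_⟩
  · intro c
    show φ (upM c) ∈ _
    rw [hup]
    exact mul_mem (xU_mem_rootClosure hr ((hlist _ hr).2 (by simp)) _)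
      (xU_mem_rootClosure hs ((hlist _ hs).2 (by simp)) _)
  · intro g hg
    obtain ⟨t, e⟩ := C.posO_pair (rs := rs) hp hco (C.sys.le_fix g.2)
      (rootClosure_mono (fun x hx h => (hlist x hx).1 h) hg)
    refine ⟨t, Subtype.ext ?_⟩
    show φ (upM _) = _
    rw [hup, e, C.hf]
    simp [wU]
  · intro c hc
    have h1 : φ (upM c) = 1 := congrArg Subtype.val hc
    rw [hup] at h1
    exact (List.cons.inj (hF.coords_unique C.sig.hC hco (ts := [c, C.f c]) (ts' := [0, 0]) rfl rfl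
      (by simpa [wU, hF.xU_zero hr, hF.xU_zero hs] using h1))).1
  · show φ wM ∈ _
    rw [hwM]
    exact hF.nW_mem _
  · show PermAct (φ wM) _
    rw [hwM]
    exact hF.permAct_nW _

theorem card_tau_E6 (p : ℕ) [Fact p.Prime] [CharP K p] :
    ∀ o : Fin TwE6.spec.length, ∀ (E : Type v) [Group E] [Finite E] (π : E →* ↥(twistedE6 K q)),
      Cov π p → Nat.card (tau π C.sys.bnPair p C.sys.uSub C.sys.n0G (C.sys.nG o)) ≤
        if o.val < 2 then q - 1 else q ^ 2 - 1 := by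
  classical
  obtain ⟨w0, w1, w2, w3⟩ := TwE6.words
  obtain ⟨s0, s1, s2, s3, s4, s5, -⟩ := TwE6.torus_tables
  obtain ⟨c0, c1, c2, c3⟩ := TwE6.coords
  obtain ⟨p0, p1, p2, p3⟩ := TwE6.pos_lists
  haveI : Fintype (fixK C) := Fintype.ofFinite _
  haveI : CharP (fixK C) p :=
    RingHom.charP (fixK C).subtype Subtype.val_injective p
  have hF' : Fintype.card (fixK C) = q := by rw [← Nat.card_eq_fintype_card, card_fixK C]
  refine TwE6.fin_cases_spec ?_ ?_ ?_ ?_ <;> intro E _ _ π hc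
  · obtain ⟨φ, hφ⟩ := rankOne_single C p ⟨0, by decide⟩ e6p2 ⟨1, by decide⟩ (by simp) w0 s1 c0
      (posO_iff_list DataE6.chk_arrays (p := ([1], [1])) p0)
    refine (card_tau_le hc (tw_opp C.sys p) ⟨⟨0, by decide⟩, rfl⟩ hφ).trans ?_
    simp [hF']
  · obtain ⟨φ, hφ⟩ := rankOne_single C p ⟨1, by decide⟩ e6p4 ⟨3, by decide⟩ (by simp) w1 s3 c1
      (posO_iff_list DataE6.chk_arrays (p := ([3], [3])) p1)
    refine (card_tau_le hc (tw_opp C.sys p) ⟨⟨1, by decide⟩, rfl⟩ hφ).trans ?_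
    simp [hF']
  · obtain ⟨φ, hφ⟩ := rankOne_pair C p ⟨2, by decide⟩ (e6p3, e6p5) ⟨2, by decide⟩ ⟨4, by decide⟩
      (by simp) w2 s2 s4 c2 (posO_iff_list DataE6.chk_arrays (p := ([2, 4], [2, 4])) p2)
    refine (card_tau_le hc (tw_opp C.sys p) ⟨⟨2, by decide⟩, rfl⟩ hφ).trans ?_
    simp [C.card]
  · obtain ⟨φ, hφ⟩ := rankOne_pair C p ⟨3, by decide⟩ (e6p1, e6p6) ⟨0, by decide⟩ ⟨5, by decide⟩
      (by simp) w3 s0 s5 c3 (posO_iff_list DataE6.chk_arrays (p := ([0, 5], [0, 5])) p3)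
    refine (card_tau_le hc (tw_opp C.sys p) ⟨⟨3, by decide⟩, rfl⟩ hφ).trans ?_
    simp [C.card]

/-- Every stem extension has kernel of order at most gcd(3, q + 1). -/
theorem stem_card_le_gcd (hq : IsPrimePow q) (hq2 : q ≠ 2) (E : Type v) [Group E] [Finite E]
    (π : E →* ↥(twistedE6 K q)) (hπ : Cfsg.IsStemExtension π) :
    Nat.card π.ker ≤ Nat.gcd 3 (q + 1) := by
  classical
  obtain ⟨p, n, hp, hn, hpn⟩ := (isPrimePow_nat_iff q).1 hq
  haveI : Fact p.Prime := ⟨hp⟩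
  haveI : CharP K p := charP_of_card_eq_prime_pow (f := n * 2) (by rw [C.card, ← hpn, pow_mul])
  haveI : Finite ↥(twistedE6 K q) := inferInstance
  have hperf := C.perfect_twisted
  haveI := C.simple_twisted.1
  have hU36 : Nat.card ↥C.sys.uSub = q ^ 36 := by
    rw [← C.card_posU, TwSys.uSub, show chevE6.nroots / 2 = 36 by decide +kernel,
      DataE6.facts.posUnipotent_eq, ← Subgroup.inf_subgroupOf_right,
      show chevE6.nroots / 2 = 36 by decide +kernel]
    exact Nat.card_congr (Subgroup.subgroupOfEquivOfLe inf_le_right).toEquiv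
  have hidx : ¬ p ∣ C.sys.uSub.index := by
    intro hd
    have hm := C.sys.uSub.card_mul_index
    rw [hU36] at hm
    have h1 : Nat.gcd 3 (q + 1) * C.sys.uSub.index = (q ^ 2 - 1) * (q ^ 5 + 1) * (q ^ 6 - 1) *
        (q ^ 8 - 1) * (q ^ 9 + 1) * (q ^ 12 - 1) := by
      refine Nat.eq_of_mul_eq_mul_left (pow_pos (by have := C.q_gt; omega : 0 < q) 36) ?_
      calc q ^ 36 * (Nat.gcd 3 (q + 1) * C.sys.uSub.index)
          = Nat.gcd 3 (q + 1) * Nat.card ↥(twistedE6 K q) := by rw [← hm]; ring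
        _ = _ := by rw [C.card_twisted]; ring
    have hdvd : p ∣ (q ^ 2 - 1) * (q ^ 5 + 1) * (q ^ 6 - 1) * (q ^ 8 - 1) * (q ^ 9 + 1) *
        (q ^ 12 - 1) := h1 ▸ dvd_mul_of_dvd_right hd _
    have hqp : p ∣ q := hpn ▸ dvd_pow_self p hn.ne'
    have hq1 : 1 ≤ q := by have := C.q_gt; omega
    have hm1 : ∀ k, k ≠ 0 → ¬ p ∣ q ^ k - 1 := fun k hk h => by
      have h2 := Nat.dvd_sub (dvd_pow hqp hk) h
      rw [Nat.sub_sub_self (Nat.one_le_pow _ _ hq1)] at h2
      exact hp.not_dvd_one h2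
    have hp1 : ∀ k, k ≠ 0 → ¬ p ∣ q ^ k + 1 := fun k hk h =>
      hp.not_dvd_one ((Nat.dvd_add_right (dvd_pow hqp hk)).1 h)
    simp only [Nat.Prime.dvd_mul hp] at hdvd
    rcases hdvd with ((((h | h) | h) | h) | h) | h
    exacts [hm1 2 (by norm_num) h, hp1 5 (by norm_num) h, hm1 6 (by norm_num) h,
      hm1 8 (by norm_num) h, hp1 9 (by norm_num) h, hm1 12 (by norm_num) h]
  have hG : ∀ N : Subgroup ↥(twistedE6 K q), N.Normal → C.sys.uSub ≤ N → N = ⊤ := by
    intro N hN hle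
    refine (Subgroup.Normal.eq_bot_or_eq_top hN).resolve_left fun h => ?_
    rw [h, le_bot_iff] at hle
    rw [hle, Subgroup.card_bot] at hU36
    have := Nat.one_lt_pow (show (36 : ℕ) ≠ 0 by norm_num) C.q_gt
    omega
  refine SplitLift.stem_card_le p (fun E _ _ σ hσ hpk z hz => ?_) (fun E _ _ σ hσ hco => ?_) E π hπ
  · obtain ⟨B, hB, hU⟩ := exists_split C hq2 σ hσ.1 hσ.2.1
    have hle : C.sys.uSub ≤ B.map σ := by
      rw [TwSys.uSub, show chevE6.nroots / 2 = 36 by decide +kernel]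
      exact hU
    have hnd := Schur.CoprimeLift.not_dvd_card_ker hσ.1 hσ.2.1
      (SplitLift.perfect_of_stem hperf hσ) hidx B hB hle
    obtain ⟨k, hk⟩ := IsPGroup.iff_card.1 hpk
    rcases Nat.eq_zero_or_pos k with rfl | hk0
    · rw [Subgroup.eq_bot_of_card_eq _ (hk.trans (pow_zero p)), Subgroup.mem_bot] at hz
      exact hz
    · exact absurd (hk ▸ dvd_pow_self p hk0.ne') hnd
  · have hb := card_coprime_tw C.sys p hG hperf (fun o => if o.val < 2 then q - 1 else q ^ 2 - 1)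
      (card_tau_E6 C p) E σ hσ hco
    have hT : Nat.gcd 3 (q + 1) * Nat.card ↥(C.sys.bnPair.B ⊓ C.sys.bnPair.N) =
        (q - 1) ^ 4 * (q + 1) ^ 2 := by
      rw [← C.card_torus]
      congr 1
      refine Nat.card_congr
        { toFun := fun g => ⟨g.1.1, C.sys.mem_bnH.1 g.2, g.1.2⟩
          invFun := fun g => ⟨⟨g.1, g.2.2⟩, C.sys.mem_bnH.2 g.2.1⟩
          left_inv := fun _ => rfl
          right_inv := fun _ => rfl }
    have hprod : ∏ o : Fin TwE6.spec.length, (if o.val < 2 then q - 1 else q ^ 2 - 1) =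
        (q - 1) ^ 4 * (q + 1) ^ 2 := by
      rw [show ∏ o : Fin TwE6.spec.length, (if o.val < 2 then q - 1 else q ^ 2 - 1) =
        (q - 1) * ((q - 1) * ((q ^ 2 - 1) * ((q ^ 2 - 1) * 1))) from rfl,
        show q ^ 2 - 1 = (q + 1) * (q - 1) by rw [← Nat.sq_sub_sq, one_pow]]
      ring
    rw [hprod, ← hT] at hb
    exact Nat.le_of_mul_le_mul_right hb Nat.card_pos

end CfsgLib.Known.RootLift.E6
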