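/-
The triple cover of ²E₆(q) for q ≡ 2 mod 3.
-/
import Cfsg.Agent.Lib.Known.RootLift.E6Bound
import Cfsg.Agent.Lib.Known.ChevLift.CentreE

set_option autoImplicit false
set_option maxRecDepth 20000
set_option maxHeartbeats 1000000
set_option linter.unusedSectionVars false

namespace CfsgLib.Known.RootLift.E6

open Cfsg.Lie CfsgLib.Chev

universe v

theorem pair_free :
    ∀ rs ∈ [(e6p1, e6p6), (e6p3, e6p5)], ∀ a ∈ [rs.1, chevE6.neg rs.1],
      ∀ b ∈ [rs.2, chevE6.neg rs.2], a < chevE6.nroots ∧ b < chevE6.nroots ∧ b ≠ a ∧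
        b ≠ chevE6.neg a ∧ chevE6.commTerms a b = [] := by
  decide +kernel

theorem neg_pairs : chevE6.neg e6p1 = e6m1 ∧ chevE6.neg e6p6 = e6m6 ∧ chevE6.neg e6p3 = e6m3 ∧
    chevE6.neg e6p5 = e6m5 := by
  decide +kernel

variable {K : Type v} [Field K] [Fintype K] {q : ℕ} (C : TwE6.Ctx K q)
include C

theorem st_pair_commute {rs : ℕ × ℕ} (h : rs ∈ [(e6p1, e6p6), (e6p3, e6p5)]) {a b : ℕ}
    (ha : a ∈ [rs.1, chevE6.neg rs.1]) (hb : b ∈ [rs.2, chevE6.neg rs.2]) (t u : K) :
    Commute (chevE6.stGen K a t) (chevE6.stGen K b u) := by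
  obtain ⟨h1, h2, h3, h4, h5⟩ := pair_free rs h a ha b hb
  have e := stGen_comm h1 h2 h3 h4 t u
  rw [cwR, h5] at e
  simp only [List.map_nil, stW, List.prod_nil, mul_one] at e
  exact e.symm

/-- The product of the torus elements of a pair lies in a subgroup containing the lifted pair words. -/
theorem st_pair_hG {rs : ℕ × ℕ} (h : rs ∈ [(e6p1, e6p6), (e6p3, e6p5)])
    (S : Subgroup (chevE6.SteinbergGroup K))
    (hp : ∀ t : K, chevE6.stGen K rs.1 t * chevE6.stGen K rs.2 (C.f t) ∈ S)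
    (hn : ∀ t : K, chevE6.stGen K (chevE6.neg rs.1) t * chevE6.stGen K (chevE6.neg rs.2) (C.f t) ∈ S)
    (u : K) : stHG chevE6 rs.1 u * stHG chevE6 rs.2 (C.f u) ∈ S := by
  have N : ∀ t : K, stNG chevE6 rs.1 t * stNG chevE6 rs.2 (C.f t) ∈ S := by
    intro t
    have hm := mul_mem (mul_mem (hp t) (hn (-t⁻¹))) (hp t)
    rw [map_neg, map_inv₀] at hm
    convert hm using 1
    have A := st_pair_commute C h (a := chevE6.neg rs.1) (b := rs.2) (by simp) (by simp)
    have B := st_pair_commute C h (a := rs.1) (b := chevE6.neg rs.2) (by simp) (by simp)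
    have D := st_pair_commute C h (a := rs.1) (b := rs.2) (by simp) (by simp)
    unfold stNG
    set x := chevE6.stGen K rs.1 t
    set x' := chevE6.stGen K rs.2 (C.f t)
    set y := chevE6.stGen K (chevE6.neg rs.1) (-t⁻¹)
    set y' := chevE6.stGen K (chevE6.neg rs.2) (-(C.f t)⁻¹)
    calc x * y * x * (x' * y' * x') = x * y * (x * x') * y' * x' := by group
      _ = x * y * (x' * x) * y' * x' := by rw [(D t (C.f t)).eq]
      _ = x * (y * x') * (x * y') * x' := by group
      _ = x * (x' * y) * (y' * x) * x' := by rw [(A (-t⁻¹) (C.f t)).eq, (B t (-(C.f t)⁻¹)).eq]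
      _ = _ := by group
  have hc : Commute (stNG chevE6 rs.2 (C.f u)) (stNG chevE6 rs.1 (-1 : K)) := by
    have A := fun t w => (st_pair_commute C h (a := chevE6.neg rs.1) (b := rs.2) (by simp) (by simp) t w).symm
    have B := fun t w => (st_pair_commute C h (a := rs.1) (b := chevE6.neg rs.2) (by simp) (by simp) t w).symm
    have D := fun t w => (st_pair_commute C h (a := rs.1) (b := rs.2) (by simp) (by simp) t w).symm
    have A' := fun t w => (st_pair_commute C h (a := chevE6.neg rs.1) (b := chevE6.neg rs.2)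
      (by simp) (by simp) t w).symm
    unfold stNG
    exact ((((D _ _).mul_left (B _ _)).mul_left (D _ _)).mul_right
      (((A _ _).mul_left (A' _ _)).mul_left (A _ _))).mul_right
      (((D _ _).mul_left (B _ _)).mul_left (D _ _))
  have h1 := mul_mem (N u) (N (-1))
  rw [map_neg, map_one, hc.mul_mul_mul_comm] at h1
  exact h1

theorem exists_cover (h3 : Nat.gcd 3 (q + 1) = 3) {p n : ℕ} [Fact p.Prime] (hp : q = p ^ n) :
    ∃ (Γ : Type v) (_ : Group Γ) (_ : Finite Γ) (π : Γ →* ↥(twistedE6 K q)),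
      Cfsg.IsStemExtension π ∧ Nat.card π.ker = 3 := by
  classical
  have hF := DataE6.facts
  have hN : HasNbr chevE6 := hasNbr_of_mem (by simp)
  obtain ⟨φ, hφ⟩ := hF.exists_theta C.sig.hC (K := K)
  haveI := Lift.finite_steinberg Lift.laced_E6.{v} K
  set H := (twistedE6 K q).comap φ with hH
  set Γ : Subgroup (chevE6.SteinbergGroup K) := ⁅H, H⁆
  have hΓH : Γ ≤ H := Subgroup.commutator_le.2 fun a ha b hb => by
    rw [commutatorElement_def]; exact mul_mem (mul_mem (mul_mem ha hb) (inv_mem ha)) (inv_mem hb)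
  let π : Γ →* ↥(twistedE6 K q) := (φ.comp Γ.subtype).codRestrict _ fun x => hΓH x.2
  have hdvd : 3 ∣ q + 1 := h3 ▸ Nat.gcd_dvd_right 3 (q + 1)
  have hKdvd : 3 ∣ Fintype.card K - 1 := by
    rw [C.card, ← one_pow 2, Nat.sq_sub_sq]
    exact dvd_mul_of_dvd_left hdvd _
  have hcen3 : Nat.card (Subgroup.center (chevE6.SteinbergGroup K)) = 3 := by
    rw [Lift.card_center_E6, Nat.gcd_eq_left hKdvd]
  have hker : ∀ z, φ z = 1 → z ∈ Subgroup.center (chevE6.SteinbergGroup K) := fun z hz =>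
    (hF.st_ker hφ hN hz).2
  have hK3 : ∀ z, φ z = 1 → z ^ 3 = 1 := fun z hz => by
    have h1 : (⟨z, hker z hz⟩ : Subgroup.center (chevE6.SteinbergGroup K)) ^ 3 = 1 :=
      hcen3 ▸ pow_card_eq_one'
    exact congrArg Subtype.val h1
  -- the image of the derived preimage
  have hrange : ∀ g ∈ twistedE6 K q, ∃ x ∈ H, φ x = g := by
    intro g hg
    obtain ⟨θ, hθs, -, hθ⟩ := hF.exists_surj C.sig.hC hN (K := K)
    have e : φ = (chevE6.group K).subtype.comp θ := PresentedGroup.ext fun ⟨r, t⟩ => by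
      have hg' : chevE6.stGen K r.val t = PresentedGroup.of (r, t) := by
        simp [ChevalleyDatum.stGen, ChevalleyDatum.stX, PresentedGroup.of]
      rw [← hg', hφ r.val t r.isLt, hF.isTheta_subtype hθ r.val t r.isLt]
    have hgG : g ∈ chevE6.group K := (mem_fixS.1 (C.sys.le_fix hg)).mem
    obtain ⟨x, hx⟩ := hθs ⟨g, hgG⟩
    have hx' : φ x = g := by rw [e, MonoidHom.comp_apply, hx]; rfl
    exact ⟨x, show φ x ∈ twistedE6 K q by rw [hx']; exact hg, hx'⟩
  have hmap : Γ.map φ = twistedE6 K q := by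
    have h1 : H.map φ = twistedE6 K q := le_antisymm (Subgroup.map_comap_le _ _) fun g hg => by
      obtain ⟨x, hx, e⟩ := hrange g hg
      exact ⟨x, hx, e⟩
    rw [Subgroup.map_commutator, h1]
    have h2 : (commutator ↥(twistedE6 K q)).map (twistedE6 K q).subtype =
        ⁅twistedE6 K q, twistedE6 K q⁆ := by
      rw [commutator_def, Subgroup.map_commutator, ← MonoidHom.range_eq_map, Subgroup.range_subtype]
    rw [← h2, C.perfect_twisted, ← MonoidHom.range_eq_map, Subgroup.range_subtype]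
  have hπ : Function.Surjective π := fun g => by
    obtain ⟨x, hx, e⟩ : (g : GL chevE6.Idx K) ∈ Γ.map φ := by rw [hmap]; exact g.2
    exact ⟨⟨x, hx⟩, Subtype.ext e⟩
  -- elements of order prime to three
  have hp3 : Nat.Coprime p 3 := by
    rw [Nat.coprime_primes Fact.out Nat.prime_three]
    rintro rfl
    rcases Nat.eq_zero_or_pos n with rfl | hn
    · have := C.q_gt; rw [hp] at this; simp at this
    · have := (Nat.dvd_add_right (hp ▸ dvd_pow_self 3 hn.ne' : 3 ∣ q)).1 hdvd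
      exact absurd (Nat.dvd_one.1 this) (by norm_num)
  have hmem : ∀ x ∈ H, x ^ p = 1 → x ∈ Γ := by
    intro x hx hxp
    obtain ⟨y, hy, e⟩ : φ x ∈ Γ.map φ := by rw [hmap]; exact hx
    have hk : φ (y⁻¹ * x) = 1 := by rw [map_mul, map_inv, e, inv_mul_cancel]
    have hc : Commute y (y⁻¹ * x) := Subgroup.mem_center_iff.1 (hker _ hk) y
    have h1 : x ^ 3 ∈ Γ := by
      have := hc.mul_pow 3
      rw [mul_inv_cancel_left, hK3 _ hk, mul_one] at this
      rw [this]; exact pow_mem hy _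
    obtain ⟨a, ha⟩ := exists_pow_eq_self_of_coprime (x := x) (n := 3)
      ((hp3.coprime_dvd_left (orderOf_dvd_of_pow_eq_one hxp)).symm)
    rw [← ha]
    exact pow_mem h1 _
  haveI : CharP K p := charP_of_card_eq_prime_pow (f := n * 2) (by rw [C.card, hp, pow_mul])
  have hgenp : ∀ r < chevE6.nroots, ∀ t : K, chevE6.stGen K r t ^ p = 1 := by
    intro r hr t
    have : ∀ m : ℕ, chevE6.stGen K r t ^ m = chevE6.stGen K r ((m : K) * t) := fun m => by
      induction m with
      | zero => rw [pow_zero, Nat.cast_zero, zero_mul, stGen_zero hr]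
      | succ m ih => rw [pow_succ, ih, stGen_add hr, Nat.cast_succ, add_mul, one_mul]
    rw [this, CharP.cast_eq_zero, zero_mul, stGen_zero hr]
  have hword : ∀ rs, rs ∈ [(e6p1, e6p6), (e6p3, e6p5)] → ∀ a b, a ∈ [rs.1, chevE6.neg rs.1] →
      b ∈ [rs.2, chevE6.neg rs.2] → (a, b) ∈ [(e6p1, e6p6), (e6m1, e6m6), (e6p3, e6p5), (e6m3, e6m5)] →
      ∀ t : K, chevE6.stGen K a t * chevE6.stGen K b (C.f t) ∈ Γ := by
    intro rs hrs a b ha hb hab t
    obtain ⟨h1, h2, -⟩ := pair_free rs hrs a ha b hb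
    refine hmem _ (show φ _ ∈ twistedE6 K q by
      rw [map_mul, hφ a t h1, hφ b (C.f t) h2]; exact C.two_mem hab t) ?_
    rw [(st_pair_commute C hrs ha hb t (C.f t)).mul_pow, hgenp a h1, hgenp b h2, one_mul]
  obtain ⟨n1, n6, n3, n5⟩ := neg_pairs
  -- the central element
  obtain ⟨w, hw⟩ := exists_prime_orderOf_dvd_card' (G := Kˣ) 3 (by
    rw [Nat.card_units, Nat.card_eq_fintype_card]; exact hKdvd)
  have hw3 : w ^ 3 = 1 := hw ▸ pow_orderOf_eq_one w
  have hfw : C.fu w = w ^ 2 := by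
    obtain ⟨k, hk⟩ := hdvd
    refine mul_right_cancel (b := w) ?_
    rw [← pow_succ, C.fu_eq_pow, ← pow_succ, hk, pow_mul, hw3, one_pow]
  have hfw2 : C.fu (w ^ 2) = w := by
    rw [map_pow, hfw, ← pow_mul, show 2 * 2 = 3 + 1 from rfl, pow_succ, hw3, one_mul]
  let c : Fin chevE6.rank → Kˣ := fun i => TwE6.six w 1 (w ^ 2) 1 w (w ^ 2) i.val
  obtain ⟨s0, s1, s2, s3, s4, s5, -, -, -, -, -, -, h6⟩ := TwE6.torus_tables
  have hzΓ : stT chevE6 c ∈ Γ := by
    have A := st_pair_hG C (rs := (e6p1, e6p6)) (by simp) Γ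
      (hword (e6p1, e6p6) (by simp) e6p1 e6p6 (by simp) (by simp) (by simp))
      (fun t => hword (e6p1, e6p6) (by simp) (chevE6.neg e6p1) (chevE6.neg e6p6) (by simp) (by simp)
        (by rw [n1, n6]; simp) t) (w : K)
    have B := st_pair_hG C (rs := (e6p3, e6p5)) (by simp) Γ
      (hword (e6p3, e6p5) (by simp) e6p3 e6p5 (by simp) (by simp) (by simp))
      (fun t => hword (e6p3, e6p5) (by simp) (chevE6.neg e6p3) (chevE6.neg e6p5) (by simp) (by simp)
        (by rw [n3, n5]; simp) t) ((w ^ 2 : Kˣ) : K)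
    have f1 : C.f (w : K) = ((w ^ 2 : Kˣ) : K) := congrArg Units.val hfw
    have f2 : C.f ((w ^ 2 : Kˣ) : K) = (w : K) := congrArg Units.val hfw2
    rw [f1] at A
    rw [f2] at B
    have hone : ∀ i, i < chevE6.nroots → stHG chevE6 i (1 : K) = 1 := fun i hi => by
      have h := stHG_mul (K := K) (fun _ h => h) hi one_ne_zero one_ne_zero
      rw [mul_one] at h
      exact mul_eq_left.1 h
    have hcm : ∀ (i j : ℕ), i < chevE6.rank → j < chevE6.rank → ∀ a b : Kˣ,
        Commute (stHG chevE6 (chevE6.simple i) (a : K)) (stHG chevE6 (chevE6.simple j) (b : K)) :=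
      fun i j hi hj => hF.st_torus_comm hN hφ hi hj
    have e : stT chevE6 c =
        stHG chevE6 e6p1 (w : K) * stHG chevE6 e6p3 ((w ^ 2 : Kˣ) : K) * stHG chevE6 e6p5 (w : K) *
          stHG chevE6 e6p6 ((w ^ 2 : Kˣ) : K) := by
      rw [stT, ← List.ofFn_eq_map]
      show (List.ofFn fun i : Fin 6 => stHG chevE6 (chevE6.simple i.val)
        ((TwE6.six w 1 (w ^ 2) 1 w (w ^ 2) i.val : Kˣ) : K)).prod = _
      simp [List.ofFn_succ, s0, s1, s2, s3, s4, s5, TwE6.six, hone _ (show e6p2 < chevE6.nroots by decide),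
        hone _ (show e6p4 < chevE6.nroots by decide), mul_assoc]
    have c1 := hcm 2 5 (by rw [h6]; norm_num) (by rw [h6]; norm_num) (w ^ 2) (w ^ 2)
    have c2 := hcm 4 5 (by rw [h6]; norm_num) (by rw [h6]; norm_num) w (w ^ 2)
    rw [s2, s5] at c1
    rw [s4, s5] at c2
    rw [e, mul_assoc, mul_assoc, c2.eq, ← mul_assoc (stHG chevE6 e6p3 _), c1.eq, ← mul_assoc,
      ← mul_assoc, mul_assoc _ (stHG chevE6 e6p3 _)]
    exact mul_mem A B
  have hz1 : φ (stT chevE6 c) = 1 := by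
    rw [hF.stT_map hN hφ]
    refine (hF.hT_congr fun i hi => ?_).trans
      ((TwE6.six_eq_one_iff w 1 (w ^ 2) 1 w (w ^ 2)).2 ⟨hw3, rfl, rfl, rfl,
        rfl, rfl⟩)
    rw [dif_pos hi]
  have hzne : stT chevE6 c ≠ 1 := fun h => by
    have h1 := Lift.stT_injective DataE6.facts Lift.laced_E6.{v}.unit DataE8.facts
      Lift.laced_E8.{v}.unit good_E8.comm (hasNbr_of_mem (by simp))
      (Lift.embeds_of_chk DataE6.chk_arrays DataE6.chk_chain DataE8.chk_arrays DataE8.chk_chain
        Lift.chkEmb_E6)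
      (M := (!![4, 5, 7, 10, 8, 6, 4, 2; 5, 8, 10, 15, 12, 9, 6, 3; 7, 10, 14, 20, 16, 12, 8, 4; 10, 15, 20, 30, 24, 18, 12, 6; 8, 12, 16, 24, 20, 15, 10, 5; 6, 9, 12, 18, 15, 12, 8, 4; 4, 6, 8, 12, 10, 8, 6, 3; 2, 3, 4, 6, 5, 4, 3, 2] : Matrix (Fin 8) (Fin 8) ℤ))
      (by decide +kernel) h
    have h0 : c ⟨0, by rw [h6]; norm_num⟩ = 1 := congrFun h1 _
    simp only [c, TwE6.six] at h0
    rw [h0, orderOf_one] at hw
    exact absurd hw (by norm_num)
  have hstem : Cfsg.IsStemExtension π := by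
    have hkc : π.ker ≤ Subgroup.center Γ := fun x hx => Subgroup.mem_center_iff.2 fun y =>
      Subtype.ext (Subgroup.mem_center_iff.1 (hker x.1 (congrArg Subtype.val hx)) y.1)
    have hperf : commutator Γ = ⊤ := by
      have hle : Γ ≤ ⁅Γ, Γ⁆ := Subgroup.commutator_le.2 fun a ha b hb => by
        obtain ⟨a', ha', ea⟩ : φ a ∈ Γ.map φ := by rw [hmap]; exact ha
        obtain ⟨b', hb', eb⟩ : φ b ∈ Γ.map φ := by rw [hmap]; exact hb
        have hc : φ.ker ≤ Subgroup.center _ := fun z hz => hker z hz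
        rw [Known.SL2Lift.comm_central_left hc ea.symm, Known.SL2Lift.comm_central_right hc eb.symm]
        exact Subgroup.commutator_mem_commutator ha' hb'
      rw [eq_top_iff]
      intro x _
      have htop : (commutator Γ).map Γ.subtype = ⁅Γ, Γ⁆ := by
        rw [commutator_def, Subgroup.map_commutator, ← MonoidHom.range_eq_map, Subgroup.range_subtype]
      obtain ⟨y, hy, e⟩ := (htop ▸ hle x.2 : x.1 ∈ (commutator Γ).map Γ.subtype)
      rwa [← Subtype.ext (a1 := y) (a2 := x) e]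
    exact ⟨hπ, hkc, hperf ▸ le_top⟩
  refine ⟨Γ, inferInstance, inferInstance, π, hstem, ?_⟩
  have h1 : Nat.card π.ker ∣ 3 := by
    rw [← hcen3]
    refine Subgroup.card_dvd_of_injective ((Γ.subtype.comp π.ker.subtype).codRestrict
      (Subgroup.center _) fun x => hker x.1.1 (congrArg Subtype.val x.2)) fun a b e =>
      Subtype.ext (Subtype.ext (congrArg Subtype.val e :))
  refine ((Nat.dvd_prime Nat.prime_three).1 h1).resolve_left fun h => hzne ?_
  have := (Nat.card_eq_one_iff_unique.1 h).1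
  exact congrArg (fun x : π.ker => x.1.1)
    (Subsingleton.elim (⟨⟨_, hzΓ⟩, Subtype.ext hz1⟩ : π.ker) 1)

end CfsgLib.Known.RootLift.E6
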