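/-
Tables for the eight classes of positive roots of ²F₄ in their linear order.
-/
import Cfsg.Agent.Lib.Chev.Twist.F4Main
import Cfsg.Agent.Lib.Known.TwistInvol.F4Tools

set_option autoImplicit false
set_option maxRecDepth 100000
set_option Elab.async false

namespace CfsgLib.Known.RootLift.F4

open Cfsg.Lie CfsgLib.Chev
open CfsgLib.Chev.TwistInvol.F4 (wordO)

/-- The classes of two and of four roots alternate. -/
def cls (k : ℕ) : List ℕ :=
  [[33, 24], [34, 26, 36, 42], [38, 43], [29, 41, 44, 47], [39, 45], [35, 31, 40, 46], [37, 32],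
    [27, 25, 28, 30]].getD k []

/-- The lower layer of a class. -/
def low (k : ℕ) : List ℕ := (cls k).drop 2

/-- The classes from `a` to before `b`. -/
def flat (a b : ℕ) : List ℕ := (List.range' a (b - a)).flatMap cls

/-- The commutators of the roots of `S` and `T` lie among the roots of `I`. -/
def relB (S T I : List ℕ) : Bool :=
  S.all fun s => T.all fun r => s == r ||
    (s != chevF4.neg r && (chevF4.commTerms r s).all fun c => c.2.1 % 2 == 0 || I.contains c.1)

/-- Commutators of `S` and `T` in `I`, both normalising it. -/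
def bracketB (S T I : List ℕ) : Bool := relB S T I && relB S I I && relB T I I

/-- The cocharacters fixing one class each. -/
def coch (k : ℕ) : List ℤ :=
  [[-1, 0, -2, 0], [-1, 0, -1, -1], [-1, 1, 0, 1], [0, 0, -1, 0], [-1, 0, 0, 0], [-1, 0, -1, 0],
    [-1, 0, 0, -1], [0, -1, -1, -1]].getD k []

/-- The exponent of the twisted variable. -/
def wA (k r : ℕ) : ℤ :=
  chevF4.cartan 0 r * (2 * (coch k).getD 1 0) + chevF4.cartan 1 r * (2 * (coch k).getD 3 0) +
    chevF4.cartan 2 r * (2 * (coch k).getD 2 0) + chevF4.cartan 3 r * (2 * (coch k).getD 0 0)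

/-- The exponent of the variable. -/
def wB (k r : ℕ) : ℤ :=
  chevF4.cartan 0 r * (coch k).getD 0 0 + chevF4.cartan 1 r * (coch k).getD 2 0 +
    chevF4.cartan 2 r * (2 * (coch k).getD 3 0) + chevF4.cartan 3 r * (2 * (coch k).getD 1 0)

/-- The norm of a pair of exponents is a power of two up to sign. -/
def unitB (a b : ℤ) : Bool :=
  (List.range 8).any fun j => (a * a - 2 * (b * b)).natAbs == 2 ^ j

/-- The orbit words mapping a class to the class in the middle. -/
def moveW (k : ℕ) : List (Fin TwF4.spec.length) :=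
  if k = 1 then [⟨0, by decide⟩, ⟨1, by decide⟩] else if k = 5 then [⟨0, by decide⟩]
    else if k = 7 then [⟨0, by decide⟩, ⟨1, by decide⟩, ⟨0, by decide⟩] else []

theorem cls_ok : ∀ k : Fin 8, coordB chevF4 (cls k) = true ∧
    coordB chevF4 (low k) = true ∧ (∀ r ∈ cls k, r < 48 ∧ 24 ≤ r) ∧
    (k.val % 2 = 0 → low k = []) := by
  decide +kernel

theorem pairs_ok : ∀ k : Fin 8, k.val % 2 = 0 → ∃ rs : ℕ × ℕ, cls k = [rs.1, rs.2] ∧
    parF4.rho rs.1 = rs.2 ∧ parF4.rho rs.2 = rs.1 ∧ parF4.lam rs.1 = 2 ∧ parF4.lam rs.2 = 1 ∧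
    parF4.commB chevF4 rs.1 rs.2 = true := by
  intro k hk
  refine ⟨((cls k).getD 0 0, (cls k).getD 1 0), ?_⟩
  revert k
  decide +kernel

/-- The data of a class of four roots. -/
def quadB (L : List ℕ) : Bool :=
  match L with
  | [a, b, ab, aab] =>
    parF4.rho a == b && parF4.rho b == a && parF4.rho ab == aab && parF4.rho aab == ab &&
    parF4.lam a == 2 && parF4.lam b == 1 && parF4.lam ab == 2 && parF4.lam aab == 1 &&
    parF4.commB chevF4 ab aab && parF4.commB chevF4 a ab && parF4.commB chevF4 b ab &&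
    parF4.commB chevF4 a aab && parF4.commB chevF4 b aab && b != a && b != chevF4.neg a &&
    (chevF4.commTerms a b).map (fun x => (x.1, x.2.1 % 2, x.2.2)) ==
      [(ab, 1, (1, 1)), (aab, 1, (2, 1))]
  | _ => false

theorem quads_ok : ∀ k : Fin 8, k.val % 2 = 1 → quadB (cls k) = true := by
  decide +kernel

theorem rel_ok : ∀ i j : Fin 8, i < j →
    bracketB (cls i) (cls j) (flat (i.val + 1) j.val) = true := by
  decide +kernel

theorem self_ok : ∀ k : Fin 8, bracketB (cls k) (cls k) (low k) = true ∧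
    relB (low k) (cls k) [] = true := by
  decide +kernel

theorem flat_coord : ∀ i j : Fin 9, coordB chevF4 (flat i.val j.val) = true := by
  decide +kernel

theorem flat_all : ∀ r : Fin 48, 24 ≤ r.val ↔ r.val ∈ flat 0 8 := by
  decide +kernel

theorem coch_ok : ∀ k q : Fin 8, ∀ r ∈ cls q,
    if k = q then wA k r = 0 ∧ wB k r = 0 else unitB (wA k r) (wB k r) = true := by
  decide +kernel

theorem triple_ok :
    relB (low 1) (cls 3) [] = true ∧ bracketB (cls 3) (cls 6) (low 5) = true ∧
    relB (low 1) (low 5) [] = true ∧ relB (low 3) (low 5) [] = true ∧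
    parF4.commB chevF4 36 32 = true ∧ parF4.commB chevF4 42 37 = true ∧
    parF4.commB chevF4 44 47 = true ∧ parF4.commB chevF4 42 44 = true ∧
    parF4.commB chevF4 36 47 = true ∧ parF4.commB chevF4 37 44 = true := by
  decide +kernel

theorem triple_terms :
    (chevF4.commTerms 37 36).map (fun x => (x.1, x.2.1 % 2, x.2.2)) = [(44, 1, (1, 1))] ∧
    (chevF4.commTerms 32 42).map (fun x => (x.1, x.2.1 % 2, x.2.2)) = [(47, 1, (1, 1))] ∧
    parF4.commB chevF4 37 47 = true ∧ cls 1 = [34, 26, 36, 42] ∧ cls 3 = [29, 41, 44, 47] ∧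
    cls 6 = [37, 32] ∧ 36 ≠ chevF4.neg 37 ∧ 42 ≠ chevF4.neg 32 := by
  decide +kernel

theorem move_ok : ∀ k : Fin 8, k.val % 2 = 1 →
    (∀ r ∈ cls k, ((wordO (moveW k)).map Fin.val).foldr (fun i x => chevF4.reflectRoot i x) r
      ∈ cls 3) ∧
    ∀ r ∈ low k, ((wordO (moveW k)).map Fin.val).foldr (fun i x => chevF4.reflectRoot i x) r
      ∈ low 3 := by
  decide +kernel

end CfsgLib.Known.RootLift.F4
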