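/-
The classes of positive roots of ²F₄: coordinates, commutators and torus elements.
-/
import Cfsg.Agent.Lib.Known.RootLift.F4Data
import Cfsg.Agent.Lib.Known.RootLift.Chain

set_option autoImplicit false
set_option maxRecDepth 20000
set_option maxHeartbeats 1000000
set_option linter.unusedSectionVars false

namespace CfsgLib.Known.RootLift.F4

open Cfsg.Lie CfsgLib.Chev CfsgLib.Known.RootLift

universe v

theorem quad {k : Fin 8} (hk : k.val % 2 = 1) :
    ∃ a b ab aab : ℕ, cls k = [a, b, ab, aab] ∧ low k = [ab, aab] ∧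
      (a < 48 ∧ b < 48 ∧ ab < 48 ∧ aab < 48) ∧
      (parF4.rho a = b ∧ parF4.rho b = a ∧ parF4.rho ab = aab ∧ parF4.rho aab = ab) ∧
      (parF4.lam a = 2 ∧ parF4.lam b = 1 ∧ parF4.lam ab = 2 ∧ parF4.lam aab = 1) ∧
      (parF4.commB chevF4 ab aab = true ∧ parF4.commB chevF4 a ab = true ∧
        parF4.commB chevF4 b ab = true ∧ parF4.commB chevF4 a aab = true ∧
        parF4.commB chevF4 b aab = true) ∧
      (b ≠ a ∧ b ≠ chevF4.neg a) ∧
      (chevF4.commTerms a b).map (fun x => (x.1, x.2.1 % 2, x.2.2)) =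
        [(ab, 1, (1, 1)), (aab, 1, (2, 1))] := by
  have h := quads_ok k hk
  have hlt := (cls_ok k).2.2.1
  rcases hc : cls k with - | ⟨a, - | ⟨b, - | ⟨ab, - | ⟨aab, - | ⟨_, _⟩⟩⟩⟩⟩ <;> rw [hc] at h <;>
    simp only [quadB, reduceCtorEq] at h
  simp only [Bool.and_eq_true, beq_iff_eq, bne_iff_ne] at h
  rw [hc] at hlt
  refine ⟨a, b, ab, aab, rfl, by rw [low, hc]; rfl,
    ⟨(hlt a (by simp)).1, (hlt b (by simp)).1, (hlt ab (by simp)).1, (hlt aab (by simp)).1⟩, ?_⟩
  tauto

variable {K : Type v} [Field K] [Fintype K] {m : ℕ} (C : TwF4.Ctx K m)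
include C

local notation "G" => twistedF4 K (2 ^ m)

theorem coef_two {r : ℕ} (h : parF4.lam r = 2) (t : K) : parF4.coef C.f r t = C.f t ^ 2 := by
  simp [TwPar.coef, h, show parF4.eps r = 1 from rfl]

theorem coef_one {r : ℕ} (h : parF4.lam r = 1) (t : K) : parF4.coef C.f r t = C.f t := by
  simp [TwPar.coef, h, show parF4.eps r = 1 from rfl]

/-- The image of a word along a class. -/
def imgWord (k : ℕ) : List K → List K
  | [x, y] => if k % 2 = 0 then [C.f y, C.f x ^ 2] else [x, y]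
  | [x, y, v, w] => [C.f y, C.f x ^ 2, C.f y * C.f x ^ 2 + C.f w, C.f y ^ 2 * C.f x ^ 2 + C.f v ^ 2]
  | ts => ts

theorem swap_ab {k : Fin 8} {a b ab aab : ℕ} (hne : b ≠ a ∧ b ≠ chevF4.neg a)
    (ha : a < 48) (hb : b < 48) (hcl : cls k = [a, b, ab, aab])
    (hT : (chevF4.commTerms a b).map (fun x => (x.1, x.2.1 % 2, x.2.2)) =
      [(ab, 1, (1, 1)), (aab, 1, (2, 1))]) (A B : K) :
    xU chevF4 b B * xU chevF4 a A = xU chevF4 a A * xU chevF4 b B *
      (xU chevF4 ab (A * B) * xU chevF4 aab (A ^ 2 * B)) := by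
  rw [DataF4.facts.xU_comm C.sig.hC ha hb hne.1 hne.2 A B]
  congr 1
  simp only [cwR]
  generalize chevF4.commTerms a b = L at hT ⊢
  rcases L with - | ⟨⟨k1, z1, i1, j1⟩, - | ⟨⟨k2, z2, i2, j2⟩, - | ⟨_, _⟩⟩⟩ <;> simp at hT
  obtain ⟨⟨rfl, h1, rfl, rfl⟩, rfl, h2, rfl, rfl⟩ := hT
  simp [wU, C.intCast_odd h1, C.intCast_odd h2, C.neg_eq]

theorem img_cls (k : Fin 8) (ts : List K) (hts : ts.length = (cls k).length) :
    (imgWord C k ts).length = ts.length ∧
      Img C.σ (wU chevF4 ((cls k).zip ts)) (wU chevF4 ((cls k).zip (imgWord C k ts))) := by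
  rcases Nat.mod_two_eq_zero_or_one k.val with hk | hk
  · obtain ⟨⟨r, s⟩, hc, p1, p2, l1, l2, hcomm⟩ := pairs_ok k hk
    rw [hc] at hts
    obtain ⟨x, y, rfl⟩ := List.length_eq_two.1 hts
    have hlt := (cls_ok k).2.2.1
    rw [hc] at hlt
    have hr := (hlt r (by simp)).1
    have hs := (hlt s (by simp)).1
    refine ⟨by simp [imgWord, hk], ?_⟩
    have hi := (C.sig.img_xU hr x).mul (C.sig.img_xU hs y)
    dsimp only at p1 p2 l1 l2 hcomm
    rw [p1, p2, coef_two C l1, coef_one C l2,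
      ← (C.sig.commute_xU hr hs hcomm (C.f y) (C.f x ^ 2)).eq] at hi
    simpa [wU, imgWord, hk, hc] using hi
  · obtain ⟨a, b, ab, aab, hc, -, ⟨ha, hb, hab, haab⟩, ⟨r1, r2, r3, r4⟩, ⟨l1, l2, l3, l4⟩,
      ⟨k34, -⟩, hne, hT⟩ := quad hk
    rw [hc] at hts
    rcases ts with - | ⟨x, - | ⟨y, - | ⟨v, - | ⟨w, - | ⟨_, _⟩⟩⟩⟩⟩ <;> simp at hts
    refine ⟨rfl, ?_⟩
    have hi := ((C.sig.img_xU ha x).mul (C.sig.img_xU hb y)).mul
      ((C.sig.img_xU hab v).mul (C.sig.img_xU haab w))
    rw [r1, r2, r3, r4, coef_two C l1, coef_one C l2, coef_two C l3, coef_one C l4,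
      swap_ab C hne ha hb hc hT] at hi
    have hcm : ∀ s t : K, Commute (xU chevF4 aab s) (xU chevF4 ab t) := fun s t =>
      (C.sig.commute_xU hab haab k34 t s).symm
    rw [(hcm (C.f v ^ 2) (C.f w)).eq, mul_assoc (xU chevF4 a _ * _),
      (hcm (C.f y ^ 2 * C.f x ^ 2) (C.f w)).mul_mul_mul_comm,
      DataF4.facts.xU_add hab, DataF4.facts.xU_add haab] at hi
    simpa [wU, imgWord, hc, mul_assoc] using hi

/-- The subgroup of the fixed elements of some roots. -/
noncomputable def sub (_C : TwF4.Ctx K m) (L : List ℕ) : Subgroup ↥G :=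
  (rootClosure chevF4 K (· ∈ L)).subgroupOf G

theorem mem_sub {L : List ℕ} {g : ↥G} :
    g ∈ sub C L ↔ (g : GL chevF4.Idx K) ∈ rootClosure chevF4 K (· ∈ L) := Iff.rfl

theorem sub_nil {g : ↥G} (h : g ∈ sub C ([] : List ℕ)) : g = 1 := by
  obtain ⟨ts, hts, e⟩ := DataF4.facts.exists_coords C.sig.hC (L := []) rfl _ ((mem_sub C).1 h)
  exact Subtype.ext (by simpa [wU] using e)

theorem mem_G_of_fix {L : List ℕ} (hL : coordB chevF4 L = true) {g : GL chevF4.Idx K}
    (hg : g ∈ fixS C.σ) (h : g ∈ rootClosure chevF4 K (· ∈ L)) : g ∈ G :=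
  C.sys.posU_le ⟨hg, rootClosure_mono (fun r _ hr => (Facts.coord_lt hL r hr).2) h⟩

theorem fix_coords {k : Fin 8} {g : ↥G} {ts : List K} (hts : ts.length = (cls k).length)
    (e : (g : GL chevF4.Idx K) = wU chevF4 ((cls k).zip ts)) : imgWord C k ts = ts := by
  obtain ⟨hl, hi⟩ := img_cls C k ts hts
  have := mem_fixS.1 (C.sys.le_fix g.2)
  rw [e] at this
  exact DataF4.facts.coords_unique C.sig.hC (cls_ok k).1 (hl.trans hts) hts (hi.unique this)

theorem exists_word (k : Fin 8) {ts : List K} (hts : ts.length = (cls k).length)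
    (h : imgWord C k ts = ts) : ∃ g : ↥G, g ∈ sub C (cls k) ∧
      (g : GL chevF4.Idx K) = wU chevF4 ((cls k).zip ts) := by
  obtain ⟨-, hi⟩ := img_cls C k ts hts
  rw [h] at hi
  have hm : wU chevF4 ((cls k).zip ts) ∈ rootClosure chevF4 K (· ∈ cls k) :=
    Facts.wU_mem_closure fun r hr => ((cls_ok k).2.2.1 r hr).1
  exact ⟨⟨_, mem_G_of_fix C (cls_ok k).1 (mem_fixS.2 hi) hm⟩, hm, rfl⟩

theorem flat_split (a : Fin 8) {b : ℕ} (h : a.val < b) : flat a b = cls a ++ flat (a.val + 1) b := by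
  rw [flat, flat, show b - a.val = b - (a.val + 1) + 1 by omega, List.range'_succ, List.flatMap_cons]

/-- Fixed elements of consecutive classes are products of elements of the classes. -/
theorem mem_flat {a b : ℕ} (hb : b ≤ 8) {g : ↥G} (hg : g ∈ sub C (flat a b)) :
    g ∈ Subgroup.closure {x : ↥G | ∃ k : Fin 8, a ≤ k.val ∧ k.val < b ∧ x ∈ sub C (cls k)} := by
  suffices h : ∀ n a, b - a = n → ∀ ts : List K, ts.length = (flat a b).length →
      ∃ ts' : List K, ts'.length = ts.length ∧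
        Img C.σ (wU chevF4 ((flat a b).zip ts)) (wU chevF4 ((flat a b).zip ts')) ∧
        (ts' = ts → wU chevF4 ((flat a b).zip ts) ∈ (Subgroup.closure {x : ↥G |
          ∃ k : Fin 8, a ≤ k.val ∧ k.val < b ∧ x ∈ sub C (cls k)}).map (twistedF4 K (2 ^ m)).subtype) by
    by_cases hab : a ≤ b
    · have hco := flat_coord ⟨a, by omega⟩ ⟨b, by omega⟩
      obtain ⟨ts, hts, e⟩ := DataF4.facts.exists_coords C.sig.hC hco _ ((mem_sub C).1 hg)
      obtain ⟨ts', hl, hi, hH⟩ := h _ a rfl ts hts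
      have h2 := mem_fixS.1 (C.sys.le_fix g.2)
      rw [e] at h2
      obtain ⟨y, hy, ey⟩ := hH (DataF4.facts.coords_unique C.sig.hC hco (hl.trans hts) hts
        (hi.unique h2))
      exact (Subtype.ext (ey.trans e.symm) : y = g) ▸ hy
    · rw [flat, show b - a = 0 by omega] at hg
      rw [sub_nil C (g := g) hg]
      exact one_mem _
  intro n
  induction n with
  | zero =>
    intro a hn ts hts
    rw [flat, hn] at hts ⊢
    simp only [List.range'_zero, List.flatMap_nil, List.length_nil, List.length_eq_zero_iff] at hts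
    subst hts
    exact ⟨[], rfl, by simpa [wU] using Img.one (σ := C.σ), fun _ => by simp [wU]⟩
  | succ n ih =>
    intro a hn ts hts
    have ha : a < 8 := by omega
    have hsp : flat a b = cls a ++ flat (a + 1) b := flat_split C ⟨a, ha⟩ (show a < b by omega)
    rw [hsp] at hts ⊢
    rw [List.length_append] at hts
    set t₁ := ts.take (cls a).length with ht₁
    set t₂ := ts.drop (cls a).length with ht₂
    have l1 : t₁.length = (cls a).length := by rw [ht₁, List.length_take]; omega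
    have l2 : t₂.length = (flat (a + 1) b).length := by rw [ht₂, List.length_drop]; omega
    have hts' : ts = t₁ ++ t₂ := (List.take_append_drop _ _).symm
    obtain ⟨hl, hi⟩ := img_cls C ⟨a, ha⟩ t₁ l1
    obtain ⟨t₂', hl', hi', hH'⟩ := ih (a + 1) (by omega) t₂ l2
    have hz : ∀ u v : List K, u.length = (cls a).length →
        wU chevF4 ((cls a ++ flat (a + 1) b).zip (u ++ v)) =
          wU chevF4 ((cls a).zip u) * wU chevF4 ((flat (a + 1) b).zip v) := by
      intro u v hu
      rw [List.zip_append hu.symm]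
      simp [wU]
    refine ⟨imgWord C a t₁ ++ t₂', by rw [hts', List.length_append, List.length_append, hl, hl'],
      ?_, fun ee => ?_⟩
    · rw [hts', hz _ _ l1, hz _ _ (hl.trans l1)]
      exact hi.mul hi'
    · rw [hts'] at ee ⊢
      obtain ⟨e1, e2⟩ := List.append_inj ee hl
      rw [hz _ _ l1]
      obtain ⟨x, hx, ex⟩ := exists_word C ⟨a, ha⟩ l1 e1
      obtain ⟨y, hy, ey⟩ := hH' e2
      have hy' : y ∈ Subgroup.closure {x : ↥G | ∃ k : Fin 8, a ≤ k.val ∧ k.val < b ∧ x ∈ sub C (cls k)} :=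
        by
          refine Subgroup.closure_mono ?_ hy
          rintro z ⟨k, k1, k2, hz⟩
          exact ⟨k, by omega, k2, hz⟩
      refine ⟨x * y, mul_mem (Subgroup.subset_closure ⟨⟨a, ha⟩, le_rfl, (show a < b by omega), hx⟩)
        hy', ?_⟩
      rw [map_mul, ey]
      exact congrArg (· * _) ex

/-! ### Commutators -/

theorem cm_gen {S T I : List ℕ} (h : relB S T I = true) (hS : ∀ s ∈ S, s < 48)
    (hT : ∀ r ∈ T, r < 48) {s r : ℕ} (hs : s ∈ S) (hr : r ∈ T) (a b : K) :
    cm (xU chevF4 s a) (xU chevF4 r b) ∈ rootClosure chevF4 K (· ∈ I) := by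
  simp only [relB, List.all_eq_true, Bool.or_eq_true, Bool.and_eq_true, beq_iff_eq, bne_iff_ne,
    List.contains_eq_mem, decide_eq_true_eq] at h
  have hF := DataF4.facts
  have hs' := hS s hs
  have hr' := hT r hr
  rcases em (s = r) with rfl | hne
  · rw [cm_eq_one.2 (by rw [hF.xU_add hs', hF.xU_add hs', add_comm])]
    exact one_mem _
  obtain ⟨h1, h2⟩ := (h s hs r hr).resolve_left hne
  have e := hF.xU_comm C.sig.hC hr' hs' hne h1 (-b) (-a)
  rw [← hF.xU_inv hr', ← hF.xU_inv hs'] at e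
  have hw : cm (xU chevF4 s a) (xU chevF4 r b) = wU chevF4 (cwR chevF4 r s (-b) (-a)) := by
    simp only [cm]
    rw [mul_assoc _ _ (xU chevF4 r b)⁻¹, e]
    group
  rw [hw]
  refine wU_mem fun z hz => ?_
  obtain ⟨c, hc, rfl⟩ := List.mem_map.1 hz
  show xU chevF4 c.1 _ ∈ _
  have hlt : c.1 < 48 := (hF.commTerms_wt hF.isWeight_omega hr' hs' hc).1
  rcases h2 c hc with h3 | h3
  · obtain ⟨j, hj⟩ := Int.dvd_of_emod_eq_zero h3
    rw [hj, Int.cast_mul, Int.cast_ofNat, C.two_eq_zero, zero_mul, zero_mul, zero_mul, hF.xU_zero hlt]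
    exact one_mem _
  · exact xU_mem_rootClosure hlt h3 _

theorem cm_lists {S T I : List ℕ} (h : bracketB S T I = true) (hS : ∀ s ∈ S, s < 48)
    (hT : ∀ r ∈ T, r < 48) (hI : ∀ r ∈ I, r < 48) {x y : GL chevF4.Idx K}
    (hx : x ∈ rootClosure chevF4 K (· ∈ S)) (hy : y ∈ rootClosure chevF4 K (· ∈ T)) :
    cm x y ∈ rootClosure chevF4 K (· ∈ I) := by
  simp only [bracketB, Bool.and_eq_true] at h
  obtain ⟨⟨hST, hSI⟩, hTI⟩ := h
  have norm : ∀ R : List ℕ, relB R I I = true → (∀ r ∈ R, r < 48) → ∀ r ∈ R, ∀ c : K,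
      ∀ z ∈ rootClosure chevF4 K (· ∈ I),
        xU chevF4 r c * z * (xU chevF4 r c)⁻¹ ∈ rootClosure chevF4 K (· ∈ I) := by
    intro R hR hlt r hr c z hz
    refine conj_closure (fun w hw => ?_) hz
    obtain ⟨p, d, hp, hpI, rfl⟩ := hw
    rw [conj_eq_cm_mul]
    exact mul_mem (cm_gen C hR hlt hI hr hpI c d) (xU_mem_rootClosure hp hpI d)
  refine Chain.cm_closure_mem ?_ ?_ ?_ hx hy
  · rintro g ⟨r, c, hr, hrS, rfl⟩ z hz
    refine ⟨norm S hSI hS r hrS c z hz, ?_⟩
    have := norm S hSI hS r hrS (-c) z hz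
    rwa [← DataF4.facts.xU_inv hr, inv_inv] at this
  · rintro g ⟨r, c, hr, hrT, rfl⟩ z hz
    refine ⟨norm T hTI hT r hrT c z hz, ?_⟩
    have := norm T hTI hT r hrT (-c) z hz
    rwa [← DataF4.facts.xU_inv hr, inv_inv] at this
  · rintro g ⟨s, a, -, hs, rfl⟩ k ⟨r, b, -, hr, rfl⟩
    exact cm_gen C hST hS hT hs hr a b

theorem cm_sub {S T I : List ℕ} (h : bracketB S T I = true) (hS : ∀ s ∈ S, s < 48)
    (hT : ∀ r ∈ T, r < 48) (hI : ∀ r ∈ I, r < 48) {x y : ↥G} (hx : x ∈ sub C S)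
    (hy : y ∈ sub C T) : cm x y ∈ sub C I := by
  rw [mem_sub]
  simpa [cm] using cm_lists C h hS hT hI hx hy

theorem commute_sub {S T : List ℕ} (h : relB S T [] = true) (hS : ∀ s ∈ S, s < 48)
    (hT : ∀ r ∈ T, r < 48) {x y : ↥G} (hx : x ∈ sub C S) (hy : y ∈ sub C T) : x * y = y * x := by
  rw [← cm_eq_one]
  refine sub_nil C (cm_sub C ?_ hS hT (by simp) hx hy)
  simp only [bracketB, h, Bool.true_and]
  simp [relB]

theorem flat_lt {a b : ℕ} (hb : b ≤ 8) : ∀ r ∈ flat a b, r < 48 := by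
  intro r hr
  simp only [flat, List.mem_flatMap, List.mem_range'_1] at hr
  obtain ⟨k, hk, hr⟩ := hr
  exact ((cls_ok ⟨k, by omega⟩).2.2.1 r hr).1

theorem low_lt (k : Fin 8) : ∀ r ∈ low k, r < 48 := fun r hr =>
  ((cls_ok k).2.2.1 r (List.mem_of_mem_drop hr)).1

theorem low_le (k : Fin 8) : sub C (low k) ≤ sub C (cls k) := fun _ hx =>
  rootClosure_mono (fun _ _ hr => List.mem_of_mem_drop hr) hx

/-! ### The elements of a class -/

/-- The coordinates of the element of a class with given parameters. -/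
def elW (k : ℕ) (t u : K) : List K :=
  if k % 2 = 0 then [C.f t, t] else [C.f t, t, C.f t * t + u, C.f u ^ 2]

theorem elW_ok (k : Fin 8) (t u : K) :
    (elW C k t u).length = (cls k).length ∧ imgWord C k (elW C k t u) = elW C k t u := by
  rcases Nat.mod_two_eq_zero_or_one k.val with hk | hk
  · obtain ⟨rs, hc, -⟩ := pairs_ok k hk
    simp [elW, hk, hc, imgWord, C.theta]
  · obtain ⟨a, b, ab, aab, hc, -⟩ := quad hk
    refine ⟨by simp [elW, hk, hc], ?_⟩
    simp only [elW, hk, one_ne_zero, if_false, imgWord, C.theta, C.theta', map_add, map_mul]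
    simp only [List.cons.injEq, and_true, true_and]
    · linear_combination (C.f (C.f t) * C.f t * C.f u + C.f t ^ 2 * t) * C.two_eq_zero +
        (C.f t ^ 2) * (C.theta t)

/-- The element of a class. -/
noncomputable def el (k : Fin 8) (t u : K) : ↥G :=
  (exists_word C k (elW_ok C k t u).1 (elW_ok C k t u).2).choose

theorem el_spec (k : Fin 8) (t u : K) : el C k t u ∈ sub C (cls k) ∧
    (el C k t u : GL chevF4.Idx K) = wU chevF4 ((cls k).zip (elW C k t u)) :=
  (exists_word C k (elW_ok C k t u).1 (elW_ok C k t u).2).choose_spec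

theorem el_val0 {k : Fin 8} (hk : k.val % 2 = 0) {r s : ℕ} (hc : cls k = [r, s]) (t u : K) :
    (el C k t u : GL chevF4.Idx K) = xU chevF4 r (C.f t) * xU chevF4 s t := by
  rw [(el_spec C k t u).2, hc]
  simp [elW, hk, wU]

theorem el_val1 {k : Fin 8} (hk : k.val % 2 = 1) {a b ab aab : ℕ} (hc : cls k = [a, b, ab, aab])
    (t u : K) : (el C k t u : GL chevF4.Idx K) = xU chevF4 a (C.f t) * xU chevF4 b t *
      (xU chevF4 ab (C.f t * t + u) * xU chevF4 aab (C.f u ^ 2)) := by
  rw [(el_spec C k t u).2, hc]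
  simp [elW, hk, wU, mul_assoc]

theorem exists_el (k : Fin 8) {g : ↥G} (hg : g ∈ sub C (cls k)) : ∃ t u, g = el C k t u := by
  obtain ⟨ts, hts, e⟩ := DataF4.facts.exists_coords C.sig.hC (cls_ok k).1 _ ((mem_sub C).1 hg)
  have hf := fix_coords C hts e
  suffices ∃ t u, ts = elW C k t u by
    obtain ⟨t, u, rfl⟩ := this
    exact ⟨t, u, Subtype.ext (e.trans (el_spec C k t u).2.symm)⟩
  rcases Nat.mod_two_eq_zero_or_one k.val with hk | hk
  · obtain ⟨rs, hc, -⟩ := pairs_ok k hk
    rw [hc] at hts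
    obtain ⟨x, y, rfl⟩ := List.length_eq_two.1 hts
    simp only [imgWord, hk, if_true, List.cons.injEq, and_true] at hf
    exact ⟨y, 0, by simp [elW, hk, hf.1]⟩
  · obtain ⟨a, b, ab, aab, hc, -⟩ := quad hk
    rw [hc] at hts
    rcases ts with - | ⟨x, - | ⟨y, - | ⟨v, - | ⟨w, - | ⟨_, _⟩⟩⟩⟩⟩ <;> simp at hts
    simp only [imgWord, List.cons.injEq, and_true] at hf
    obtain ⟨h1, h2, h3, -⟩ := hf
    refine ⟨y, C.f w, ?_⟩
    rw [h2] at h3
    simp only [elW, hk, one_ne_zero, if_false, h1, List.cons.injEq, and_true, true_and]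
    refine ⟨by rw [← h3, ← h1], ?_⟩
    rw [C.theta]

theorem el_inj (k : Fin 8) {t u t' u' : K} (h : el C k t u = el C k t' u') :
    t = t' ∧ (k.val % 2 = 1 → u = u') := by
  have e := congrArg Subtype.val h
  rw [(el_spec C k t u).2, (el_spec C k t' u').2] at e
  have := DataF4.facts.coords_unique C.sig.hC (cls_ok k).1 (elW_ok C k t u).1 (elW_ok C k t' u').1 e
  rcases Nat.mod_two_eq_zero_or_one k.val with hk | hk
  · simp only [elW, hk, if_true, List.cons.injEq, and_true] at this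
    exact ⟨this.2, fun h => by omega⟩
  · simp only [elW, hk, one_ne_zero, if_false, List.cons.injEq, and_true] at this
    obtain ⟨-, rfl, h3, -⟩ := this
    exact ⟨rfl, fun _ => add_left_cancel h3⟩

theorem el_low (k : Fin 8) (t u : K) : el C k t u ∈ sub C (low k) ↔ t = 0 := by
  rcases Nat.mod_two_eq_zero_or_one k.val with hk | hk
  · obtain ⟨⟨r, s⟩, hc, -⟩ := pairs_ok k hk
    have hlt := (cls_ok k).2.2.1
    rw [hc] at hlt
    rw [(cls_ok k).2.2.2 hk]
    constructor
    · intro h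
      have h1 := congrArg Subtype.val (sub_nil C h)
      rw [(el_spec C k t u).2] at h1
      have h0 : wU chevF4 ((cls k).zip [(0 : K), 0]) = 1 := by
        simp [hc, wU, DataF4.facts.xU_zero (hlt r (by simp)).1,
          DataF4.facts.xU_zero (hlt s (by simp)).1]
      have := DataF4.facts.coords_unique C.sig.hC (cls_ok k).1 (elW_ok C k t u).1
        (ts' := [(0 : K), 0]) (by simp [hc]) (h1.trans h0.symm)
      simp only [elW, hk, if_true, List.cons.injEq, and_true] at this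
      exact this.2
    · rintro rfl
      have : el C k 0 u = 1 := Subtype.ext (by
        rw [el_val0 C hk hc, map_zero, DataF4.facts.xU_zero (hlt r (by simp)).1,
          DataF4.facts.xU_zero (hlt s (by simp)).1, mul_one]
        rfl)
      rw [this]
      exact one_mem _
  · obtain ⟨a, b, ab, aab, hc, hl, ⟨ha, hb, hab, haab⟩, -⟩ := quad hk
    constructor
    · intro h
      obtain ⟨ts, hts, e⟩ := DataF4.facts.exists_coords C.sig.hC (cls_ok k).2.1 _ ((mem_sub C).1 h)
      rw [hl] at hts e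
      obtain ⟨v, w, rfl⟩ := List.length_eq_two.1 hts
      have e' : (el C k t u : GL chevF4.Idx K) = wU chevF4 ((cls k).zip [0, 0, v, w]) := by
        rw [e, hc]
        simp [wU, DataF4.facts.xU_zero ha, DataF4.facts.xU_zero hb]
      rw [(el_spec C k t u).2] at e'
      have := DataF4.facts.coords_unique C.sig.hC (cls_ok k).1 (elW_ok C k t u).1 (by simp [hc]) e'
      simp only [elW, hk, one_ne_zero, if_false, List.cons.injEq, and_true] at this
      exact this.2.1
    · rintro rfl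
      rw [mem_sub, el_val1 C hk hc, map_zero, DataF4.facts.xU_zero ha, DataF4.facts.xU_zero hb,
        one_mul, one_mul, hl]
      exact mul_mem (xU_mem_rootClosure hab (by simp) _) (xU_mem_rootClosure haab (by simp) _)

theorem el_mul_low (k : Fin 8) (t u u' : K) :
    el C k t u * el C k 0 u' = el C k t (u + u') := by
  refine Subtype.ext ?_
  rw [Subgroup.coe_mul]
  rcases Nat.mod_two_eq_zero_or_one k.val with hk | hk
  · obtain ⟨⟨r, s⟩, hc, -⟩ := pairs_ok k hk
    have hlt := (cls_ok k).2.2.1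
    rw [hc] at hlt
    rw [el_val0 C hk hc, el_val0 C hk hc, el_val0 C hk hc, map_zero,
      DataF4.facts.xU_zero (hlt r (by simp)).1, DataF4.facts.xU_zero (hlt s (by simp)).1, mul_one,
      mul_one]
  · obtain ⟨a, b, ab, aab, hc, hl, ⟨ha, hb, hab, haab⟩, -, -, ⟨k5, -⟩, -⟩ := quad hk
    rw [el_val1 C hk hc, el_val1 C hk hc, el_val1 C hk hc, map_zero, DataF4.facts.xU_zero ha,
      DataF4.facts.xU_zero hb, one_mul, one_mul, zero_mul, zero_add, mul_assoc,
      (C.sig.commute_xU hab haab k5 u' (C.f u ^ 2)).symm.mul_mul_mul_comm,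
      DataF4.facts.xU_add hab, DataF4.facts.xU_add haab, add_assoc, map_add, add_sq,
      C.two_eq_zero, zero_mul, zero_mul, add_zero]

theorem el_mul (k : Fin 8) (t t' : K) :
    (el C k (t + t') 0)⁻¹ * (el C k t 0 * el C k t' 0) ∈ sub C (low k) := by
  have hF := DataF4.facts
  rcases Nat.mod_two_eq_zero_or_one k.val with hk | hk
  · obtain ⟨⟨r, s⟩, hc, -, -, -, -, hcomm⟩ := pairs_ok k hk
    have hlt := (cls_ok k).2.2.1
    rw [hc] at hlt
    have hr := (hlt r (by simp)).1
    have hs := (hlt s (by simp)).1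
    have : el C k t 0 * el C k t' 0 = el C k (t + t') 0 := Subtype.ext (by
      rw [Subgroup.coe_mul, el_val0 C hk hc, el_val0 C hk hc, el_val0 C hk hc,
        (C.sig.commute_xU hr hs hcomm _ _).symm.mul_mul_mul_comm, hF.xU_add hr, hF.xU_add hs,
        map_add])
    rw [this, inv_mul_cancel]
    exact one_mem _
  · obtain ⟨a, b, ab, aab, hc, hl, ⟨ha, hb, hab, haab⟩, -, -, ⟨k5, c1, c2, c3, c4⟩, hne, hT⟩ :=
      quad hk
    obtain ⟨T, U, e⟩ := exists_el C k (mul_mem (el_spec C k t 0).1 (el_spec C k t' 0).1)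
    have hcen : ∀ p q : K, ∀ z ∈ ({a, b} : Set ℕ), ∀ d : K, Commute (xU chevF4 ab p * xU chevF4 aab q)
        (xU chevF4 z d) := by
      rintro p q z (rfl | rfl) d
      · exact ((C.sig.commute_xU ha hab c1 d p).symm).mul_left (C.sig.commute_xU ha haab c3 d q).symm
      · exact ((C.sig.commute_xU hb hab c2 d p).symm).mul_left (C.sig.commute_xU hb haab c4 d q).symm
    have hw : ∃ v w, ((el C k t 0 * el C k t' 0 : ↥G) : GL chevF4.Idx K) =
        wU chevF4 ((cls k).zip [C.f t + C.f t', t + t', v, w]) := by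
      refine ⟨C.f t' * t + (C.f t * t + 0) + (C.f t' * t' + 0),
        C.f t' ^ 2 * t + C.f 0 ^ 2 + C.f 0 ^ 2, ?_⟩
      rw [Subgroup.coe_mul, el_val1 C hk hc, el_val1 C hk hc, hc]
      set P := xU chevF4 ab (C.f t * t + 0) * xU chevF4 aab (C.f (0 : K) ^ 2) with hPd
      set Q := xU chevF4 ab (C.f t' * t' + 0) * xU chevF4 aab (C.f (0 : K) ^ 2) with hQd
      clear_value P Q
      have h1 : xU chevF4 a (C.f t) * xU chevF4 b t * P * (xU chevF4 a (C.f t') * xU chevF4 b t' * Q) =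
          xU chevF4 a (C.f t) * (xU chevF4 b t * xU chevF4 a (C.f t')) * xU chevF4 b t' * (P * Q) := by
        have h2 := ((hcen (C.f t * t + 0) (C.f (0 : K) ^ 2) a (by simp) (C.f t')).mul_right
          (hcen (C.f t * t + 0) (C.f (0 : K) ^ 2) b (by simp) t')).eq
        rw [← hPd] at h2
        calc _ = xU chevF4 a (C.f t) * xU chevF4 b t *
              (P * (xU chevF4 a (C.f t') * xU chevF4 b t')) * Q := by group
          _ = _ := by rw [h2]; group
      rw [h1, swap_ab C hne ha hb hc hT]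
      set R := xU chevF4 ab (C.f t' * t) * xU chevF4 aab (C.f t' ^ 2 * t) with hRd
      clear_value R
      have h3 : xU chevF4 a (C.f t) * (xU chevF4 a (C.f t') * xU chevF4 b t * R) * xU chevF4 b t' *
          (P * Q) = (xU chevF4 a (C.f t) * xU chevF4 a (C.f t')) * (xU chevF4 b t * xU chevF4 b t') *
            (R * P * Q) := by
        have h4 := (hcen (C.f t' * t) (C.f t' ^ 2 * t) b (by simp) t').eq
        rw [← hRd] at h4
        calc _ = xU chevF4 a (C.f t) * xU chevF4 a (C.f t') * xU chevF4 b t *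
              (R * xU chevF4 b t') * (P * Q) := by group
          _ = _ := by rw [h4]; group
      rw [h3, hF.xU_add ha, hF.xU_add hb]
      simp only [hRd, hPd, hQd]
      rw [(C.sig.commute_xU hab haab k5 _ _).symm.mul_mul_mul_comm, hF.xU_add hab, hF.xU_add haab,
        (C.sig.commute_xU hab haab k5 _ _).symm.mul_mul_mul_comm, hF.xU_add hab, hF.xU_add haab]
      simp [wU, mul_assoc]
    obtain ⟨v, w, hw⟩ := hw
    rw [e, (el_spec C k T U).2] at hw
    have hTt : T = t + t' := by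
      have := DataF4.facts.coords_unique C.sig.hC (cls_ok k).1 (elW_ok C k T U).1 (by simp [hc]) hw
      simp only [elW, hk, one_ne_zero, if_false, List.cons.injEq, and_true] at this
      exact this.2.1
    rw [e, hTt, show el C k (t + t') U = el C k (t + t') 0 * el C k 0 U by
      rw [el_mul_low, zero_add], inv_mul_cancel_left]
    exact (el_low C k 0 U).2 rfl

theorem el_low_cov (k : Fin 8) {g : ↥G} (hg : g ∈ sub C (low k)) : ∃ u, g = el C k 0 u := by
  obtain ⟨t, u, rfl⟩ := exists_el C k (low_le C k hg)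
  obtain rfl := (el_low C k t u).1 hg
  exact ⟨u, rfl⟩

theorem el_cov (k : Fin 8) {g : ↥G} (hg : g ∈ sub C (cls k)) :
    ∃ t, (el C k t 0)⁻¹ * g ∈ sub C (low k) := by
  obtain ⟨t, u, rfl⟩ := exists_el C k hg
  refine ⟨t, ?_⟩
  rw [show el C k t u = el C k t 0 * el C k 0 u by rw [el_mul_low, zero_add], inv_mul_cancel_left]
  exact (el_low C k 0 u).2 rfl

end CfsgLib.Known.RootLift.F4
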