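/-
The rank one group of type Sz inside ²F₄ acting on four short root vectors.
-/
import Cfsg.Agent.Lib.Known.RootLift.F4Classes
import Cfsg.Agent.Lib.Known.RootLift.TwOpp
import Cfsg.Agent.Lib.Suzuki.Dynamics

set_option autoImplicit false
set_option maxRecDepth 100000
set_option maxHeartbeats 1000000
set_option linter.unusedSectionVars false
set_option Elab.async false

namespace CfsgLib.Known.RootLift.F4

open Cfsg.Lie CfsgLib.Chev CfsgLib.Known.RootLift

universe v

/-- The four short roots whose sum with the roots of the class stays among them. -/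
def sRoot : Fin 4 → Fin chevF4.nroots :=
  ![⟨37, by decide⟩, ⟨35, by decide⟩, ⟨34, by decide⟩, ⟨33, by decide⟩]

/-- The roots of the rank one group, with their edges among the four roots. -/
def edge (r : ℕ) (i j : Fin 4) : Bool :=
  (r == 27 && ((i == 0 && j == 1) || (i == 2 && j == 3))) ||
  (r == 25 && (i == 1 && j == 2)) ||
  (r == 28 && ((i == 0 && j == 2) || (i == 1 && j == 3))) ||
  (r == 30 && (i == 0 && j == 3)) ||
  (r == 20 && ((i == 1 && j == 0) || (i == 3 && j == 2))) ||
  (r == 22 && (i == 2 && j == 1)) ||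
  (r == 19 && ((i == 2 && j == 0) || (i == 3 && j == 1))) ||
  (r == 17 && (i == 3 && j == 0))

/-- The roots of the rank one group. -/
def rk1 : List ℕ := [27, 25, 28, 30, 20, 22, 19, 17]

theorem block_tables : ∀ r ∈ rk1, r < chevF4.nroots ∧
    ∀ j : Fin 4, (sRoot j).val ≠ r ∧ (sRoot j).val ≠ chevF4.negIdx.getD r 0 ∧
      ∀ u : Fin chevF4.nroots,
        (chevF4.chainCoeff r (sRoot j).val u.val).map (fun km => (km.1, km.2 % 2)) =
          if ((List.finRange 4).any fun i => decide (u = sRoot i) && edge r i j) = true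
          then [(1, 1)] else [] := by
  decide +kernel

theorem sRoot_inj : ∀ i j : Fin 4, sRoot i = sRoot j → i = j := by decide +kernel

theorem wO_sRoot : ∀ j : Fin 4,
    ((TwF4.O ⟨1, by decide⟩).word.map Fin.val).foldr (fun i x => chevF4.reflectRoot i x)
      (sRoot j).val = (sRoot j.rev).val := by
  decide +kernel

variable (K : Type v) [Field K]

/-- Matrices sending the four root vectors into their span. -/
def Stab (g : GL chevF4.Idx K) : Prop :=
  ∀ (a : chevF4.Idx) (j : Fin 4), (∀ i : Fin 4, a ≠ Sum.inr (sRoot i)) →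
    (g : Matrix chevF4.Idx chevF4.Idx K) a (Sum.inr (sRoot j)) = 0

variable {K}

theorem sum_stab {g : GL chevF4.Idx K} (hg : Stab K g) (j : Fin 4) (F : chevF4.Idx → K) :
    ∑ b, F b * (g : Matrix chevF4.Idx chevF4.Idx K) b (Sum.inr (sRoot j)) =
      ∑ i : Fin 4, F (Sum.inr (sRoot i)) *
        (g : Matrix chevF4.Idx chevF4.Idx K) (Sum.inr (sRoot i)) (Sum.inr (sRoot j)) := by
  classical
  refine (Fintype.sum_of_injective (fun i : Fin 4 => (Sum.inr (sRoot i) : chevF4.Idx))
    (fun a b e => sRoot_inj a b (Sum.inr_injective e)) _ _ (fun b hb => ?_) fun i => rfl).symm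
  rw [hg b j (fun i e => hb ⟨i, e.symm⟩), mul_zero]

theorem Stab.one : Stab K (1 : GL chevF4.Idx K) := fun a j ha => by
  rw [Units.val_one, Matrix.one_apply_ne (ha j)]

theorem Stab.mul {g h : GL chevF4.Idx K} (hg : Stab K g) (hh : Stab K h) : Stab K (g * h) :=
  fun a j ha => by
    rw [Units.val_mul, Matrix.mul_apply, sum_stab hh j]
    exact Finset.sum_eq_zero fun i _ => by rw [hg a i ha, zero_mul]

variable (K) [Finite K]

/-- The stabiliser of the span of the four root vectors. -/
def stabS : Subgroup (GL chevF4.Idx K) where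
  carrier := {g | Stab K g}
  one_mem' := Stab.one
  mul_mem' := Stab.mul
  inv_mem' := by
    intro g hg
    have hpow : ∀ n : ℕ, Stab K (g ^ n) := fun n => by
      induction n with
      | zero => rw [pow_zero]; exact Stab.one
      | succ n ih => rw [pow_succ]; exact ih.mul hg
    obtain ⟨n, hn⟩ : ∃ n, orderOf g = n + 1 :=
      ⟨orderOf g - 1, by have := orderOf_pos g; omega⟩
    rw [Set.mem_setOf_eq, inv_eq_of_mul_eq_one_right (b := g ^ n)
      (by rw [← pow_succ', ← hn, pow_orderOf_eq_one])]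
    exact hpow n

/-- The action on the four root vectors. -/
noncomputable def blk : ↥(stabS K) →* GL (Fin 4) K :=
  MonoidHom.toHomUnits
    { toFun := fun g => Matrix.of fun i j =>
        ((g : GL chevF4.Idx K) : Matrix chevF4.Idx chevF4.Idx K) (Sum.inr (sRoot i)) (Sum.inr (sRoot j))
      map_one' := by
        ext i j
        rw [Matrix.of_apply, OneMemClass.coe_one, Units.val_one, Matrix.one_apply, Matrix.one_apply]
        exact if_congr ⟨fun e => sRoot_inj i j (Sum.inr_injective e), fun e => by rw [e]⟩ rfl rfl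
      map_mul' := fun g h => by
        ext i j
        rw [Matrix.mul_apply, Matrix.of_apply, Subgroup.coe_mul, Units.val_mul, Matrix.mul_apply,
          sum_stab h.2 j]
        rfl }

theorem blk_apply (g : ↥(stabS K)) (i j : Fin 4) : (blk K g : Matrix (Fin 4) (Fin 4) K) i j =
    ((g : GL chevF4.Idx K) : Matrix chevF4.Idx chevF4.Idx K) (Sum.inr (sRoot i)) (Sum.inr (sRoot j)) :=
  rfl

variable {K}

theorem xU_entry (h2 : (2 : K) = 0) {r : ℕ} (hr : r ∈ rk1) (t : K) (a : chevF4.Idx) (j : Fin 4) :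
    (xU chevF4 r t : Matrix chevF4.Idx chevF4.Idx K) a (Sum.inr (sRoot j)) =
      (if a = Sum.inr (sRoot j) then 1 else 0) +
        if ((List.finRange 4).any fun i => decide (a = Sum.inr (sRoot i)) && edge r i j) = true
        then t else 0 := by
  obtain ⟨hlt, hj⟩ := block_tables r hr
  obtain ⟨h1, hn, hc⟩ := hj j
  rw [DataF4.facts.xU_val hlt, ChevalleyDatum.x, dif_pos hlt]
  simp only [ChevalleyDatum.xMat, Matrix.of_apply]
  rw [if_neg (fun e => h1 (congrArg Fin.val e)), if_neg (by exact hn)]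
  rcases a with i | u
  · simp
  simp only [Sum.inr.injEq]
  congr 1
  have := hc u
  generalize chevF4.chainCoeff r (sRoot j).val u.val = M at this ⊢
  split at this
  · rename_i hh
    rw [if_pos hh]
    rcases M with - | ⟨⟨k1, z1⟩, - | ⟨_, _⟩⟩ <;> simp at this
    obtain ⟨rfl, hz⟩ := this
    have hz' : (z1 : K) = 1 := by
      rw [← Int.emod_add_ediv_mul z1 2, hz]
      push_cast
      rw [h2, mul_zero, add_zero]
    simp [hz']
  · rename_i hh
    rw [if_neg hh]
    rcases M with - | ⟨_, _⟩ <;> simp at this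
    simp

theorem xU_mem_stab (h2 : (2 : K) = 0) {r : ℕ} (hr : r ∈ rk1) (t : K) :
    xU chevF4 r t ∈ stabS K := by
  intro a j ha
  rw [xU_entry h2 hr, if_neg (ha j), if_neg, add_zero]
  simp [ha]

/-- The matrix of a root element on the four root vectors. -/
def xB (r : ℕ) (t : K) : Matrix (Fin 4) (Fin 4) K :=
  Matrix.of fun i j => (if i = j then 1 else 0) + if edge r i j then t else 0

theorem blk_xU (h2 : (2 : K) = 0) {r : ℕ} (hr : r ∈ rk1) (t : K) :
    (blk K ⟨xU chevF4 r t, xU_mem_stab h2 hr t⟩ : Matrix (Fin 4) (Fin 4) K) = xB r t := by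
  ext i j
  rw [blk_apply, xU_entry h2 hr, xB, Matrix.of_apply]
  have he : ∀ k : Fin 4, (Sum.inr (sRoot i) : chevF4.Idx) = Sum.inr (sRoot k) ↔ i = k :=
    fun k => ⟨fun e => sRoot_inj i k (Sum.inr_injective e), fun e => by rw [e]⟩
  congr 1
  · exact if_congr (he j) rfl rfl
  · refine if_congr ?_ rfl rfl
    simp [he]

theorem stab_dU (χ : ℕ → Kˣ) : dU chevF4 χ ∈ stabS K := by
  intro a j ha
  rw [dU_val, diagC, Matrix.diagonal_apply_ne _ (ha j)]

theorem blk_word (h2 : (2 : K) = 0) : ∀ {L : List (ℕ × K)}, (∀ p ∈ L, p.1 ∈ rk1) →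
    ∃ h : wU chevF4 L ∈ stabS K, (blk K ⟨wU chevF4 L, h⟩ : Matrix (Fin 4) (Fin 4) K) =
      (L.map fun p => xB p.1 p.2).prod
  | [], _ => ⟨by rw [show wU chevF4 ([] : List (ℕ × K)) = 1 from rfl]; exact one_mem _, by
      have : (⟨wU chevF4 ([] : List (ℕ × K)), _⟩ : ↥(stabS K)) = 1 := Subtype.ext rfl
      rw [this, map_one, List.map_nil, List.prod_nil, Units.val_one]⟩
  | p :: L, h => by
    obtain ⟨hm, e⟩ := blk_word h2 (L := L) fun q hq => h q (List.mem_cons_of_mem _ hq)
    have hp := xU_mem_stab h2 (h p List.mem_cons_self) p.2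
    refine ⟨by rw [wU_cons]; exact mul_mem hp hm, ?_⟩
    have : ∀ hx : wU chevF4 (p :: L) ∈ stabS K,
        (⟨wU chevF4 (p :: L), hx⟩ : ↥(stabS K)) = ⟨_, hp⟩ * ⟨_, hm⟩ :=
      fun _ => Subtype.ext (wU_cons _ _)
    rw [this, map_mul, Units.val_mul, e, blk_xU h2 (h p List.mem_cons_self)]
    simp

end CfsgLib.Known.RootLift.F4
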