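/-
Central extensions of ²F₄(q), q ≥ 8: the unipotent subgroup splits.
-/
import Cfsg.Agent.Lib.Known.RootLift.F4Classes

set_option autoImplicit false
set_option maxRecDepth 20000
set_option maxHeartbeats 1000000
set_option linter.unusedSectionVars false

namespace CfsgLib.Known.RootLift.F4

open Cfsg.Lie CfsgLib.Chev CfsgLib.Known.RootLift
open CfsgLib.Chev.TwistInvol.F4 (wordO exists_n)

universe v w

variable {K : Type v} [Field K] [Fintype K] {m : ℕ} (C : TwF4.Ctx K m)
include C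

local notation "G" => twistedF4 K (2 ^ m)

/-- The character of a root on the torus. -/
noncomputable def chp (r : ℕ) : Kˣ × Kˣ →* Kˣ :=
  MonoidHom.mk' (fun p => C.fu p.1 ^ chevF4.cartan 0 r * C.fu p.2 ^ chevF4.cartan 1 r *
    p.2 ^ chevF4.cartan 2 r * p.1 ^ chevF4.cartan 3 r) fun x y => by
    simp only [Prod.fst_mul, Prod.snd_mul, map_mul, mul_zpow]
    apply Additive.ofMul.injective
    simp only [ofMul_mul, ofMul_zpow]
    abel

theorem par_conj (p : Kˣ × Kˣ) {r : ℕ} (hr : r < 48) (t : K) :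
    C.par p * xU chevF4 r t * (C.par p)⁻¹ = xU chevF4 r ((chp C r p : K) * t) := by
  show hT chevF4 (TwF4.four (C.fu p.1) (C.fu p.2) p.2 p.1) * _ *
    (hT chevF4 (TwF4.four (C.fu p.1) (C.fu p.2) p.2 p.1))⁻¹ = _
  rw [DataF4.facts.hT_conj_xU _ hr]
  congr 3
  simp [show chevF4.rank = 4 from rfl, Finset.prod_range_succ, TwF4.four, chp]

/-- The torus element of the group. -/
noncomputable def torG (p : Kˣ × Kˣ) : ↥G := ⟨C.par p, (C.range_le ⟨p, rfl⟩).2⟩

theorem torG_comm (p p' : Kˣ × Kˣ) : torG C p * torG C p' = torG C p' * torG C p :=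
  Subtype.ext (by
    show C.par p * C.par p' = C.par p' * C.par p
    rw [← map_mul, mul_comm, map_mul])

theorem conj_word (p : Kˣ × Kˣ) : ∀ (L : List ℕ), (∀ r ∈ L, r < 48) → ∀ ts : List K,
    C.par p * wU chevF4 (L.zip ts) * (C.par p)⁻¹ =
      wU chevF4 (L.zip (List.zipWith (fun r t => (chp C r p : K) * t) L ts))
  | [], _, ts => by simp [wU]
  | r :: L, h, [] => by simp [wU]
  | r :: L, h, t :: ts => by
    rw [List.zip_cons_cons, List.zipWith_cons_cons, List.zip_cons_cons, wU_cons, wU_cons,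
      ← conj_word p L (fun s hs => h s (List.mem_cons_of_mem _ hs)) ts,
      ← par_conj C p (h r List.mem_cons_self)]
    group

theorem torG_sub (p : Kˣ × Kˣ) {L : List ℕ} {g : ↥G} (hg : g ∈ sub C L) :
    torG C p * g * (torG C p)⁻¹ ∈ sub C L := by
  rw [mem_sub]
  simp only [Subgroup.coe_mul, Subgroup.coe_inv]
  refine conj_closure (fun w hw => ?_) ((mem_sub C).1 hg)
  obtain ⟨r, t, hr, hrL, rfl⟩ := hw
  show C.par p * xU chevF4 r t * (C.par p)⁻¹ ∈ _
  rw [par_conj C p hr]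
  exact xU_mem_rootClosure hr hrL _

theorem torG_fix (p : Kˣ × Kˣ) {L : List ℕ} (h : ∀ r ∈ L, chp C r p = 1) {g : ↥G}
    (hg : g ∈ sub C L) : torG C p * g * (torG C p)⁻¹ = g := by
  have key : rootClosure chevF4 K (· ∈ L) ≤ Subgroup.centralizer {C.par p} := by
    refine (Subgroup.closure_le _).2 ?_
    rintro x ⟨r, t, hr, hrL, rfl⟩
    rw [SetLike.mem_coe, Subgroup.mem_centralizer_singleton_iff, ← mul_inv_eq_iff_eq_mul,
      mul_inv_eq_iff_eq_mul]
    have := par_conj C p (r := r) hr t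
    rw [h r hrL, Units.val_one, one_mul, mul_inv_eq_iff_eq_mul] at this
    exact this.symm
  have h2 := Subgroup.mem_centralizer_singleton_iff.1 (key ((mem_sub C).1 hg))
  refine Subtype.ext ?_
  show C.par p * (g : GL chevF4.Idx K) * (C.par p)⁻¹ = g
  rw [← h2, mul_inv_cancel_right]

theorem torG_fpf (p : Kˣ × Kˣ) {L : List ℕ} (hco : coordB chevF4 L = true)
    (h : ∀ r ∈ L, chp C r p ≠ 1) {g : ↥G} (hg : g ∈ sub C L)
    (e : torG C p * g * (torG C p)⁻¹ = g) : g = 1 := by
  have hlt : ∀ r ∈ L, r < 48 := fun r hr => (Facts.coord_lt hco r hr).1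
  obtain ⟨ts, hts, eg⟩ := DataF4.facts.exists_coords C.sig.hC hco _ ((mem_sub C).1 hg)
  have e' : C.par p * (g : GL chevF4.Idx K) * (C.par p)⁻¹ = g := congrArg Subtype.val e
  rw [eg, conj_word C p L hlt ts] at e'
  have hz := DataF4.facts.coords_unique C.sig.hC hco (by simp [hts]) hts e'
  refine Subtype.ext (eg.trans ?_)
  clear hg eg e' e hco
  induction L generalizing ts with
  | nil => simp [wU]
  | cons r L ih =>
    cases ts with
    | nil => simp at hts
    | cons t ts =>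
      obtain ⟨h1, h2⟩ := List.cons.inj hz
      have ht : t = 0 := by
        by_contra hne
        exact h r List.mem_cons_self (Units.ext (mul_eq_right₀ hne |>.1 h1))
      subst ht
      rw [List.zip_cons_cons, wU_cons, DataF4.facts.xU_zero (hlt r List.mem_cons_self), one_mul]
      exact ih (fun s hs => h s (List.mem_cons_of_mem _ hs))
        (fun s hs => hlt s (List.mem_cons_of_mem _ hs)) ts (by simpa using hts) h2

/-- The one-parameter subgroups of the torus. -/
noncomputable def one (k : ℕ) : Kˣ →* Kˣ × Kˣ :=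
  MonoidHom.mk' (fun x => (C.fu x ^ (coch k).getD 0 0 * x ^ (coch k).getD 1 0,
    C.fu x ^ (coch k).getD 2 0 * x ^ (coch k).getD 3 0)) fun x y => by
    simp only [map_mul, mul_zpow, Prod.mk_mul_mk]
    exact Prod.ext (mul_mul_mul_comm _ _ _ _) (mul_mul_mul_comm _ _ _ _)

theorem chp_sq (k r : ℕ) (x : Kˣ) :
    chp C r (one C k x) * chp C r (one C k x) = C.fu x ^ wA k r * x ^ wB k r := by
  show (C.fu (C.fu x ^ (coch k).getD 0 0 * x ^ (coch k).getD 1 0) ^ chevF4.cartan 0 r *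
    C.fu (C.fu x ^ (coch k).getD 2 0 * x ^ (coch k).getD 3 0) ^ chevF4.cartan 1 r *
    (C.fu x ^ (coch k).getD 2 0 * x ^ (coch k).getD 3 0) ^ chevF4.cartan 2 r *
    (C.fu x ^ (coch k).getD 0 0 * x ^ (coch k).getD 1 0) ^ chevF4.cartan 3 r) *
    (C.fu (C.fu x ^ (coch k).getD 0 0 * x ^ (coch k).getD 1 0) ^ chevF4.cartan 0 r *
    C.fu (C.fu x ^ (coch k).getD 2 0 * x ^ (coch k).getD 3 0) ^ chevF4.cartan 1 r *
    (C.fu x ^ (coch k).getD 2 0 * x ^ (coch k).getD 3 0) ^ chevF4.cartan 2 r *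
    (C.fu x ^ (coch k).getD 0 0 * x ^ (coch k).getD 1 0) ^ chevF4.cartan 3 r) = _
  simp only [map_mul, map_zpow]
  have hx := C.fu_theta x
  generalize C.fu (C.fu x) = u at hx ⊢
  generalize C.fu x = v at ⊢
  subst hx
  apply Additive.ofMul.injective
  simp only [ofMul_mul, ofMul_zpow, wA, wB]
  module

theorem eq_one_of_unit {x : Kˣ} {a b : ℤ} (h : unitB a b = true)
    (e : C.fu x ^ a * x ^ b = 1) : x = 1 := by
  have e2 : x ^ a * C.fu x ^ (2 * b) = 1 := by
    have h1 := congrArg C.fu e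
    rw [map_mul, map_zpow, map_zpow, map_one] at h1
    have h2 : (C.fu (C.fu x) * C.fu (C.fu x)) ^ a * C.fu x ^ (2 * b) = 1 := by
      rw [mul_zpow, two_mul b, zpow_add, mul_mul_mul_comm, h1, one_mul]
    rwa [C.fu_theta] at h2
  have e3 : x ^ (a * a - 2 * (b * b)) = 1 := by
    have h1 : C.fu x ^ a = (x ^ b)⁻¹ := eq_inv_of_mul_eq_one_left e
    have h2 := congrArg (· ^ a) e2
    simp only [mul_zpow, one_zpow] at h2
    rw [← zpow_mul, ← zpow_mul, mul_comm (2 * b) a, zpow_mul (C.fu x), h1, inv_zpow, ← zpow_mul,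
      ← zpow_neg, ← zpow_add] at h2
    rw [show a * a - 2 * (b * b) = a * a + -(b * (2 * b)) by ring]
    exact h2
  simp only [unitB, List.any_eq_true, beq_iff_eq, List.mem_range] at h
  obtain ⟨j, -, hj⟩ := h
  have e4 : x ^ (2 ^ j : ℕ) = 1 := by
    rw [← hj]
    rcases Int.natAbs_eq (a * a - 2 * (b * b)) with h' | h'
    · rwa [h', zpow_natCast] at e3
    · rw [h', zpow_neg, inv_eq_one, zpow_natCast] at e3
      exact e3
  clear hj
  induction j with
  | zero => simpa using e4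
  | succ j ih =>
    refine ih ?_
    rw [pow_succ, pow_mul, pow_two] at e4
    exact C.sq_eq_one e4

theorem chp_eq_one {k : Fin 8} {r : ℕ} (hr : r ∈ cls k) (x : Kˣ) :
    chp C r (one C k x) = 1 := by
  obtain ⟨hA, hB⟩ := (if_pos rfl).mp (coch_ok k k r hr)
  refine C.sq_eq_one ?_
  rw [chp_sq, hA, hB, zpow_zero, zpow_zero, one_mul]

theorem chp_ne_one {k q : Fin 8} (h : k ≠ q) {r : ℕ} (hr : r ∈ cls q) {x : Kˣ}
    (e : chp C r (one C k x) = 1) : x = 1 := by
  refine eq_one_of_unit C ((if_neg h).mp (coch_ok k q r hr)) ?_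
  rw [← chp_sq, e, one_mul]

theorem exists_chp (q : Fin 8) {r : ℕ} (hr : r ∈ cls q) {c : K} (hc : c ≠ 0) :
    ∃ p, (chp C r p : K) = c := by
  set k : Fin 8 := q + 1
  have hne : k ≠ q := (show ∀ q : Fin 8, q + 1 ≠ q by decide) q
  have hinj : Function.Injective ((chp C r).comp (one C k)) :=
    (injective_iff_map_eq_one _).2 fun x hx => chp_ne_one C hne hr hx
  obtain ⟨x, hx⟩ := Finite.surjective_of_injective hinj (Units.mk0 c hc)
  exact ⟨one C k x, congrArg Units.val hx⟩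

theorem torG_el (p : Kˣ × Kˣ) (k : Fin 8) (t u : K) :
    ∃ t' u', torG C p * el C k t u * (torG C p)⁻¹ = el C k t' u' ∧
      (∀ s, (cls k)[1]? = some s → t' = (chp C s p : K) * t) ∧
      (k.val % 2 = 1 → t = 0 → ∀ z, (cls k)[2]? = some z → u' = (chp C z p : K) * u) := by
  have hlt : ∀ r ∈ cls k, r < 48 := fun r hr => ((cls_ok k).2.2.1 r hr).1
  obtain ⟨t', u', e⟩ := exists_el C k (torG_sub C p (el_spec C k t u).1)
  refine ⟨t', u', e, ?_⟩
  have e' : C.par p * (el C k t u : GL chevF4.Idx K) * (C.par p)⁻¹ = el C k t' u' :=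
    congrArg Subtype.val e
  rw [(el_spec C k t u).2, (el_spec C k t' u').2, conj_word C p _ hlt] at e'
  have hz := DataF4.facts.coords_unique C.sig.hC (cls_ok k).1
    (by simp [(elW_ok C k t u).1]) (elW_ok C k t' u').1 e'
  rcases Nat.mod_two_eq_zero_or_one k.val with hk | hk
  · obtain ⟨⟨r, s⟩, hc, -⟩ := pairs_ok k hk
    simp only [elW, hk, if_true, hc, List.zipWith_cons_cons, List.cons.injEq] at hz
    refine ⟨fun s' hs' => ?_, fun h => by omega⟩
    simp only [hc, List.getElem?_cons_succ, List.getElem?_cons_zero, Option.some.injEq] at hs'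
    rw [← hs', hz.2.1]
  · obtain ⟨a, b, ab, aab, hc, -⟩ := quad hk
    simp only [elW, hk, one_ne_zero, if_false, hc, List.zipWith_cons_cons, List.cons.injEq] at hz
    refine ⟨fun s' hs' => ?_, fun _ ht z hz' => ?_⟩
    · simp only [hc, List.getElem?_cons_succ, List.getElem?_cons_zero, Option.some.injEq] at hs'
      rw [← hs', hz.2.1]
    · simp only [hc, List.getElem?_cons_succ, List.getElem?_cons_zero, Option.some.injEq] at hz'
      subst ht
      rw [← hz.2.1] at hz
      have := hz.2.2.1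
      simp only [map_zero, mul_zero, zero_mul, zero_add] at this
      rw [← hz', this]

/-- The upper layer of a class. -/
noncomputable def top (k : Fin 8) : Chain.Layers ↥G K where
  X := sub C (cls k)
  Z := sub C (low k)
  x t := el C k t 0
  T := Set.range (torG C)
  le := low_le C k
  mem t := (el_spec C k t 0).1
  cov _ hg := el_cov C k hg
  inj t h := (el_low C k t 0).1 h
  add t u := el_mul C k t u
  comm _ hg _ hh := cm_sub C (self_ok k).1 (fun r hr => ((cls_ok k).2.2.1 r hr).1)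
    (fun r hr => ((cls_ok k).2.2.1 r hr).1) (low_lt C k) hg hh
  tor_comm := by rintro _ ⟨p, rfl⟩ _ ⟨p', rfl⟩; exact torG_comm C p p'
  normX := by rintro _ ⟨p, rfl⟩ g hg; exact torG_sub C p hg
  normZ := by rintro _ ⟨p, rfl⟩ g hg; exact torG_sub C p hg
  scal c hc := by
    obtain ⟨s, hs⟩ : ∃ s, (cls k)[1]? = some s := by
      rcases Nat.mod_two_eq_zero_or_one k.val with hk | hk
      · obtain ⟨rs, h, -⟩ := pairs_ok k hk; exact ⟨rs.2, by rw [h]; rfl⟩
      · obtain ⟨a, b, ab, aab, h, -⟩ := quad hk; exact ⟨b, by rw [h]; rfl⟩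
    obtain ⟨p, hp⟩ := exists_chp C k (List.mem_of_getElem? hs) hc
    refine ⟨torG C p, ⟨p, rfl⟩, fun t => ?_⟩
    obtain ⟨t', u', e, h1, -⟩ := torG_el C p k t 0
    rw [e, h1 s hs, hp, show el C k (c * t) u' = el C k (c * t) 0 * el C k 0 u' by
      rw [el_mul_low, zero_add], inv_mul_cancel_left]
    exact (el_low C k 0 u').2 rfl

/-- The lower layer of a class of four roots. -/
noncomputable def bot (k : Fin 8) (hk : k.val % 2 = 1) : Chain.Layers ↥G K where
  X := sub C (low k)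
  Z := ⊥
  x u := el C k 0 u
  T := Set.range (torG C)
  le := bot_le
  mem u := (el_low C k 0 u).2 rfl
  cov g hg := by
    obtain ⟨u, rfl⟩ := el_low_cov C k hg
    exact ⟨u, by rw [inv_mul_cancel]; exact one_mem _⟩
  inj u h := by
    have h0 : el C k 0 0 = 1 := by
      have := el_mul_low C k 0 0 0
      rwa [add_zero, mul_eq_left] at this
    rw [Subgroup.mem_bot, ← h0] at h
    exact (el_inj C k h).2 hk
  add u u' := by rw [el_mul_low, inv_mul_cancel]; exact one_mem _
  comm g hg h hh := by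
    rw [Subgroup.mem_bot, cm_eq_one]
    exact commute_sub C (self_ok k).2 (low_lt C k) (fun r hr => ((cls_ok k).2.2.1 r hr).1) hg
      (low_le C k hh)
  tor_comm := by rintro _ ⟨p, rfl⟩ _ ⟨p', rfl⟩; exact torG_comm C p p'
  normX := by rintro _ ⟨p, rfl⟩ g hg; exact torG_sub C p hg
  normZ := by
    rintro a - g hg
    rw [Subgroup.mem_bot] at hg ⊢
    rw [hg, mul_one, mul_inv_cancel]
  scal c hc := by
    obtain ⟨a, b, ab, aab, hcl, -⟩ := quad hk
    obtain ⟨p, hp⟩ := exists_chp C k (r := ab) (by rw [hcl]; simp) hc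
    refine ⟨torG C p, ⟨p, rfl⟩, fun u => ?_⟩
    obtain ⟨t', u', e, h1, h2⟩ := torG_el C p k 0 u
    rw [e, h1 b (by rw [hcl]; rfl), mul_zero, h2 hk rfl ab (by rw [hcl]; rfl), hp, inv_mul_cancel]
    exact one_mem _

theorem exists_unit (hm : 1 ≤ m) : ∃ x : Kˣ, x ≠ 1 := C.exists_ne_one hm

theorem exists_linear (hm : 1 ≤ m) : ∃ l : K, l ≠ 0 ∧ 1 + l ≠ 0 ∧ l * l + l + 1 ≠ 0 :=
  CfsgLib.Recognition.SzMult.ne_linear (by
    rw [C.card]
    exact (show 8 ≤ 2 ^ 3 by norm_num).trans (Nat.pow_le_pow_right two_pos (by omega)))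

section Ext

variable {Γ : Type w} [Group Γ] {σ : Γ →* ↥(twistedF4 K (2 ^ m))} (hc : σ.ker ≤ Subgroup.center Γ)
  (L : ↥(twistedF4 K (2 ^ m)) → Γ) (hL : ∀ g, σ (L g) = g)

include hc hL in
theorem lift_bot (Z : Subgroup ↥G) (hZ : Z = ⊥) (S : Chain.Layers ↥G K) (hS : S.Z = Z) :
    Chain.LowLift S σ L ⊥ :=
  ⟨fun w hw _ => Subgroup.mem_bot.1 hw, by rw [Subgroup.map_bot, hS, hZ],
    fun g _ w hw => by rw [Subgroup.mem_bot.1 hw, mul_one, one_mul],
    fun a _ w hw => by rw [Subgroup.mem_bot.1 hw, mul_one, mul_inv_cancel]; exact one_mem _⟩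

include hc hL in
/-- Separated classes commute in the extension. -/
theorem cm_sep (hm : 1 ≤ m) {i j : Fin 8} (hij : i ≠ j) {S T : List ℕ} (hS : ∀ r ∈ S, r ∈ cls i)
    (hT : coordB chevF4 T = true) (hT' : ∀ r ∈ T, r ∈ cls j) (hST : relB S T [] = true)
    {g y : ↥G} (hg : g ∈ sub C S) (hy : y ∈ sub C T) : cm (L g) (L y) = 1 := by
  obtain ⟨x, hx⟩ := exists_unit C hm
  refine Chain.cm_of_fix hc L hL (a := torG C (one C i x)) (Y := sub C T)
    (torG_fix C _ (fun r hr => chp_eq_one C (hS r hr) x) hg) (fun y hy => torG_sub C _ hy)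
    (fun y hy => torG_fpf C _ hT (fun r hr e => hx (chp_ne_one C hij (hT' r hr) e)) hy)
    (fun y hy => commute_sub C hST (fun r hr => ((cls_ok i).2.2.1 r (hS r hr)).1)
      (fun r hr => (Facts.coord_lt hT r hr).1) hg hy) hy

theorem cm_pair {r s k : ℕ} (hr : r < 48) (hs : s < 48) (hne : s ≠ r) (hneg : s ≠ chevF4.neg r)
    (hT : (chevF4.commTerms r s).map (fun x => (x.1, x.2.1 % 2, x.2.2)) = [(k, 1, (1, 1))]) (a b : K) :
    cm (xU chevF4 s a) (xU chevF4 r b) = xU chevF4 k (a * b) := by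
  have hF := DataF4.facts
  have e := hF.xU_comm C.sig.hC hr hs hne hneg (-b) (-a)
  rw [← hF.xU_inv hr, ← hF.xU_inv hs] at e
  have hw : cm (xU chevF4 s a) (xU chevF4 r b) = wU chevF4 (cwR chevF4 r s (-b) (-a)) := by
    simp only [cm]
    rw [mul_assoc _ _ (xU chevF4 r b)⁻¹, e]
    group
  rw [hw]
  simp only [cwR]
  generalize chevF4.commTerms r s = M at hT ⊢
  rcases M with - | ⟨⟨k1, z1, i1, j1⟩, - | ⟨_, _⟩⟩ <;> simp at hT
  obtain ⟨rfl, h1, rfl, rfl⟩ := hT
  simp [wU, C.intCast_odd h1, C.neg_eq, mul_comm]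

/-- The elements of the lower layer of the middle class are commutators. -/
theorem cm_el (u : K) : cm (el C 1 0 u) (el C 6 1 0) = el C 3 0 u := by
  obtain ⟨T1, T2, T3, c1, c3, c6, n1, n2⟩ := triple_terms
  obtain ⟨-, -, -, -, k1, k2, k3, k4, k5, k6⟩ := triple_ok
  have hF := DataF4.facts
  refine Subtype.ext ?_
  show ((el C 1 0 u * el C 6 1 0 * (el C 1 0 u)⁻¹ * (el C 6 1 0)⁻¹ : ↥G) : GL chevF4.Idx K) = _
  simp only [Subgroup.coe_mul, Subgroup.coe_inv]
  rw [el_val1 C (k := 1) rfl c1, el_val1 C (k := 3) rfl c3, el_val0 C (k := 6) rfl c6]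
  simp only [map_zero, mul_zero, zero_add, map_one, hF.xU_zero (show 34 < chevF4.nroots by decide),
    hF.xU_zero (show 26 < chevF4.nroots by decide), hF.xU_zero (show 29 < chevF4.nroots by decide),
    hF.xU_zero (show 41 < chevF4.nroots by decide), one_mul]
  set P := xU chevF4 36 u
  set Q := xU chevF4 42 (C.f u ^ 2)
  set R := xU chevF4 37 (1 : K)
  set S := xU chevF4 32 (1 : K)
  have e1 : cm P R = xU chevF4 44 u := by
    rw [cm_pair C (by decide) (by decide) (by decide) n1 T1, mul_one]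
  have e2 : cm Q S = xU chevF4 47 (C.f u ^ 2) := by
    rw [cm_pair C (by decide) (by decide) (by decide) n2 T2, mul_one]
  have e3 : cm P S = 1 := cm_eq_one.2 (C.sig.commute_xU (by decide) (by decide) k1 _ _).eq
  have e4 : cm Q R = 1 := cm_eq_one.2 (C.sig.commute_xU (by decide) (by decide) k2 _ _).eq
  have e5 : cm (P * Q) (R * S) = P * (cm Q R * (R * cm Q S * R⁻¹)) * P⁻¹ *
      (cm P R * (R * cm P S * R⁻¹)) := by simp only [cm]; group
  show cm (P * Q) (R * S) = _
  rw [e5, e1, e2, e3, e4, mul_one, mul_inv_cancel, mul_one, one_mul,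
    (C.sig.commute_xU (by decide) (by decide) T3 (1 : K) (C.f u ^ 2)).eq, mul_inv_cancel_right,
    (C.sig.commute_xU (by decide) (by decide) k5 u (C.f u ^ 2)).eq, mul_inv_cancel_right]
  exact (C.sig.commute_xU (by decide) (by decide) k3 u (C.f u ^ 2)).eq.symm

include hc hL in
/-- In the middle class the lifts of the two layers commute. -/
theorem cm_three (hm : 1 ≤ m) {x z : ↥G} (hx : x ∈ sub C (cls 3)) (hz : z ∈ sub C (low 3)) :
    cm (L x) (L z) = 1 := by
  obtain ⟨r1, r2, r3, r4, -⟩ := triple_ok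
  obtain ⟨u, rfl⟩ := el_low_cov C 3 hz
  have hp : el C 1 0 u ∈ sub C (low 1) := (el_low C 1 0 u).2 rfl
  have hsw : cm x (el C 6 1 0) ∈ sub C (low 5) := cm_sub C r2
    (fun r hr => ((cls_ok 3).2.2.1 r hr).1) (fun r hr => ((cls_ok 6).2.2.1 r hr).1)
    (low_lt C 5) hx (el_spec C 6 1 0).1
  have hrel : relB (cls 3) (low 1) [] = true := by decide +kernel
  set X := L x
  set P := L (el C 1 0 u)
  set S := L (el C 6 1 0)
  set c := cm P S
  have hσc : σ c = el C 3 0 u := by rw [map_cm, hL, hL, cm_el]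
  have h1 : cm X P = 1 := cm_sep C hc L hL hm (i := 3) (j := 1) (by decide) (fun _ h => h)
    (cls_ok 1).2.1 (fun _ h => List.mem_of_mem_drop h) hrel hx hp
  have h2 : cm P (cm X S) = 1 := by
    rw [Sys.cm_congr hc (x' := P) (y' := L (cm x (el C 6 1 0))) rfl (by rw [map_cm, hL, hL, hL])]
    exact cm_sep C hc L hL hm (i := 1) (j := 5) (by decide) (fun _ h => List.mem_of_mem_drop h)
      (cls_ok 5).2.1 (fun _ h => List.mem_of_mem_drop h) r3 hp hsw
  have h3 : cm c (cm X S) = 1 := by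
    rw [Sys.cm_congr hc (x' := L (el C 3 0 u)) (y' := L (cm x (el C 6 1 0))) (by rw [hσc, hL])
      (by rw [map_cm, hL, hL, hL])]
    exact cm_sep C hc L hL hm (i := 3) (j := 5) (by decide) (fun _ h => List.mem_of_mem_drop h)
      (cls_ok 5).2.1 (fun _ h => List.mem_of_mem_drop h) r4 hz hsw
  have h4 : X * c * X⁻¹ = c := by
    rw [cm_eq_one] at h1 h3
    calc X * c * X⁻¹ = cm (X * P * X⁻¹) (X * S * X⁻¹) := Sys.conj_cm X P S
      _ = cm P (cm X S * S) := by rw [h1, mul_inv_cancel_right, ← conj_eq_cm_mul]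
      _ = cm X S * c * (cm X S)⁻¹ := by rw [Sys.cm_mul_right, h2, one_mul]
      _ = c := by rw [← h3, mul_inv_cancel_right]
  rw [Sys.cm_congr hc (x' := X) (y' := c) rfl (by rw [hL, hσc]), cm_eq_one]
  exact mul_inv_eq_iff_eq_mul.1 h4

include hc hL in
/-- In every class the lifts of the two layers commute. -/
theorem cm_layers (hm : 1 ≤ m) [CharP K 2] {k : Fin 8} (hk : k.val % 2 = 1) {x z : ↥G}
    (hx : x ∈ sub C (cls k)) (hz : z ∈ sub C (low k)) : cm (L x) (L z) = 1 := by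
  obtain ⟨n, hn, hp⟩ := exists_n C (moveW k)
  obtain ⟨h1, h2⟩ := move_ok k hk
  set N : ↥G := ⟨n, hn⟩
  have hconj : ∀ (S T : List ℕ), (∀ r ∈ S,
      ((wordO (moveW k)).map Fin.val).foldr (fun i x => chevF4.reflectRoot i x) r ∈ T) →
      ∀ g ∈ sub C S, N * g * N⁻¹ ∈ sub C T := by
    intro S T h g hg
    rw [mem_sub]
    simp only [Subgroup.coe_mul, Subgroup.coe_inv]
    exact DataF4.facts.conj_rootClosure hp (fun r hr => by
      rw [DataF4.facts.sW_val_foldr]; exact h r.val hr) ((mem_sub C).1 hg)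
  have e := cm_three C hc L hL hm (hconj _ _ h1 x hx) (hconj _ _ h2 z hz)
  rw [Sys.cm_congr hc (x' := L N * L x * (L N)⁻¹) (y' := L N * L z * (L N)⁻¹)
    (by simp only [map_mul, map_inv, hL]) (by simp only [map_mul, map_inv, hL]), ← Sys.conj_cm,
    conj_eq_one_iff] at e
  exact e

include hc hL in
theorem exists_class_lift (hm : 1 ≤ m) [CharP K 2] (k : Fin 8) :
    ∃ V : Subgroup Γ, (∀ v ∈ V, σ v = 1 → v = 1) ∧ V.map σ = sub C (cls k) ∧
      ∀ a ∈ Set.range (torG C), ∀ v ∈ V, L a * v * (L a)⁻¹ ∈ V := by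
  obtain ⟨W, hW⟩ : ∃ W, Chain.LowLift (top C k) σ L W := by
    rcases Nat.mod_two_eq_zero_or_one k.val with hk | hk
    · refine ⟨⊥, lift_bot C hc L hL _ ?_ _ rfl⟩
      show sub C (low k) = ⊥
      rw [(cls_ok k).2.2.2 hk, eq_bot_iff]
      exact fun g hg => sub_nil C hg
    · obtain ⟨W, -, hinj, hmap, hnorm⟩ := Chain.exists_lift hc L hL (bot C k hk)
        (exists_linear C hm) (lift_bot C hc L hL _ rfl _ rfl)
      refine ⟨W, hinj, hmap, fun g hg w hw => ?_, hnorm⟩
      have hz : σ w ∈ sub C (low k) :=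
        (show W.map σ = sub C (low k) from hmap) ▸ Subgroup.mem_map_of_mem σ hw
      have := cm_layers C hc L hL hm hk hg hz
      rw [← cm_eq_one, ← this]
      exact Sys.cm_congr hc rfl (by rw [hL])
  obtain ⟨V, -, h1, h2, h3⟩ := Chain.exists_lift hc L hL (top C k) (exists_linear C hm) hW
  exact ⟨V, h1, h2, h3⟩

end Ext

theorem card_cls (k : Fin 8) :
    Nat.card (sub C (cls k)) ≤ (2 ^ (2 * m + 1)) ^ (if k.val % 2 = 0 then 1 else 2) := by
  rw [← C.card, ← Nat.card_eq_fintype_card]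
  rcases Nat.mod_two_eq_zero_or_one k.val with hk | hk
  · rw [if_pos hk, pow_one]
    refine Nat.card_le_card_of_surjective
      (fun t => (⟨el C k t 0, (el_spec C k t 0).1⟩ : sub C (cls k))) fun g => ?_
    obtain ⟨t, u, e⟩ := exists_el C k g.2
    refine ⟨t, Subtype.ext (Subtype.ext ?_)⟩
    rw [e, (el_spec C k t 0).2, (el_spec C k t u).2]
    simp [elW, hk]
  · rw [if_neg (by omega), sq, ← Nat.card_prod]
    refine Nat.card_le_card_of_surjective
      (fun p : K × K => (⟨el C k p.1 p.2, (el_spec C k p.1 p.2).1⟩ : sub C (cls k))) fun g => ?_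
    obtain ⟨t, u, e⟩ := exists_el C k g.2
    exact ⟨(t, u), Subtype.ext e.symm⟩

theorem sep_classes {x : Kˣ} (hx : x ≠ 1) {i j : Fin 8} (hij : i ≠ j) :
    (∀ g ∈ sub C (cls i), torG C (one C i x) * g * (torG C (one C i x))⁻¹ = g) ∧
      ∀ g ∈ sub C (cls j), torG C (one C i x) * g * (torG C (one C i x))⁻¹ = g → g = 1 :=
  ⟨fun _ hg => torG_fix C _ (fun _ hr => chp_eq_one C hr x) hg,
    fun _ hg e => torG_fpf C _ (cls_ok j).1 (fun _ hr e' => hx (chp_ne_one C hij hr e')) hg e⟩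

/-- The unipotent subgroup lifts to every finite central extension. -/
theorem exists_split (hm : 1 ≤ m) [CharP K 2] {Γ : Type w} [Group Γ] [Finite Γ] (π : Γ →* ↥G)
    (hπ : Function.Surjective π) (hc : π.ker ≤ Subgroup.center Γ) :
    ∃ B : Subgroup Γ, (∀ b ∈ B, π b = 1 → b = 1) ∧
      (rootClosure chevF4 K (24 ≤ ·)).subgroupOf G ≤ B.map π := by
  classical
  choose L hL using hπ
  have hX : ∀ k : Fin 8, ∃ V : Subgroup Γ, (∀ v ∈ V, π v = 1 → v = 1) ∧
      V.map π = sub C (cls k) ∧ ∀ a ∈ Set.range (torG C), ∀ v ∈ V, L a * v * (L a)⁻¹ ∈ V :=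
    fun k => exists_class_lift C hc L hL hm k
  choose V hV using hX
  obtain ⟨x, hx⟩ := exists_unit C hm
  let S : Chain.Ord ↥G :=
    { N := 8
      X := fun k => sub C (cls k)
      T := Set.range (torG C)
      rel := fun i j hij hj a ha b hb => by
        have h := rel_ok ⟨i, by omega⟩ ⟨j, hj⟩ hij
        have hm' := mem_flat C (a := i + 1) (b := j) (by omega) (cm_sub C h
          (fun r hr => ((cls_ok ⟨i, by omega⟩).2.2.1 r hr).1)
          (fun r hr => ((cls_ok ⟨j, hj⟩).2.2.1 r hr).1) (flat_lt C (by omega)) ha hb)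
        refine Subgroup.closure_mono ?_ hm'
        rintro g ⟨k, h1, h2, hg⟩
        exact ⟨k, by omega, h2, hg⟩
      sep := fun i j hij hj => by
        refine ⟨_, ⟨one C i x, rfl⟩, Or.inl (sep_classes C hx (i := ⟨i, by omega⟩) (j := ⟨j, hj⟩) ?_)⟩
        rw [Ne, Fin.mk.injEq]
        omega }
  have hU : (rootClosure chevF4 K (24 ≤ ·)).subgroupOf G ≤
      Subgroup.closure {g | ∃ k, k < S.N ∧ g ∈ S.X k} := by
    intro g hg
    have hg' : g ∈ sub C (flat 0 8) := rootClosure_mono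
      (fun r hr h => (flat_all ⟨r, hr⟩).1 h) hg
    refine Subgroup.closure_mono ?_ (mem_flat C le_rfl hg')
    rintro g ⟨k, -, h2, hg⟩
    exact ⟨k, h2, hg⟩
  obtain ⟨B, hB, hBU⟩ := Chain.exists_glue hc L hL S
    (fun k => if h : k < 8 then V ⟨k, h⟩ else ⊥)
    (fun k hk => by simp only [dif_pos (show k < 8 from hk)]; exact (hV _).1)
    (fun k hk => by simp only [dif_pos (show k < 8 from hk)]; exact (hV _).2.1)
    (fun a ha k hk => by simp only [dif_pos (show k < 8 from hk)]; exact (hV _).2.2 a ha)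
    (by
      refine le_trans ?_ (Subgroup.card_le_of_le hU)
      have hcard : Nat.card ↥((rootClosure chevF4 K (24 ≤ ·)).subgroupOf G) =
          (2 ^ (2 * m + 1)) ^ 12 := by
        rw [← C.card_posU, DataF4.facts.posUnipotent_eq, ← Subgroup.inf_subgroupOf_right,
          show chevF4.nroots / 2 = 24 by decide +kernel]
        exact Nat.card_congr (Subgroup.subgroupOfEquivOfLe inf_le_right).toEquiv
      rw [hcard]
      calc ∏ k ∈ Finset.range 8, Nat.card (S.X k)
          ≤ ∏ k ∈ Finset.range 8, (2 ^ (2 * m + 1)) ^ (if k % 2 = 0 then 1 else 2) :=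
            Finset.prod_le_prod' fun k hk => card_cls C ⟨k, Finset.mem_range.1 hk⟩
        _ = _ := by rw [Finset.prod_pow_eq_pow_sum]; rfl)
  exact ⟨B, hB, hU.trans hBU⟩

end CfsgLib.Known.RootLift.F4
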