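/-
Stem extensions of ²F₄(q), q ≥ 8, are trivial.
-/
import Cfsg.Agent.Lib.Known.RootLift.F4Split
import Cfsg.Agent.Lib.Known.RootLift.F4Block
import Cfsg.Agent.Lib.Known.RootLift.E6Bound

set_option autoImplicit false
set_option maxRecDepth 100000
set_option maxHeartbeats 1000000
set_option linter.unusedSectionVars false
set_option Elab.async false

namespace CfsgLib.Known.RootLift.F4

open Cfsg.Lie CfsgLib.Chev CfsgLib.Known.RootLift CfsgLib.Known.SplitLift
open CfsgLib.SuzukiLaws (uUnit uUnit_val uMat uUnit_mem)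
open CfsgLib.Spectrum (antiJ antiJUnit antiJUnit_mem_sz)
open scoped MatrixGroups

universe v

/-- The orbit of the rank one group of type Sz. -/
abbrev o1 : Fin TwF4.spec.length := ⟨1, by decide⟩

/-- The orbit of the rank one group of type A₁. -/
abbrev o0 : Fin TwF4.spec.length := ⟨0, by decide⟩

theorem rk_tables :
    (∀ r ∈ [27, 25, 28, 30], r ∈ rk1) ∧ (∀ r ∈ [20, 22, 19, 17], r ∈ rk1) ∧
    cls 7 = [27, 25, 28, 30] ∧ [f4a, f4b, f4ab, f4aab] = [27, 25, 28, 30] ∧
    [f4ma, f4mb, f4mab, f4maab] = [20, 22, 19, 17] ∧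
    (∀ j < 4, chevF4.cartan j 34 = chevF4.cartan j 33 + chevF4.cartan j 27) ∧
    (∀ j < 4, chevF4.cartan j 35 = chevF4.cartan j 34 + chevF4.cartan j 25) ∧
    (TwF4.O o0).word = [⟨0, by decide⟩, ⟨3, by decide⟩] := by
  decide +kernel

variable {K : Type v} [Field K] [Fintype K] {m : ℕ} (C : TwF4.Ctx K m)
include C

local notation "G" => twistedF4 K (2 ^ m)

variable [CharP K 2]

theorem pow_sigma (x : K) : x ^ 2 ^ (m + 1) = C.f x ^ 2 := by
  rw [C.hf, ← pow_mul, pow_succ]

theorem sigma_f (t : K) : C.f t ^ 2 ^ (m + 1) = t := by rw [pow_sigma C, C.theta]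

theorem blk_pos (t u : K) :
    ∃ h : C.cl t u ∈ stabS K, blk K ⟨C.cl t u, h⟩ = uUnit m (C.f t) u := by
  obtain ⟨h, e⟩ := blk_word C.two_eq_zero
    (L := [((27 : ℕ), C.f t), (25, t), (28, C.f t * t + u), (30, C.f u ^ 2)])
    (fun p hp => rk_tables.1 p.1 (by
      have := List.mem_map_of_mem (f := Prod.fst) hp
      simpa using this))
  have hval : wU chevF4 [((27 : ℕ), C.f t), (25, t), (28, C.f t * t + u), (30, C.f u ^ 2)] =
      C.cl t u := by simp [wU, TwF4.Ctx.cl, f4a, f4b, f4ab, f4aab, mul_assoc]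
  refine ⟨hval ▸ h, ?_⟩
  refine Units.ext ?_
  have : (⟨C.cl t u, hval ▸ h⟩ : ↥(stabS K)) = ⟨_, h⟩ := Subtype.ext hval.symm
  rw [this, e, uUnit_val]
  simp only [List.map_cons, List.map_nil, List.prod_cons, List.prod_nil, mul_one]
  ext i j
  fin_cases i <;> fin_cases j <;>
    simp [xB, edge, uMat, Matrix.mul_apply, Fin.sum_univ_four, sigma_f C, pow_sigma C] <;>
    first
      | ring1
      | linear_combination (C.f t * t) * C.two_eq_zero

theorem blk_neg (t u : K) :
    ∃ h : wU chevF4 (b2ClassWord (2 ^ m) f4ma f4mb f4mab f4maab t u) ∈ stabS K,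
      blk K ⟨_, h⟩ = antiJUnit * uUnit m (C.f t) u * antiJUnit := by
  obtain ⟨h, e⟩ := blk_word C.two_eq_zero
    (L := [((20 : ℕ), C.f t), (22, t), (19, C.f t * t + u), (17, C.f u ^ 2)])
    (fun p hp => rk_tables.2.1 p.1 (by
      have := List.mem_map_of_mem (f := Prod.fst) hp
      simpa using this))
  have hval : b2ClassWord (2 ^ m) f4ma f4mb f4mab f4maab t u =
      [((20 : ℕ), C.f t), (22, t), (19, C.f t * t + u), (17, C.f u ^ 2)] := by
    simp [b2ClassWord, f4ma, f4mb, f4mab, f4maab, C.hf, pow_succ, pow_mul, mul_comm 2]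
  rw [hval]
  refine ⟨h, Units.ext ?_⟩
  rw [e, Units.val_mul, Units.val_mul, uUnit_val]
  simp only [List.map_cons, List.map_nil, List.prod_cons, List.prod_nil, mul_one]
  ext i j
  fin_cases i <;> fin_cases j <;>
    simp [xB, edge, uMat, antiJUnit, antiJ, Matrix.mul_apply, Fin.sum_univ_four, sigma_f C,
      pow_sigma C] <;>
    first
      | ring1
      | linear_combination (C.f t * t) * C.two_eq_zero

theorem posO_one {r : ℕ} (hr : r < chevF4.nroots) :
    (TwF4.O o1).posO DataF4.co r ↔ r ∈ [f4a, f4b, f4ab, f4aab] :=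
  posO_iff_list DataF4.chk_arrays (p := ([1, 2], [1, 2, 1, 2])) TwF4.pos_lists.2 r hr

theorem negO_one {r : ℕ} (hr : r < chevF4.nroots) :
    (TwF4.O o1).negO DataF4.co r ↔ r ∈ [f4ma, f4mb, f4mab, f4maab] :=
  negO_iff_list DataF4.chk_arrays (p := ([1, 2], [1, 2, 1, 2])) TwF4.neg_lists.2 r hr

theorem wO_apply (j : Fin 4) : (TwF4.O o1).wO (sRoot j) = sRoot j.rev :=
  Fin.ext (by rw [Orb.wO, DataF4.facts.sW_val_foldr]; exact wO_sRoot j)

theorem wO_posO {r : Fin chevF4.nroots} (hr : (TwF4.O o1).negO DataF4.co r.val) :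
    (TwF4.O o1).posO DataF4.co ((TwF4.O o1).wO r).val := by
  have hF := DataF4.facts
  have hs := C.sys.wO_inO o1 (r := hF.negFin r) ((hF.negFin_pos r).2 hr.1)
    (hF.inSub_neg r.isLt hr.2)
  rw [show (TwF4.O o1).wO (hF.negFin r) = hF.negFin ((TwF4.O o1).wO r) from hF.sW_neg _ _] at hs
  refine ⟨not_lt.1 fun h => absurd ((hF.negFin_pos _).2 h) (not_le.2 hs.1), ?_⟩
  have h := hF.inSub_neg (hF.negFin _).isLt hs.2
  rwa [show chevF4.neg (hF.negFin ((TwF4.O o1).wO r)).val = ((TwF4.O o1).wO r).val from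
    hF.neg_neg ((TwF4.O o1).wO r).isLt] at h

theorem nO_stab : C.sys.nO o1 ∈ stabS K := by
  intro a j ha
  obtain ⟨c, -, -, h⟩ := C.sys.nO_perm o1 (sRoot j)
  rw [h a, wO_apply C, if_neg (ha _)]

theorem par_stab (p : Kˣ × Kˣ) : C.par p ∈ stabS K := stab_dU _

theorem blk_par (p : Kˣ × Kˣ) (i j : Fin 4) :
    (blk K ⟨C.par p, par_stab C p⟩ : Matrix (Fin 4) (Fin 4) K) i j =
      if i = j then (chp C (sRoot i).val p : K) else 0 := by
  rw [blk_apply]
  show ((hT chevF4 (TwF4.four (C.fu p.1) (C.fu p.2) p.2 p.1) : GL chevF4.Idx K) :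
    Matrix chevF4.Idx chevF4.Idx K) _ _ = _
  rw [hT, dU_val, diagC, Matrix.diagonal_apply]
  refine if_congr ⟨fun e => sRoot_inj i j (Sum.inr_injective e), fun e => by rw [e]⟩ ?_ rfl
  simp [show chevF4.rank = 4 from rfl, Finset.prod_range_succ, TwF4.four, chp]

/-- A torus element fixing the four root vectors is trivial. -/
theorem par_eq_one {p : Kˣ × Kˣ} (h : ∀ i : Fin 4, chp C (sRoot i).val p = 1) : C.par p = 1 := by
  obtain ⟨a, b⟩ := p
  obtain ⟨-, -, -, -, -, l34, l35, -⟩ := rk_tables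
  have h33 : chp C 33 (a, b) = 1 := h 3
  have h34 : chp C 34 (a, b) = 1 := h 2
  have h35 : chp C 35 (a, b) = 1 := h 1
  have h27 : chp C 27 (a, b) = 1 := by
    have : chp C 34 (a, b) = chp C 33 (a, b) * chp C 27 (a, b) := by
      simp only [chp, MonoidHom.mk'_apply, l34 0 (by norm_num), l34 1 (by norm_num),
        l34 2 (by norm_num), l34 3 (by norm_num), zpow_add]
      apply Additive.ofMul.injective
      simp only [ofMul_mul, ofMul_zpow]
      abel
    rwa [h34, h33, one_mul, eq_comm] at this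
  have h25 : chp C 25 (a, b) = 1 := by
    have : chp C 35 (a, b) = chp C 34 (a, b) * chp C 25 (a, b) := by
      simp only [chp, MonoidHom.mk'_apply, l35 0 (by norm_num), l35 1 (by norm_num),
        l35 2 (by norm_num), l35 3 (by norm_num), zpow_add]
      apply Additive.ofMul.injective
      simp only [ofMul_mul, ofMul_zpow]
      abel
    rwa [h35, h34, one_mul, eq_comm] at this
  have e : ∀ r, chp C r (a, b) = ∏ j ∈ Finset.range chevF4.rank,
      TwF4.four (C.fu a) (C.fu b) b a j ^ chevF4.cartan j r := fun r => by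
    simp [show chevF4.rank = 4 from rfl, Finset.prod_range_succ, TwF4.four, chp]
  obtain ⟨s0, s1, s2, -⟩ := TwF4.torus_tables
  obtain ⟨c0, c1, c2, -⟩ := TwF4.char_four (C.fu a) (C.fu b) b a
  rw [e, show (33 : ℕ) = chevF4.simple 0 from s0.symm, c0, div_eq_one] at h33
  rw [e, show (27 : ℕ) = chevF4.simple 1 from s1.symm, c1, div_eq_one] at h27
  rw [e, show (25 : ℕ) = chevF4.simple 2 from s2.symm, c2, div_eq_one] at h25
  have hb : b = C.fu a * C.fu a * C.fu a := by
    rw [← h33] at h27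
    refine mul_left_cancel (a := C.fu a) ?_
    rw [← h27]
    simp [mul_assoc]
  have h3 : a * a * a = C.fu a * C.fu a * (C.fu a * C.fu a) := by
    have h := h33
    rw [hb] at h
    simp only [map_mul] at h
    rw [h]
    conv_lhs => rw [← C.fu_theta a]
    simp only [mul_assoc, mul_comm, mul_left_comm]
  have h2 : a = C.fu a * C.fu a := by
    have h := h25
    rw [← h33] at h
    rw [hb] at h
    refine mul_left_cancel (a := C.fu a * C.fu a * (C.fu a * C.fu a)) ?_
    calc C.fu a * C.fu a * (C.fu a * C.fu a) * a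
        = C.fu a * C.fu a * C.fu a * (C.fu a * C.fu a * C.fu a) := h.symm
      _ = _ := by simp [mul_assoc]
  have ha : a = 1 := by
    rw [← h2] at h3
    exact mul_left_cancel (a := a * a) (by rw [mul_one]; exact h3)
  rw [show ((a, b) : Kˣ × Kˣ) = 1 from Prod.ext ha (by rw [hb, ha, map_one, mul_one, mul_one]; rfl),
    map_one]

theorem fix_neg {g : GL chevF4.Idx K} (hg : g ∈ G)
    (h : g ∈ rootClosure chevF4 K ((TwF4.O o1).negO DataF4.co)) :
    ∃ t u, g = wU chevF4 (b2ClassWord (2 ^ m) f4ma f4mb f4mab f4maab t u) := by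
  classical
  have hF := DataF4.facts
  have hc : ((f4ma, f4mb, f4mab, f4maab) : ℕ × ℕ × ℕ × ℕ) ∈ TwF4.classes := by simp [TwF4.classes]
  let T : Subgroup (GL chevF4.Idx K) := G ⊓ rootClosure chevF4 K ((TwF4.O o1).negO DataF4.co)
  let f : K × K → T := fun p => ⟨wU chevF4 (b2ClassWord (2 ^ m) f4ma f4mb f4mab f4maab p.1 p.2),
    C.mem_gen (Or.inr ⟨p.1, p.2, Or.inr rfl⟩),
    rootClosure_mono (fun r hr h => (negO_one C hr).2 h)
      (Facts.wU_mem_closure (L := [f4ma, f4mb, f4mab, f4maab])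
        (ts := [p.1 ^ 2 ^ m, p.1, p.1 ^ (2 ^ m + 1) + p.2, p.2 ^ (2 * 2 ^ m)]) (by decide +kernel))⟩
  have hf : Function.Injective f := by
    rintro ⟨t, u⟩ ⟨t', u'⟩ e
    obtain ⟨h1, e1⟩ := blk_neg C t u
    obtain ⟨h2, e2⟩ := blk_neg C t' u'
    have : (⟨_, h1⟩ : ↥(stabS K)) = ⟨_, h2⟩ := by
      refine Subtype.ext ?_
      have e' := congrArg Subtype.val e
      exact e'
    rw [this, e2] at e1
    have e3 := congrArg (fun g : GL (Fin 4) K => (g : Matrix (Fin 4) (Fin 4) K))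
      (mul_left_cancel (mul_right_cancel e1)).symm
    simp only [uUnit_val] at e3
    have a1 := congrFun (congrFun e3 0) 1
    have a2 := congrFun (congrFun e3 0) 2
    simp [uMat] at a1 a2
    rw [C.f.injective a1, a2]
  have hcard : Nat.card T ≤ Nat.card (K × K) := by
    let φ : T → C.sys.fixU (TwF4.O o1).wO := fun x => ⟨C.sys.nO o1 * x * (C.sys.nO o1)⁻¹, by
      rw [C.sys.fixU_wO]
      refine ⟨C.sys.le_fix (mul_mem (mul_mem (C.sys.nO_mem o1) x.2.1)
        (inv_mem (C.sys.nO_mem o1))), ?_⟩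
      exact hF.conj_rootClosure (C.sys.nO_perm o1) (fun r hr => wO_posO C hr) x.2.2⟩
    refine (Nat.card_le_card_of_injective φ fun x y e => Subtype.ext
      (mul_left_cancel (mul_right_cancel (congrArg Subtype.val e)))).trans (le_of_eq ?_)
    have h := C.card_orbit o1
    have hfl : flipNum (TwF4.O o1).wO = 4 := by
      rw [Orb.wO, flipW_eq DataF4.chk_arrays DataF4.chk_chain DataF4.facts]
      exact (TwF4.flips o1).trans rfl
    rw [hfl, show (2 ^ (2 * m + 1)) ^ 4 = ((2 ^ (2 * m + 1)) ^ 2) ^ 2 by ring] at h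
    rw [Nat.pow_left_injective two_ne_zero h, Nat.card_prod, Nat.card_eq_fintype_card, C.card, sq]
  obtain ⟨⟨t, u⟩, e⟩ := (hf.bijective_of_nat_card_le hcard).2 ⟨g, hg, h⟩
  exact ⟨t, u, (congrArg Subtype.val e).symm⟩

/-- The rank one group of type Sz has a bounded lifted torus. -/
theorem card_tau_one (hm : 1 ≤ m) {E : Type v} [Group E] [Finite E] (π : E →* ↥G) (hc : Cov π 2) :
    Nat.card (tau π C.sys.bnPair 2 C.sys.uSub C.sys.n0G (C.sys.nG o1)) ≤
      2 ^ (2 * m + 1) - 1 := by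
  classical
  haveI : Fact (Nat.Prime 2) := ⟨Nat.prime_two⟩
  have hopp := tw_opp C.sys 2
  have hs : C.sys.nG o1 ∈ C.sys.bnPair.S := ⟨o1, rfl⟩
  set s := C.sys.nG o1
  set L := Lv C.sys.uSub C.sys.n0G s
  have hX : ∀ {x : ↥G}, x ∈ SplitLift.X C.sys.uSub (s * C.sys.n0G) →
      ∃ t u, (x : GL chevF4.Idx K) = C.cl t u := fun {x} hx => by
    obtain ⟨t, u, e⟩ := C.fix_class (C.sys.le_fix x.2) (rootClosure_mono
      (fun r hr h => (posO_one C hr).1 h) ((mem_X_tw C.sys 2 o1).1 hx))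
    exact ⟨t, u, e.trans (C.cl_eq t u)⟩
  have hB : ∀ {y : ↥G}, y ∈ C.sys.bnPair.B ⊓ C.sys.bnPair.N →
      ∃ p, (y : GL chevF4.Idx K) = C.par p := fun {y} hy => by
    obtain ⟨p, e⟩ := C.mem_range_of_fix (C.sys.mem_bnH.1 hy) (C.sys.le_fix y.2)
    exact ⟨p, e.symm⟩
  -- the four root vectors
  have hmem : L ≤ (stabS K).subgroupOf G := by
    rw [show L = Lv C.sys.uSub C.sys.n0G s from rfl, Lv, Subgroup.closure_le]
    rintro y (hy | ⟨x, hx, rfl⟩)
    · obtain ⟨t, u, e⟩ := hX hy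
      obtain ⟨h, -⟩ := blk_pos C t u
      show (y : GL chevF4.Idx K) ∈ stabS K
      rwa [e]
    · obtain ⟨t, u, e⟩ := hX hx
      show (C.sys.nO o1 * (x : GL chevF4.Idx K) * (C.sys.nO o1)⁻¹) ∈ stabS K
      rw [e]
      exact mul_mem (mul_mem (nO_stab C) (blk_pos C t u).1) (inv_mem (nO_stab C))
  let ρ : L →* GL (Fin 4) K := (blk K).comp
    (((twistedF4 K (2 ^ m)).subtype.comp L.subtype).codRestrict (stabS K) fun y => hmem y.2)
  have hρ : ∀ (y : L) (h : ((y : ↥G) : GL chevF4.Idx K) ∈ stabS K), ρ y = blk K ⟨_, h⟩ :=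
    fun _ _ => rfl
  have hSz : ∀ y : L, ρ y ∈ Sz K (2 ^ (m + 1)) := by
    rintro ⟨y, hy⟩
    suffices ∀ h : (y : GL chevF4.Idx K) ∈ stabS K, blk K ⟨_, h⟩ ∈ Sz K (2 ^ (m + 1)) from this _
    induction hy using Subgroup.closure_induction with
    | mem y hy =>
      intro h
      rcases hy with hy | ⟨x, hx, rfl⟩
      · obtain ⟨t, u, e⟩ := hX hy
        obtain ⟨h', e'⟩ := blk_pos C t u
        rw [show (⟨_, h⟩ : ↥(stabS K)) = ⟨_, h'⟩ from Subtype.ext e, e']
        exact uUnit_mem C.card _ _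
      · have hneg : (C.sys.nO o1 * (x : GL chevF4.Idx K) * (C.sys.nO o1)⁻¹) ∈
            rootClosure chevF4 K ((TwF4.O o1).negO DataF4.co) :=
          DataF4.facts.conj_rootClosure (C.sys.nO_perm o1)
            (fun r hr => C.sys.wO_inO o1 hr.1 hr.2) ((mem_X_tw C.sys 2 o1).1 hx)
        obtain ⟨t, u, e⟩ := fix_neg C (g := C.sys.nO o1 * (x : GL chevF4.Idx K) * (C.sys.nO o1)⁻¹)
          (mul_mem (mul_mem (C.sys.nO_mem o1) x.2) (inv_mem (C.sys.nO_mem o1))) hneg
        obtain ⟨h', e'⟩ := blk_neg C t u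
        rw [show (⟨_, h⟩ : ↥(stabS K)) = ⟨_, h'⟩ from Subtype.ext e, e']
        exact mul_mem (mul_mem (antiJUnit_mem_sz _) (uUnit_mem C.card _ _)) (antiJUnit_mem_sz _)
    | one =>
      intro h
      rw [show (⟨((1 : ↥G) : GL chevF4.Idx K), h⟩ : ↥(stabS K)) = 1 from Subtype.ext rfl, map_one]
      exact one_mem _
    | mul a b ha hb iha ihb =>
      intro h
      rw [show (⟨((a * b : ↥G) : GL chevF4.Idx K), h⟩ : ↥(stabS K)) = ⟨_, hmem ha⟩ * ⟨_, hmem hb⟩
        from Subtype.ext rfl, map_mul]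
      exact mul_mem (iha _) (ihb _)
    | inv a ha iha =>
      intro h
      rw [show (⟨((a⁻¹ : ↥G) : GL chevF4.Idx K), h⟩ : ↥(stabS K)) = ⟨_, hmem ha⟩⁻¹
        from Subtype.ext rfl, map_inv]
      exact inv_mem (iha _)
  have hXL : ∀ {x : ↥G}, x ∈ SplitLift.X C.sys.uSub (s * C.sys.n0G) → x ∈ L := fun hx =>
    Subgroup.subset_closure (Or.inl hx)
  have hXblk : ∀ {x : ↥G}, x ∈ SplitLift.X C.sys.uSub (s * C.sys.n0G) →
      ∀ h : (x : GL chevF4.Idx K) ∈ stabS K,
      ∃ t u, (x : GL chevF4.Idx K) = C.cl t u ∧ blk K ⟨_, h⟩ = uUnit m (C.f t) u := fun {x} hx h => by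
    obtain ⟨t, u, e⟩ := hX hx
    obtain ⟨h', e'⟩ := blk_pos C t u
    exact ⟨t, u, e, (congrArg (blk K) (Subtype.ext e)).trans e'⟩
  have hρi : Function.Injective ρ := by
    refine (injective_iff_map_eq_one ρ).2 ?_
    rintro ⟨y, hy⟩ e
    have e : blk K ⟨_, hmem hy⟩ = 1 := e
    rcases Lv_decomp hopp hs (BN.Eqv.refl (P := C.sys.bnPair) s) hy with
      ⟨x, hx, t, ht, rfl⟩ | ⟨x, hx, x', hx', t, ht, rfl⟩
    · obtain ⟨p, hp⟩ := hB ht
      obtain ⟨a, b, hxv, hxb⟩ := hXblk hx (hmem (hXL hx))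
      have e1 : blk K ⟨_, hmem hy⟩ = uUnit m (C.f a) b * blk K ⟨C.par p, par_stab C p⟩ := by
        rw [← hxb, ← map_mul]
        exact congrArg _ (Subtype.ext (congrArg ((x : GL chevF4.Idx K) * ·) hp))
      rw [e] at e1
      have hM := congrArg (fun g : GL (Fin 4) K => (g : Matrix (Fin 4) (Fin 4) K)) e1
      simp only [Units.val_one, Units.val_mul, uUnit_val] at hM
      have ent : ∀ i j : Fin 4, uMat m (C.f a) b i j * (chp C (sRoot j).val p : K) =
          if i = j then 1 else 0 := fun i j => by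
        have := congrFun (congrFun hM i) j
        rw [Matrix.one_apply, Matrix.mul_apply] at this
        simp only [blk_par C, mul_ite, mul_zero, Finset.sum_ite_eq', Finset.mem_univ, if_true] at this
        exact this.symm
      have hχ : ∀ i : Fin 4, chp C (sRoot i).val p = 1 := fun i => Units.ext (by
        have := ent i i
        fin_cases i <;> simpa [uMat] using this)
      have ha := ent 0 1
      have hb := ent 0 2
      rw [hχ] at ha hb
      simp [uMat] at ha hb
      have hx1 : (x : GL chevF4.Idx K) = 1 := by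
        rw [hxv, TwF4.Ctx.cl, ha, hb]
        simp [DataF4.facts.xU_zero (show f4a < chevF4.nroots by decide),
          DataF4.facts.xU_zero (show f4b < chevF4.nroots by decide),
          DataF4.facts.xU_zero (show f4ab < chevF4.nroots by decide),
          DataF4.facts.xU_zero (show f4aab < chevF4.nroots by decide)]
      refine Subtype.ext (Subtype.ext ?_)
      show (x : GL chevF4.Idx K) * (t : GL chevF4.Idx K) = 1
      rw [hx1, hp, par_eq_one C hχ, one_mul]
    · exfalso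
      obtain ⟨p, hp⟩ := hB ht
      have hxi : x⁻¹ ∈ SplitLift.X C.sys.uSub (s * C.sys.n0G) := inv_mem hx
      have hxi' : x'⁻¹ ∈ SplitLift.X C.sys.uSub (s * C.sys.n0G) := inv_mem hx'
      obtain ⟨a, b, -, hxb⟩ := hXblk hxi (hmem (hXL hxi))
      obtain ⟨a', b', -, hxb'⟩ := hXblk hxi' (hmem (hXL hxi'))
      have e1 : blk K ⟨C.sys.nO o1, nO_stab C⟩ =
          uUnit m (C.f a) b * blk K ⟨_, hmem hy⟩ * (blk K ⟨C.par p, par_stab C p⟩)⁻¹ *
            uUnit m (C.f a') b' := by
        rw [← hxb, ← hxb', ← map_inv, ← map_mul, ← map_mul, ← map_mul]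
        refine congrArg _ (Subtype.ext ?_)
        show C.sys.nO o1 = ((x⁻¹ : ↥G) : GL chevF4.Idx K) * ((x * s * x' * t : ↥G) : GL chevF4.Idx K) *
          (C.par p)⁻¹ * ((x'⁻¹ : ↥G) : GL chevF4.Idx K)
        rw [← hp]
        simp only [← Subgroup.coe_inv, ← Subgroup.coe_mul]
        exact congrArg Subtype.val (show s = x⁻¹ * (x * s * x' * t) * t⁻¹ * x'⁻¹ by group)
      rw [e, mul_one] at e1
      have e2 : uUnit m (C.f a) b * (blk K ⟨C.par p, par_stab C p⟩)⁻¹ * uUnit m (C.f a') b' =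
          uUnit m (C.f a) b * blk K ⟨C.par p⁻¹, par_stab C p⁻¹⟩ * uUnit m (C.f a') b' := by
        rw [← map_inv]
        exact congrArg (fun g => uUnit m (C.f a) b * g * uUnit m (C.f a') b')
          (congrArg _ (Subtype.ext (map_inv C.par p).symm))
      rw [e2] at e1
      have h30 := congrFun (congrFun (congrArg
        (fun g : GL (Fin 4) K => (g : Matrix (Fin 4) (Fin 4) K)) e1) 3) 0
      simp only [Units.val_mul, uUnit_val, blk_apply] at h30
      rw [Matrix.mul_apply, Fin.sum_univ_four] at h30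
      simp only [Matrix.mul_apply, Fin.sum_univ_four, blk_par C] at h30
      simp [uMat] at h30
      obtain ⟨c, hc0, -, hcol⟩ := C.sys.nO_perm o1 (sRoot 0)
      refine hc0 ?_
      rw [← h30, hcol, wO_apply C, if_pos (by rfl)]
  -- no kernel in the lifted group
  have hlift := Ms π 2 C.sys.uSub C.sys.n0G s
  set M := Ms π 2 C.sys.uSub C.sys.n0G s
  have hML : M.map π = L := map_Ms hc hopp hs
  let π' : M →* L := (π.comp M.subtype).codRestrict L fun y => hML ▸ Subgroup.mem_map_of_mem π y.2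
  have hπs : Function.Surjective π' := fun y => by
    obtain ⟨z, hz, e⟩ := (hML.symm ▸ y.2 : (y : ↥G) ∈ M.map π)
    exact ⟨⟨z, hz⟩, Subtype.ext e⟩
  have hker : ∀ z : M, z ∈ π'.ker → (z : E) ∈ π.ker := fun z hz => congrArg Subtype.val hz
  have hco : (Nat.card π'.ker).Coprime 2 := by
    refine Nat.Coprime.coprime_dvd_left (Subgroup.card_dvd_of_injective
      ((M.subtype.comp π'.ker.subtype).codRestrict π.ker fun z => hker z.1 z.2) ?_) hc.coprime
    intro a b e
    exact Subtype.ext (Subtype.ext (congrArg Subtype.val e :))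
  have hstem : Cfsg.IsStemExtension π' := by
    refine ⟨hπs, fun z hz => Subgroup.mem_center_iff.2 fun y => Subtype.ext
      (Subgroup.mem_center_iff.1 (hc.cen (hker z hz)) _), fun z hz => ?_⟩
    rw [← Abelianization.ker_of, MonoidHom.mem_ker]
    have h1 : (Abelianization.of z) ^ Nat.card π'.ker = 1 := by
      have := congrArg Subtype.val (@pow_card_eq_one' π'.ker _ (⟨z, hz⟩ : π'.ker))
      rw [← map_pow, ← map_one (Abelianization.of : M →* Abelianization M)]
      exact congrArg _ (by simpa using this)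
    have h2 : ∀ (y : E) (hy : y ∈ M), ∃ k : ℕ, (Abelianization.of (⟨y, hy⟩ : M)) ^ 2 ^ k = 1 := by
      intro y hy
      induction hy using Subgroup.closure_induction with
      | mem y hy =>
        rcases hy with ⟨x, hx, rfl⟩ | ⟨e, -, x, hx, rfl⟩
        all_goals
          obtain ⟨k, hk⟩ := U_pow hc hopp (X_U hc hopp hx)
          obtain ⟨-, j, hj⟩ := isLift_li hc hk
          refine ⟨j, ?_⟩
          rw [← map_pow]
          convert map_one (Abelianization.of : M →* Abelianization M)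
          refine Subtype.ext ?_
        · exact hj
        · rw [SubmonoidClass.coe_pow, conj_pow, hj, mul_one, mul_inv_cancel]
          rfl
      | one => exact ⟨0, by rw [pow_zero, pow_one]; exact map_one _⟩
      | mul a b ha hb iha ihb =>
        obtain ⟨k, hk⟩ := iha
        obtain ⟨l, hl⟩ := ihb
        refine ⟨k + l, ?_⟩
        show (Abelianization.of ((⟨a, ha⟩ : M) * ⟨b, hb⟩)) ^ 2 ^ (k + l) = 1
        rw [map_mul, mul_pow, pow_add, pow_mul, hk, one_pow, mul_comm (2 ^ k), pow_mul, hl, one_pow,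
          one_mul]
      | inv a ha iha =>
        obtain ⟨k, hk⟩ := iha
        refine ⟨k, ?_⟩
        show (Abelianization.of ((⟨a, ha⟩ : M)⁻¹)) ^ 2 ^ k = 1
        rw [map_inv, inv_pow, hk, inv_one]
    obtain ⟨k, hk⟩ := h2 z.1 z.2
    rw [← orderOf_eq_one_iff]
    exact Nat.eq_one_of_dvd_coprimes (hco.pow_right k) (orderOf_dvd_of_pow_eq_one h1)
      (orderOf_dvd_of_pow_eq_one hk)
  let ρ' : L →* ↥(Sz K (2 ^ (m + 1))) := ρ.codRestrict _ hSz
  have hρ' : Function.Injective ρ' := fun a b e => hρi (congrArg Subtype.val e)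
  have htriv := ker_eq_one_of_sylow_dvd π' hstem (fun r _ _ hrk => by
    have hr2 : r ≠ 2 := fun e => by
      subst e
      exact absurd (Nat.eq_one_of_dvd_coprimes hco hrk (dvd_refl 2)) (by norm_num)
    obtain ⟨P⟩ : Nonempty (Sylow r L) := inferInstance
    refine ⟨P, fun Δ _ τ _ hτc => ?_⟩
    obtain ⟨Q, hQ⟩ := (P.isPGroup'.map ρ').exists_le_sylow
    haveI := CfsgLib.Suzuki.sylow_cyclic C.card hm hr2 Q
    haveI : IsCyclic (P : Subgroup L) := isCyclic_of_injective
      ((Subgroup.inclusion hQ).comp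
        ((P : Subgroup L).equivMapOfInjective ρ' hρ').toMonoidHom)
      ((Subgroup.inclusion_injective hQ).comp
        ((P : Subgroup L).equivMapOfInjective ρ' hρ').injective)
    exact CfsgLib.Known.SL2Mult.free_of_cyclic τ hτc)
  have hπi : Function.Injective π' := (injective_iff_map_eq_one π').2 fun z hz => htriv z hz
  -- the torus of the rank one group
  have hT : ∀ y ∈ tau π C.sys.bnPair 2 C.sys.uSub C.sys.n0G s, ∀ hy : y ∈ M,
      ∃ a : Kˣ, ρ (π' ⟨y, hy⟩) = (CfsgLib.SuzukiLaws.T C.card a : GL (Fin 4) K) := by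
    intro y hy hyM
    obtain ⟨p, hp⟩ := hB hy.2
    have hd : ∀ i j : Fin 4, i ≠ j → (ρ (π' ⟨y, hyM⟩) : Matrix (Fin 4) (Fin 4) K) i j = 0 := by
      intro i j hij
      refine ((congrArg (fun g : ↥(stabS K) => (blk K g : Matrix (Fin 4) (Fin 4) K) i j)
        (Subtype.ext hp : (⟨_, hmem (π' ⟨y, hyM⟩).2⟩ : ↥(stabS K)) =
          ⟨C.par p, par_stab C p⟩)).trans ?_)
      rw [blk_par C, if_neg hij]
    obtain ⟨a, c, d, e, -⟩ := CfsgLib.SuzukiLaws.exists_borel C.card
      (⟨_, hSz (π' ⟨y, hyM⟩)⟩ : Sz K (2 ^ (m + 1))) (hd 1 0 (by decide)) (hd 2 0 (by decide))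
      (hd 3 0 (by decide))
    refine ⟨a, ?_⟩
    have e' : ρ (π' ⟨y, hyM⟩) =
        CfsgLib.SuzukiLaws.torus (2 ^ (m + 1)) a * uUnit m c d := congrArg Subtype.val e
    have hne := Units.ne_zero a
    have h01 := hd 0 1 (by decide)
    have h02 := hd 0 2 (by decide)
    rw [e'] at h01 h02
    simp [CfsgLib.SuzukiLaws.torus, uUnit_val, uMat, Matrix.diagonal_mul, hne] at h01 h02
    show ρ (π' ⟨y, hyM⟩) = CfsgLib.SuzukiLaws.torus (2 ^ (m + 1)) a
    rw [e', h01, h02, show (uUnit m (0 : K) 0) = 1 from congrArg Subtype.val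
      (CfsgLib.SuzukiLaws.U_zero C.card), mul_one]
  choose A hA using fun y : tau π C.sys.bnPair 2 C.sys.uSub C.sys.n0G s => hT y y.2 y.2.1
  refine (Nat.card_le_card_of_injective A fun y y' e => ?_).trans (le_of_eq ?_)
  · have := (hA y).trans ((congrArg (fun a => (CfsgLib.SuzukiLaws.T C.card a : GL (Fin 4) K)) e).trans
      (hA y').symm)
    exact Subtype.ext (congrArg (fun z : M => (z : E)) (hπi (hρi this)) :)
  · rw [Nat.card_units, Nat.card_eq_fintype_card, C.card]

/-- The rank one group of type A₁ is covered by SL₂. -/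
theorem rankOne_zero :
    ∃ φ : SL(2, K) →* ↥G, RankOne K C.sys.uSub C.sys.n0G (C.sys.nG o0) φ := by
  haveI : Fact (Nat.Prime 2) := ⟨Nat.prime_two⟩
  have hF := DataF4.facts
  obtain ⟨A, B, A', Nn⟩ := C.commute_pair
  obtain ⟨-, -, -, h4, n1, n4⟩ := TwF4.pair_cross
  obtain ⟨s0, -, -, s3, -⟩ := TwF4.torus_tables
  have hr : f4p4 < chevF4.nroots := by decide
  have hs : f4p1 < chevF4.nroots := by decide
  have B' := C.sig.commute_xU (show f4m4 < chevF4.nroots by decide)
    (show f4m1 < chevF4.nroots by decide) h4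
  rw [← n4, ← n1] at B'
  obtain ⟨H, R, -⟩ := (hF.rankOne (F := K) hs).exists_prod (hF.rankOne (F := K) hr) C.f
    (fun x y => (A y x).symm) (fun x y => (by rw [n4]; exact (A' y x).symm))
    (fun x y => (by rw [n1]; exact (B y x).symm)) (fun x y => (B' y x).symm)
  obtain ⟨φ, hmem, hval⟩ := R.exists_hom
  have hword := rk_tables.2.2.2.2.2.2.2
  have hgen : ∀ t : K, (xU chevF4 f4p1 (C.f t) * xU chevF4 f4p4 t ∈ G) ∧
      (xU chevF4 (chevF4.neg f4p1) (C.f t) * xU chevF4 (chevF4.neg f4p4) t ∈ G) := fun t => by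
    have hP := C.mem_gen (Or.inl ⟨t, Or.inl rfl⟩)
    have hM := C.mem_gen (Or.inl ⟨t, Or.inr rfl⟩)
    simp only [f4PairWord, wU, List.map_cons, List.map_nil, List.prod_cons, List.prod_nil, mul_one,
      ← C.hf] at hP hM
    exact ⟨hP, by rw [n1, n4]; exact hM⟩
  have hG : ∀ g, φ g ∈ G := fun g => (Subgroup.closure_le _).2 (by
    rintro _ (⟨t, rfl⟩ | ⟨t, rfl⟩)
    · exact (hgen t).1
    · exact (hgen t).2) (hmem g)
  have hup : ∀ t : K, φ (upM t) = xU chevF4 f4p1 (C.f t) * xU chevF4 f4p4 t := fun t => (hval _ t).1 rfl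
  have hwM : φ wM = nW chevF4 K (TwF4.O o0).word := by
    rw [CfsgLib.Chev.TwD4.Torus.wM_eq, map_mul, map_mul, (hval (upM 1) 1).1 rfl,
      (hval (CfsgLib.Chev.TwD4.Torus.loM (-1)) (-1)).2 rfl, hword]
    have := R.key 1
    simp only [Units.val_one, inv_one, map_one, one_mul] at this ⊢
    rw [this, nW]
    simp [nS, s0, s3, (Nn 1 1).eq]
  refine ⟨φ.codRestrict _ hG, rankOne_tw C.sys 2 o0 _ ?_ ?_ ?_ ?_ ?_⟩
  · intro c
    show φ (upM c) ∈ _
    rw [hup]
    have h := fun r hr => posO_iff_list DataF4.chk_arrays (p := ([0, 3], [0, 3]))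
      TwF4.pos_lists.1 r hr
    exact mul_mem (xU_mem_rootClosure hs ((h _ hs).2 (by simp)) _)
      (xU_mem_rootClosure hr ((h _ hr).2 (by simp)) _)
  · intro g hg
    obtain ⟨t, e⟩ := C.fix_pair (C.sys.le_fix g.2) (rootClosure_mono
      (fun r hr h => (posO_iff_list DataF4.chk_arrays (p := ([0, 3], [0, 3]))
        TwF4.pos_lists.1 r hr).1 h) hg)
    refine ⟨t, Subtype.ext ?_⟩
    show φ (upM _) = _
    rw [hup, e, C.hf]
    simp [wU]
  · intro c hc
    have h1 : φ (upM c) = 1 := congrArg Subtype.val hc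
    rw [hup] at h1
    have := DataF4.facts.coords_unique C.sig.hC TwF4.coords.1 (ts := [C.f c, c]) (ts' := [0, 0])
      rfl rfl (by simpa [wU, hF.xU_zero hs, hF.xU_zero hr] using h1)
    exact (List.cons.inj (List.cons.inj this).2).1
  · show φ wM ∈ _
    rw [hwM]
    exact hF.nW_mem _
  · show PermAct (φ wM) _
    rw [hwM]
    exact hF.permAct_nW _

/-- Every stem extension of ²F₄(q) is trivial. -/
theorem stem_card_le_one (hm : 1 ≤ m) (E : Type v) [Group E] [Finite E]
    (π : E →* ↥G) (hπ : Cfsg.IsStemExtension π) : Nat.card π.ker ≤ 1 := by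
  classical
  haveI : Fact (Nat.Prime 2) := ⟨Nat.prime_two⟩
  set q := 2 ^ (2 * m + 1) with hq
  have hq8 : 8 ≤ q := (show 8 ≤ 2 ^ 3 by norm_num).trans (Nat.pow_le_pow_right two_pos (by omega))
  have hperf := C.perfect_twisted hm
  have hU12 : Nat.card ↥C.sys.uSub = q ^ 12 := by
    rw [← C.card_posU, TwSys.uSub, DataF4.facts.posUnipotent_eq, ← Subgroup.inf_subgroupOf_right]
    exact Nat.card_congr (Subgroup.subgroupOfEquivOfLe inf_le_right).toEquiv
  have hidx : ¬ 2 ∣ C.sys.uSub.index := by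
    intro hd
    have hm' := C.sys.uSub.card_mul_index
    rw [hU12, C.card_twisted, ← hq, mul_assoc, mul_assoc, mul_assoc] at hm'
    rw [Nat.eq_of_mul_eq_mul_left (pow_pos (by omega) 12) hm'] at hd
    have h2 : 2 ∣ q := dvd_pow_self 2 (by omega)
    have odd : ∀ j, 0 < j → ¬ 2 ∣ q ^ j + 1 := fun j hj => by
      have := dvd_pow h2 hj.ne'
      omega
    have odd' : ∀ j, 0 < j → ¬ 2 ∣ q ^ j - 1 := fun j hj => by
      have := dvd_pow h2 hj.ne'
      have := pow_pos (show 0 < q by omega) j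
      omega
    simp only [Nat.prime_two.dvd_mul] at hd
    rcases hd with h | h | h | h
    exacts [odd' 1 (by norm_num) (by simpa using h), odd 3 (by norm_num) h, odd' 4 (by norm_num) h,
      odd 6 (by norm_num) h]
  have hG : ∀ N : Subgroup ↥G, N.Normal → C.sys.uSub ≤ N → N = ⊤ := by
    intro N hN hle
    haveI := (C.simple_twisted hm).1
    refine (Subgroup.Normal.eq_bot_or_eq_top hN).resolve_left fun h => ?_
    rw [h, le_bot_iff] at hle
    rw [hle, Subgroup.card_bot] at hU12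
    have := Nat.one_lt_pow (show (12 : ℕ) ≠ 0 by norm_num) (show 1 < q by omega)
    omega
  refine SplitLift.stem_card_le 2 (fun E _ _ σ hσ hpk z hz => ?_) (fun E _ _ σ hσ hco => ?_) E π hπ
  · obtain ⟨B, hB, hU⟩ := exists_split C hm σ hσ.1 hσ.2.1
    have hle : C.sys.uSub ≤ B.map σ := by
      rw [TwSys.uSub, show chevF4.nroots / 2 = 24 by decide +kernel]
      exact hU
    have hnd := Schur.CoprimeLift.not_dvd_card_ker hσ.1 hσ.2.1
      (SplitLift.perfect_of_stem hperf hσ) hidx B hB hle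
    obtain ⟨k, hk⟩ := IsPGroup.iff_card.1 hpk
    rcases Nat.eq_zero_or_pos k with rfl | hk0
    · rw [Subgroup.eq_bot_of_card_eq _ (hk.trans (pow_zero 2)), Subgroup.mem_bot] at hz
      exact hz
    · exact absurd (hk ▸ dvd_pow_self 2 hk0.ne') hnd
  · have hb := card_coprime_tw C.sys 2 hG hperf (fun _ => q - 1)
      (TwF4.fin_cases_spec (fun E _ _ π' hc => by
        obtain ⟨φ, hφ⟩ := rankOne_zero C
        exact (card_tau_le hc (tw_opp C.sys 2) ⟨o0, rfl⟩ hφ).trans_eq (by rw [C.card]))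
        (fun E _ _ π' hc => card_tau_one C hm π' hc)) E σ hσ hco
    have hT : Nat.card ↥(C.sys.bnPair.B ⊓ C.sys.bnPair.N) = (q - 1) ^ 2 := by
      rw [← C.card_torus]
      exact Nat.card_congr
        { toFun := fun g => ⟨g.1.1, C.sys.mem_bnH.1 g.2, g.1.2⟩
          invFun := fun g => ⟨⟨g.1, g.2.2⟩, C.sys.mem_bnH.2 g.2.1⟩
          left_inv := fun _ => rfl
          right_inv := fun _ => rfl }
    rw [hT, Finset.prod_const, Finset.card_univ, Fintype.card_fin,
      show TwF4.spec.length = 2 from rfl] at hb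
    exact Nat.le_of_mul_le_mul_right (by rwa [one_mul]) (pow_pos (by omega) 2)

end CfsgLib.Known.RootLift.F4
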